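import Cfsg.Agent.Lib.Goldschmidt.Basic
import Cfsg.Agent.Lib.Goldschmidt.NoComp

/-!
# Goldschmidt, rank two: the automizer and the centralizers of the involutions of `A`

`N(A)` induces a group of order three on the four-group `A`, every Sylow 2-subgroup containing `A` centralises
it, and `C(e) = O(C(e)) C(A)` for `e ∈ A#`.
-/

set_option autoImplicit false
set_option linter.unusedSectionVars false
set_option linter.style.haveILetI false

namespace CfsgLib.Goldschmidt.RankTwo

open Subgroup CfsgLib.Walter.RankFour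

universe u

local instance : Fact (Nat.Prime 2) := ⟨Nat.prime_two⟩

variable {G : Type u} [Group G] [Finite G]

/-- The standing hypothesis: a setting with a four-group in a non-abelian simple group. -/
structure Data (G : Type u) [Group G] where
  E : Setting G
  four : Nat.card ↥E.A = 4
  nc : ¬ IsMulCommutative G

namespace Data

variable (D : Data G)

/-- `A`. -/
abbrev A : Subgroup G := D.E.A

theorem sq {a : G} (ha : a ∈ D.A) : a * a = 1 := by rw [← pow_two]; exact D.E.pow_two_A ha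

theorem inv_eq {a : G} (ha : a ∈ D.A) : a⁻¹ = a := inv_eq_of_mul_eq_one_right (D.sq ha)

theorem orderOf_eq {a : G} (ha : a ∈ D.A) (ha1 : a ≠ 1) : orderOf a = 2 :=
  orderOf_eq_prime (D.E.pow_two_A ha) ha1

theorem cases {a b : G} (ha : a ∈ D.A) (ha1 : a ≠ 1) (hb : b ∈ D.A) (hb1 : b ≠ 1) (hab : a ≠ b) {c : G}
    (hc : c ∈ D.A) : c = 1 ∨ c = a ∨ c = b ∨ c = a * b := by
  classical
  by_contra h
  push Not at h
  have hm : (({1, a, b, a * b, c} : Finset G) : Set G) ⊆ (D.A : Set G) := by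
    intro x hx
    simp only [Finset.coe_insert, Finset.coe_singleton, Set.mem_insert_iff, Set.mem_singleton_iff] at hx
    rcases hx with rfl | rfl | rfl | rfl | rfl
    exacts [one_mem _, ha, hb, mul_mem ha hb, hc]
  have hab1 : a * b ≠ 1 := fun e => hab ((eq_inv_of_mul_eq_one_left e).trans (D.inv_eq hb))
  have h5 : ({1, a, b, a * b, c} : Finset G).card = 5 := by
    rw [Finset.card_insert_of_notMem, Finset.card_insert_of_notMem, Finset.card_insert_of_notMem,
      Finset.card_insert_of_notMem, Finset.card_singleton]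
    all_goals simp only [Finset.mem_insert, Finset.mem_singleton, not_or]
    · exact Ne.symm h.2.2.2
    · exact ⟨fun e => ha1 (by simpa using e.symm), Ne.symm h.2.2.1⟩
    · exact ⟨hab, fun e => hb1 (by simpa using e.symm), Ne.symm h.2.1⟩
    · exact ⟨Ne.symm ha1, Ne.symm hb1, Ne.symm hab1, Ne.symm h.1⟩
  have hle := Set.ncard_le_ncard hm (Set.toFinite _)
  rw [Set.ncard_coe_finset, h5, ← Nat.card_coe_set_eq, SetLike.coe_sort_coe, D.four] at hle
  omega

theorem exists_ne : ∃ a ∈ D.A, a ≠ 1 := by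
  obtain ⟨⟨a, ha⟩, h⟩ := Subgroup.ne_bot_iff_exists_ne_one.1 D.E.ne_bot
  exact ⟨a, ha, fun e => h (Subtype.ext e)⟩

theorem exists_other (e : G) : ∃ f ∈ D.A, f ≠ 1 ∧ f ≠ e := by
  classical
  by_contra h
  push Not at h
  have hsub : (D.A : Set G) ⊆ {1, e} := fun x hx => by
    by_cases hx1 : x = 1
    · exact Or.inl hx1
    · exact Or.inr (h x hx hx1)
  have h1 := (Set.ncard_le_ncard hsub (Set.toFinite _)).trans (Set.ncard_insert_le _ _)
  rw [Set.ncard_singleton, ← Nat.card_coe_set_eq, SetLike.coe_sort_coe, D.four] at h1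
  omega

theorem conjA {n a : G} (hn : n ∈ normalizer (D.A : Set G)) (ha : a ∈ D.A) : n * a * n⁻¹ ∈ D.A :=
  (mem_normalizer_iff.1 hn a).1 ha

/-- An element of `N(A)` moving every involution of `A`. -/
structure Rot (n : G) : Prop where
  mem : n ∈ normalizer (D.A : Set G)
  free : ∀ a ∈ D.A, n * a * n⁻¹ = a → a = 1

theorem rot_of_cycle {n a b : G} (hn : n ∈ normalizer (D.A : Set G)) (ha : a ∈ D.A) (ha1 : a ≠ 1)
    (hb : b ∈ D.A) (hb1 : b ≠ 1) (hab : a ≠ b) (h1 : n * a * n⁻¹ = b) (h2 : n * b * n⁻¹ = a * b) :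
    D.Rot n := by
  have hc : n * (a * b) * n⁻¹ = a := by
    rw [show n * (a * b) * n⁻¹ = (n * a * n⁻¹) * (n * b * n⁻¹) by group, h1, h2, ← mul_assoc,
      D.E.commute_A hb ha, mul_assoc, D.sq hb, mul_one]
  refine ⟨hn, fun c hc' hfix => ?_⟩
  rcases D.cases ha ha1 hb hb1 hab hc' with rfl | rfl | rfl | rfl
  · rfl
  · exact absurd (hfix.symm.trans h1) hab
  · exact absurd (hfix.symm.trans h2) fun e => ha1 (mul_eq_right.1 e.symm)
  · exact absurd (hfix.symm.trans hc) fun e => hb1 (mul_eq_left.1 e)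

theorem exists_moving {a : G} (ha : a ∈ D.A) (ha1 : a ≠ 1) :
    ∃ n ∈ normalizer (D.A : Set G), n * a * n⁻¹ ≠ a := by
  by_contra h
  push Not at h
  have hz : zpowers a ≤ D.A := zpowers_le.2 ha
  rcases D.E.irr _ hz (le_normalizer_iff.2 fun n hn x hx => by
    obtain ⟨i, rfl⟩ := mem_zpowers_iff.1 hx
    rw [← conj_zpow, h n hn]
    exact zpow_mem (mem_zpowers a) i) with h1 | h1
  · exact ha1 (zpowers_eq_bot.1 h1)
  · have hc : Nat.card ↥(zpowers a) = 4 := by rw [h1]; exact D.four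
    rw [Nat.card_zpowers, D.orderOf_eq ha ha1] at hc
    omega

theorem conj_swap {n a b : G} (ha : a ∈ D.A) (hb : b ∈ D.A) (h1 : n * a * n⁻¹ = b) (h2 : n * b * n⁻¹ = a) :
    n * (a * b) * n⁻¹ = a * b := by
  rw [show n * (a * b) * n⁻¹ = (n * a * n⁻¹) * (n * b * n⁻¹) by group, h1, h2, D.E.commute_A hb ha]

theorem exists_rot : ∃ n, D.Rot n := by
  obtain ⟨a, ha, ha1⟩ := D.exists_ne
  obtain ⟨n, hn, hna⟩ := D.exists_moving ha ha1
  obtain ⟨b, hb⟩ : ∃ b, b = n * a * n⁻¹ := ⟨_, rfl⟩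
  rw [← hb] at hna
  have hbA : b ∈ D.A := hb ▸ D.conjA hn ha
  have hb1 : b ≠ 1 := fun e => ha1 (conj_eq_one_iff.1 (hb ▸ e))
  have hab : a ≠ b := Ne.symm hna
  have hab1 : a * b ≠ 1 := fun e => hab ((eq_inv_of_mul_eq_one_left e).trans (D.inv_eq hbA))
  rcases D.cases ha ha1 hbA hb1 hab (D.conjA hn hbA) with h | h | h | h
  · exact absurd (conj_eq_one_iff.1 h) hb1
  swap
  · exact absurd ((MulAut.conj n).injective (h.trans hb : MulAut.conj n b = MulAut.conj n a)) (Ne.symm hab)
  swap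
  · exact ⟨n, D.rot_of_cycle hn ha ha1 hbA hb1 hab hb.symm h⟩
  set c := a * b with hc
  have hcA : c ∈ D.A := mul_mem ha hbA
  have hnc : n * c * n⁻¹ = c := D.conj_swap ha hbA hb.symm h
  obtain ⟨m, hm, hmc⟩ := D.exists_moving hcA hab1
  have hac : a ≠ c := fun e => hb1 (mul_eq_left.1 e.symm)
  have hbc : b ≠ c := fun e => ha1 (mul_eq_right.1 e.symm)
  have hnm := mul_mem hn hm
  have hca : c * a = b := by
    rw [hc, D.E.commute_A ha hbA, mul_assoc, D.sq ha, mul_one]
  have hcb : c * b = a := by rw [hc, mul_assoc, D.sq hbA, mul_one]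
  have hconj : ∀ x : G, n * m * x * (n * m)⁻¹ = n * (m * x * m⁻¹) * n⁻¹ := fun x => by group
  rcases D.cases ha ha1 hbA hb1 hab (D.conjA hm hcA) with h' | h' | h' | h'
  · exact absurd (conj_eq_one_iff.1 h') hab1
  · rcases D.cases ha ha1 hbA hb1 hab (D.conjA hm ha) with k | k | k | k
    · exact absurd (conj_eq_one_iff.1 k) ha1
    · exact absurd ((MulAut.conj m).injective (k.trans h'.symm)) hac
    · refine ⟨m, D.rot_of_cycle hm hcA hab1 ha ha1 (Ne.symm hac) h' (k.trans ?_)⟩
      rw [hc, D.E.commute_A (mul_mem ha hbA) ha, ← mul_assoc, D.sq ha, one_mul]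
    · refine ⟨n * m, D.rot_of_cycle hnm hcA hab1 hbA hb1 (Ne.symm hbc) ?_ ?_⟩
      · rw [hconj, h', ← hb]
      · rw [hconj]
        have : m * b * m⁻¹ = b := by
          have e := D.conj_swap hcA ha h' k
          rwa [hca] at e
        rw [this, h, hc, mul_assoc, D.sq hbA, mul_one]
  · rcases D.cases ha ha1 hbA hb1 hab (D.conjA hm hbA) with k | k | k | k
    · exact absurd (conj_eq_one_iff.1 k) hb1
    · refine ⟨m, D.rot_of_cycle hm hcA hab1 hbA hb1 (Ne.symm hbc) h' (k.trans ?_)⟩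
      rw [hc, mul_assoc, D.sq hbA, mul_one]
    · exact absurd ((MulAut.conj m).injective (k.trans h'.symm)) hbc
    · refine ⟨n * m, D.rot_of_cycle hnm hcA hab1 ha ha1 (Ne.symm hac) ?_ ?_⟩
      · rw [hconj, h', h]
      · rw [hconj]
        have : m * a * m⁻¹ = a := by
          have e := D.conj_swap hcA hbA h' k
          rwa [hcb] at e
        rw [this, ← hb, hc, D.E.commute_A (mul_mem ha hbA) ha, ← mul_assoc, D.sq ha, one_mul]
  · exact absurd h' hmc

theorem rot_trans {n a b : G} (hn : D.Rot n) (ha : a ∈ D.A) (ha1 : a ≠ 1) (hb : b ∈ D.A) (hb1 : b ≠ 1) :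
    ∃ i : ℕ, n ^ i * a * (n ^ i)⁻¹ = b := by
  set a' := n * a * n⁻¹ with h'
  have ha'A := D.conjA hn.mem ha
  have ha'1 : a' ≠ 1 := fun e => ha1 (conj_eq_one_iff.1 e)
  have hne : a ≠ a' := fun e => ha1 (hn.free a ha e.symm)
  rcases D.cases ha ha1 ha'A ha'1 hne hb with h | h | h | h
  · exact absurd h hb1
  · exact ⟨0, by simp [h]⟩
  · exact ⟨1, by rw [pow_one, h]⟩
  · refine ⟨2, ?_⟩
    have e : n ^ 2 * a * (n ^ 2)⁻¹ = n * a' * n⁻¹ := by rw [pow_two, h']; group
    rw [e, h]
    rcases D.cases ha ha1 ha'A ha'1 hne (D.conjA hn.mem ha'A) with k | k | k | k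
    · exact absurd (conj_eq_one_iff.1 k) ha'1
    · exact absurd (hn.free _ (mul_mem ha ha'A) (D.conj_swap ha ha'A h'.symm k)) fun e' =>
        hne ((eq_inv_of_mul_eq_one_left e').trans (D.inv_eq ha'A))
    · exact absurd (hn.free a' ha'A k) ha'1
    · exact k

/-- The involutions of `A` are conjugate. -/
theorem isConj_of_mem {a b : G} (ha : a ∈ D.A) (ha1 : a ≠ 1) (hb : b ∈ D.A) (hb1 : b ≠ 1) :
    IsConj a b := by
  obtain ⟨n, hn⟩ := D.exists_rot
  obtain ⟨i, hi⟩ := D.rot_trans hn ha ha1 hb hb1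
  exact isConj_iff.2 ⟨n ^ i, hi⟩

theorem card_aut_dvd : Nat.card ↥D.E.aut ∣ 6 := by
  classical
  haveI : Fintype ↥D.A := Fintype.ofFinite _
  let φ : MulAut ↥D.A →* Equiv.Perm {x : ↥D.A // x ≠ 1} :=
    { toFun := fun f => f.toEquiv.subtypeEquiv fun x => by simp
      map_one' := by ext; rfl
      map_mul' := fun f g => by ext; rfl }
  have hφ : Function.Injective φ := fun f g h => MulEquiv.ext fun x => by
    by_cases hx : x = 1
    · simp [hx]
    · exact congrArg Subtype.val (DFunLike.congr_fun h ⟨x, hx⟩)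
  have h3 : Fintype.card {x : ↥D.A // x ≠ 1} = 3 := by
    rw [Fintype.card_subtype_compl, Fintype.card_subtype_eq, ← Nat.card_eq_fintype_card, D.four]
  have h6 : Nat.card (Equiv.Perm {x : ↥D.A // x ≠ 1}) = 6 := by
    rw [Nat.card_eq_fintype_card, Fintype.card_perm, h3]; rfl
  exact (card_subgroup_dvd_card D.E.aut).trans (h6 ▸ card_dvd_of_injective φ hφ)

variable [IsSimpleGroup G]

theorem sylow_S_le : (D.E.S : Subgroup G) ≤ centralizer (D.A : Set G) := by
  classical
  obtain ⟨n, hn⟩ := D.exists_rot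
  set f : ↥D.E.aut := D.A.normalizerMonoidHom.rangeRestrict ⟨n, hn.mem⟩ with hf
  obtain ⟨a, ha, ha1⟩ := D.exists_ne
  have hd : 3 ∣ orderOf f := by
    have hf6 : orderOf f ∣ 6 := (orderOf_dvd_natCard f).trans D.card_aut_dvd
    have key : ∀ k, orderOf f ∣ k → n ^ k * a * (n ^ k)⁻¹ = a := by
      intro k hk
      have h1 : f ^ k = 1 := orderOf_dvd_iff_pow_eq_one.1 hk
      have h1' : D.A.normalizerMonoidHom.rangeRestrict (⟨n, hn.mem⟩ ^ k) = 1 :=
        ((map_pow _ _ _).trans h1 :)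
      have := congrArg (fun m => (((Subtype.val m : MulAut ↥D.A) ⟨a, ha⟩ : ↥D.A) : G)) h1'
      simpa using this
    have h2 : ¬ orderOf f ∣ 2 := by
      intro h
      have e := key 2 h
      set a' := n * a * n⁻¹ with h'
      have ha'A := D.conjA hn.mem ha
      have hne : a ≠ a' := fun e => ha1 (hn.free a ha e.symm)
      have h2' : n * a' * n⁻¹ = a := by rw [h']; simpa [pow_two, mul_assoc] using e
      exact hne ((eq_inv_of_mul_eq_one_left (hn.free _ (mul_mem ha ha'A)
        (D.conj_swap ha ha'A h'.symm h2'))).trans (D.inv_eq ha'A))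
    have hle := Nat.le_of_dvd (by norm_num) hf6
    interval_cases hk : orderOf f <;> omega
  refine D.E.le_centralizer_of_twoComplement D.nc ?_
  set K := zpowers (f ^ (orderOf f / 3)) with hK
  have hK3 : Nat.card K = 3 := by
    have hpos := orderOf_pos f
    rw [hK, Nat.card_zpowers, orderOf_pow_of_dvd (Nat.div_pos (Nat.le_of_dvd hpos hd) (by norm_num)).ne'
      (Nat.div_dvd_of_dvd hd), Nat.div_div_self hd hpos.ne']
  have hidx : K.index ∣ 2 := by
    have h := D.card_aut_dvd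
    rw [← K.card_mul_index, hK3, show (6 : ℕ) = 3 * 2 by norm_num] at h
    exact Nat.dvd_of_mul_dvd_mul_left (by norm_num) h
  haveI : K.Normal := by
    rcases (Nat.dvd_prime Nat.prime_two).1 hidx with h | h
    · rw [Subgroup.index_eq_one.1 h]; infer_instance
    · exact normal_of_index_eq_two h
  refine ⟨K, inferInstance, by rw [hK3]; decide, fun g => ⟨1, ?_⟩⟩
  have hg := pow_index_mem K g
  obtain ⟨c, hc⟩ := hidx
  rw [show (2 : ℕ) ^ 1 = K.index * c by rw [pow_one, ← hc], pow_mul]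
  exact pow_mem hg c

/-- Every 2-element of `N(A)` centralises `A`. -/
theorem centralizes_of_two {x : G} (hx : x ∈ normalizer (D.A : Set G)) {k : ℕ} (hk : x ^ 2 ^ k = 1)
    {a : G} (ha : a ∈ D.A) : x * a * x⁻¹ = a := by
  set f : ↥D.E.aut := D.A.normalizerMonoidHom.rangeRestrict ⟨x, hx⟩ with hf
  have h1 : f ^ 2 ^ k = 1 := by
    exact ((map_pow D.A.normalizerMonoidHom.rangeRestrict _ _).symm.trans
      ((congrArg _ (Subtype.ext hk : (⟨x, hx⟩ : ↥(normalizer (D.A : Set G))) ^ 2 ^ k = 1)).trans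
        (map_one _)) :)
  have hodd := D.E.odd_card_aut D.sylow_S_le
  have hf1 : f = 1 := by
    rw [← orderOf_eq_one_iff]
    exact Nat.eq_one_of_dvd_coprimes ((Nat.coprime_two_left.2 hodd).pow_left k)
      (orderOf_dvd_of_pow_eq_one h1) (orderOf_dvd_natCard f)
  have := congrArg (fun m : ↥D.E.aut => (((m : MulAut ↥D.A) ⟨a, ha⟩ : ↥D.A) : G)) hf1
  simpa [hf] using this

/-- A strongly closed subgroup is centralised by every Sylow 2-subgroup containing it. -/
theorem sylow_le_centralizer (P : Sylow 2 G) (hP : D.A ≤ (P : Subgroup G)) :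
    (P : Subgroup G) ≤ centralizer (D.A : Set G) := by
  intro x hx
  have hsc := Cfsg.Agent.S1249.result D.E.S P D.A hP D.E.sc
  obtain ⟨k, hk⟩ := P.isPGroup' ⟨x, hx⟩
  refine mem_centralizer_iff.2 fun a ha => ?_
  exact (mul_inv_eq_iff_eq_mul.1
    (D.centralizes_of_two (sc_le_normalizer hsc hx) (congrArg Subtype.val hk) ha)).symm

/-- An element of `N(A)` fixing an involution of `A` centralises `A`. -/
theorem centralizes_of_fix {n e : G} (hn : n ∈ normalizer (D.A : Set G)) (he : e ∈ D.A) (he1 : e ≠ 1)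
    (hfix : n * e * n⁻¹ = e) : n ∈ centralizer (D.A : Set G) := by
  have key : ∀ a ∈ D.A, n * a * n⁻¹ = a := by
    intro a ha
    by_cases hae : a = e
    · rw [hae, hfix]
    by_cases ha1 : a = 1
    · rw [ha1, mul_one, mul_inv_cancel]
    set f : ↥D.E.aut := D.A.normalizerMonoidHom.rangeRestrict ⟨n, hn⟩ with hf
    have hf2 : f ^ 2 = 1 := by
      refine ((map_pow D.A.normalizerMonoidHom.rangeRestrict ⟨n, hn⟩ 2).symm.trans ?_ :)
      refine Subtype.ext (MulEquiv.ext fun b => Subtype.ext ?_)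
      show (n ^ 2) * (b : G) * (n ^ 2)⁻¹ = b
      rcases D.cases he he1 ha ha1 (Ne.symm hae) b.2 with h | h | h | h <;> rw [h]
      · group
      · rw [pow_two, mul_inv_rev, show n * n * e * (n⁻¹ * n⁻¹) = n * (n * e * n⁻¹) * n⁻¹ by group, hfix,
          hfix]
      all_goals
        rcases D.cases he he1 ha ha1 (Ne.symm hae) (D.conjA hn ha) with k | k | k | k
        · exact absurd (conj_eq_one_iff.1 k) ha1
        · exact absurd ((MulAut.conj n).injective (k.trans hfix.symm)) hae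
        · rw [pow_two, mul_inv_rev]
          first
          | rw [show n * n * a * (n⁻¹ * n⁻¹) = n * (n * a * n⁻¹) * n⁻¹ by group, k, k]
          | rw [show n * n * (e * a) * (n⁻¹ * n⁻¹) =
              (n * (n * e * n⁻¹) * n⁻¹) * (n * (n * a * n⁻¹) * n⁻¹) by group, hfix, hfix, k, k]
        · have k2 : n * (e * a) * n⁻¹ = a := by
            rw [show n * (e * a) * n⁻¹ = (n * e * n⁻¹) * (n * a * n⁻¹) by group, hfix, k, ← mul_assoc,
              D.sq he, one_mul]
          rw [pow_two, mul_inv_rev]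
          first
          | rw [show n * n * a * (n⁻¹ * n⁻¹) = n * (n * a * n⁻¹) * n⁻¹ by group, k, k2]
          | rw [show n * n * (e * a) * (n⁻¹ * n⁻¹) = n * (n * (e * a) * n⁻¹) * n⁻¹ by group, k2, k]
    have hodd := D.E.odd_card_aut D.sylow_S_le
    have hf1 : f = 1 := by
      rw [← orderOf_eq_one_iff]
      exact Nat.eq_one_of_dvd_coprimes (Nat.coprime_two_left.2 hodd)
        (orderOf_dvd_of_pow_eq_one hf2) (orderOf_dvd_natCard f)
    have := congrArg (fun m : ↥D.E.aut => (((m : MulAut ↥D.A) ⟨a, ha⟩ : ↥D.A) : G)) hf1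
    simpa [hf] using this
  exact mem_centralizer_iff.2 fun a ha => (mul_inv_eq_iff_eq_mul.1 (key a ha)).symm

/-- In `C(e)` every other involution of `A` is isolated, so `A` is central modulo the core. -/
theorem comm_mem_core {e : G} (he : e ∈ D.A) (he1 : e ≠ 1) {c : G} (hc : c ∈ cen e) {f : G}
    (hf : f ∈ D.A) :
    bar e ⟨c, hc⟩ * bar e ⟨f, D.E.le_cen he hf⟩ = bar e ⟨f, D.E.le_cen he hf⟩ * bar e ⟨c, hc⟩ := by
  by_cases hf1 : f = 1
  · subst hf1
    rw [show (⟨1, D.E.le_cen he hf⟩ : ↥(cen e)) = 1 from rfl, map_one, mul_one, one_mul]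
  set u : ↥(cen e) := ⟨f, D.E.le_cen he hf⟩ with hu
  have hiso : Cfsg.IsIsolatedInvolution u := by
    refine ⟨by rw [← Subgroup.orderOf_coe]; exact D.orderOf_eq hf hf1, fun g hg => Subtype.ext ?_⟩
    set v : G := (g : G) * f * (g : G)⁻¹ with hv
    have hgc : (g : G) * e = e * g := mem_centralizer_singleton_iff.1 g.2
    have hge : (g : G) * e * (g : G)⁻¹ = e := by rw [hgc, mul_inv_cancel_right]
    have hvf : Commute f v := congrArg Subtype.val hg
    have hve : Commute e v := by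
      have h := (show Commute e f from D.E.commute_A he hf).map (MulAut.conj (g : G)).toMonoidHom
      simpa [hge, hv] using h
    show v = f
    by_cases hfe : f = e
    · rw [hv, hfe, hge]
    have hvA : ∀ a ∈ D.A, a * v = v * a := by
      intro a ha
      rcases D.cases he he1 hf hf1 (Ne.symm hfe) ha with rfl | rfl | rfl | rfl
      · simp
      · exact hve.eq
      · exact hvf.eq
      · exact (hve.mul_left hvf).eq
    have hv2 : orderOf v = 2 := by
      rw [hv, ← MulAut.conj_apply, MulEquiv.orderOf_eq]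
      exact D.orderOf_eq hf hf1
    have hX : IsPGroup 2 (D.A ⊔ zpowers v : Subgroup G) :=
      D.E.isPGroup_A.to_sup_of_normal_left'
        (IsPGroup.of_card (n := 1) (by rw [Nat.card_zpowers, hv2, pow_one]))
        (zpowers_le.2 (centralizer_le_normalizer _ (mem_centralizer_iff.2 hvA)))
    obtain ⟨P, hP⟩ := hX.exists_le_sylow
    have hsc := Cfsg.Agent.S1249.result D.E.S P D.A (le_sup_left.trans hP) D.E.sc
    obtain ⟨m, hm, he'⟩ := exists_normalizer_fusion P D.E.comm_A hsc (B := {e, f}) (g := (g : G))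
      (by
        rintro x (rfl | rfl)
        exacts [hsc.1 he, hsc.1 hf])
      (by
        rintro x (rfl | rfl)
        · rw [hge]; exact hsc.1 he
        · exact hP (mem_sup_right (mem_zpowers v)))
    have h1 := D.centralizes_of_fix hm he he1 ((he' e (Or.inl rfl)).symm.trans hge)
    rw [hv, he' f (Or.inr rfl), ← mem_centralizer_iff.1 h1 f hf, mul_inv_cancel_right]
  have h := CfsgLib.Involutions.zstar _ u hiso ⟨c, hc⟩
  have h1 := (QuotientGroup.eq_one_iff (N := Cfsg.pPrimeCore 2 ↥(cen e)) _).2 h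
  rw [← QuotientGroup.mk'_apply] at h1
  simp only [map_mul, map_inv] at h1
  rw [mul_inv_eq_one, mul_inv_eq_iff_eq_mul] at h1
  exact h1

theorem img_normal {e : G} (he : e ∈ D.A) (he1 : e ≠ 1) : (img e D.A).Normal := by
  refine ⟨fun y hy h => ?_⟩
  obtain ⟨f, hf, hfc, rfl⟩ := mem_img.1 hy
  obtain ⟨c, rfl⟩ := QuotientGroup.mk'_surjective _ h
  show bar e ⟨c, c.2⟩ * bar e ⟨f, hfc⟩ * (bar e ⟨c, c.2⟩)⁻¹ ∈ img e D.A
  rw [D.comm_mem_core he he1 c.2 hf, mul_inv_cancel_right]
  exact bar_mem_img hf hfc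

/-- `C(e) = O(C(e)) C(A)`. -/
theorem exists_core_mul {e : G} (he : e ∈ D.A) (he1 : e ≠ 1) {c : G} (hc : c ∈ cen e) :
    ∃ o ∈ Cfsg.centralizerPPrimeCore 2 e, ∃ n ∈ centralizer (D.A : Set G), o * n = c := by
  obtain ⟨o, ho, n, hn, hne, hon⟩ :=
    exists_core_mul_normalizer D.E.elem (D.E.le_cen he) (D.img_normal he he1) hc
  refine ⟨o, ho, n, D.centralizes_of_fix hn he he1 ?_, hon⟩
  rw [mem_centralizer_singleton_iff.1 hne, mul_inv_cancel_right]

end Data

end CfsgLib.Goldschmidt.RankTwo
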