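import Cfsg.Agent.Lib.Goldschmidt.RankTwo.Frame
import Cfsg.Agent.S0111

/-!
# Goldschmidt, rank two: centralizers of order eight

Every outer involution `z ∈ S` has `C_S(z) = A⟨z⟩`.  In both cases `S = N_S(A⟨r⟩)` and `S > N_S(A⟨r⟩)` a
subgroup of index two avoids the outer involutions, against Thompson's transfer lemma.
-/

set_option autoImplicit false
set_option linter.unusedSectionVars false
set_option linter.style.haveILetI false

namespace CfsgLib.Goldschmidt.RankTwo

open Subgroup CfsgLib.Walter.RankFour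

universe u

local instance : Fact (Nat.Prime 2) := ⟨Nat.prime_two⟩

/-- In an elementary group of order eight a subgroup of index two avoids a set without three collinear points. -/
theorem exists_avoid {V : Type*} [Group V] [Finite V] (h2 : ∀ x : V, x * x = 1) (h8 : Nat.card V = 8)
    (Z : V → Prop) (h1 : ¬ Z 1) (hsum : ∀ a b, Z a → Z b → ¬ Z (a * b)) {r : V} (hr : Z r) :
    ∃ H : Subgroup V, H.index = 2 ∧ r ∉ H ∧ ∀ x ∈ H, ¬ Z x := by
  classical
  have hinv : ∀ x : V, x⁻¹ = x := fun x => inv_eq_of_mul_eq_one_right (h2 x)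
  have hc : ∀ x y : V, x * y = y * x := fun x y => by
    rw [← hinv (x * y), _root_.mul_inv_rev, hinv x, hinv y]
  haveI : Fintype V := Fintype.ofFinite V
  have hex : ∀ s : Finset V, s.card < 8 → ∃ x, x ∉ s := fun s hs => by
    by_contra h
    push Not at h
    rw [Finset.eq_univ_iff_forall.2 h, Finset.card_univ, ← Nat.card_eq_fintype_card, h8] at hs
    omega
  have hr1 : r ≠ 1 := fun e => h1 (e ▸ hr)
  obtain ⟨u, hu⟩ := hex {1, r} (lt_of_le_of_lt (Finset.card_insert_le _ _) (by simp))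
  obtain ⟨v, hv⟩ := hex {1, r, u, u * r} (by
    have := Finset.card_insert_le 1 ({r, u, u * r} : Finset V)
    have := Finset.card_insert_le r ({u, u * r} : Finset V)
    have := Finset.card_insert_le u ({u * r} : Finset V)
    rw [Finset.card_singleton] at this
    omega)
  simp only [Finset.mem_insert, Finset.mem_singleton, not_or] at hu hv
  -- a point outside `Z` on each line through `r`
  have hpick : ∀ x, ∃ y, (y = x ∨ y = x * r) ∧ ¬ Z y := fun x => by
    by_cases hx : Z x
    · exact ⟨x * r, Or.inr rfl, fun h => hsum _ _ hx h (by rw [← mul_assoc, h2, one_mul]; exact hr)⟩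
    · exact ⟨x, Or.inl rfl, hx⟩
  obtain ⟨x, hxu, hxZ⟩ := hpick u
  obtain ⟨y, hyv, hyZ⟩ := hpick v
  have hrr : ∀ a : V, a * r * r = a := fun a => by rw [mul_assoc, h2, mul_one]
  obtain ⟨x', y', hx'u, hy'v, hx'Z, hy'Z, hxy⟩ : ∃ x' y', (x' = u ∨ x' = u * r) ∧ (y' = v ∨ y' = v * r) ∧
      ¬ Z x' ∧ ¬ Z y' ∧ ¬ Z (x' * y') := by
    by_cases hxy : Z (x * y)
    swap
    · exact ⟨x, y, hxu, hyv, hxZ, hyZ, hxy⟩
    by_cases hxr : Z (x * r)
    · have hyr : ¬ Z (y * r) := fun h => hsum _ _ hxr h (by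
        rw [show x * r * (y * r) = x * (r * y) * r by simp only [mul_assoc], hc r y, ← mul_assoc, hrr]
        exact hxy)
      refine ⟨x, y * r, hxu, ?_, hxZ, hyr, fun h => hsum _ _ hxy h ?_⟩
      · rcases hyv with rfl | rfl
        exacts [Or.inr rfl, Or.inl (hrr v)]
      · rw [← mul_assoc x y r, ← mul_assoc, h2, one_mul]; exact hr
    · refine ⟨x * r, y, ?_, hyv, hxr, hyZ, fun h => hsum _ _ hxy h ?_⟩
      · rcases hxu with rfl | rfl
        exacts [Or.inr rfl, Or.inl (hrr u)]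
      · rw [mul_assoc x r y, hc r y, ← mul_assoc x y r, ← mul_assoc, h2, one_mul]; exact hr
  let H : Subgroup V :=
    { carrier := {1, x', y', x' * y'}
      one_mem' := Or.inl rfl
      mul_mem' := by
        have e1 : x' * (x' * y') = y' := by rw [← mul_assoc, h2, one_mul]
        have e2 : y' * (x' * y') = x' := by rw [hc x' y', ← mul_assoc, h2, one_mul]
        have e3 : x' * y' * x' = y' := by rw [hc (x' * y'), e1]
        have e4 : x' * y' * y' = x' := by rw [mul_assoc, h2, mul_one]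
        intro a b ha hb
        simp only [Set.mem_insert_iff, Set.mem_singleton_iff] at ha hb ⊢
        rcases ha with h | h | h | h <;> rcases hb with h' | h' | h' | h' <;>
          simp [h, h', h2, hc y' x', e1, e2, e3, e4]
      inv_mem' := fun {a} ha => by rwa [hinv] }
  have hxyr : x' ≠ 1 ∧ y' ≠ 1 ∧ x' ≠ y' ∧ r ≠ x' ∧ r ≠ y' ∧ r ≠ x' * y' := by
    obtain ⟨hu1, hur⟩ := hu
    obtain ⟨hv1, hvr, hvu, hvur⟩ := hv
    have e : ∀ a b : V, a * r = b → a = b * r := fun a b h => by rw [← h, hrr]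
    have h' : ∀ a b : V, a * b = r → b = a * r := fun a b h => by rw [← h, ← mul_assoc, h2, one_mul]
    rcases hx'u with rfl | rfl <;> rcases hy'v with rfl | rfl
    · refine ⟨hu1, hv1, Ne.symm hvu, Ne.symm hur, Ne.symm hvr, fun h => hvur (h' _ _ h.symm)⟩
    · refine ⟨hu1, fun h => hvr (by rw [e _ _ h, one_mul]), fun h => hvur (e _ _ h.symm), Ne.symm hur,
        fun h => hv1 (mul_eq_right.1 h.symm), fun h => hvu (mul_right_cancel (h' _ _ h.symm))⟩
    · refine ⟨fun h => hur (by rw [e _ _ h, one_mul]), hv1, fun h => hvur h.symm,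
        fun h => hu1 (mul_eq_right.1 h.symm), Ne.symm hvr, fun h => hvu ?_⟩
      rw [h' _ _ h.symm, hrr]
    · refine ⟨fun h => hur (by rw [e _ _ h, one_mul]), fun h => hvr (by rw [e _ _ h, one_mul]),
        fun h => hvu (mul_right_cancel h).symm, fun h => hu1 (mul_eq_right.1 h.symm),
        fun h => hv1 (mul_eq_right.1 h.symm), fun h => hvur ?_⟩
      rw [e _ _ (h' _ _ h.symm), hrr]
  obtain ⟨hx1, hy1, hne, hrx, hry, hrxy⟩ := hxyr
  refine ⟨H, ?_, ?_, ?_⟩
  · have hcard : Nat.card H = 4 := by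
      show Nat.card ↥({1, x', y', x' * y'} : Set V) = 4
      rw [Nat.card_coe_set_eq, Set.ncard_insert_of_notMem, Set.ncard_insert_of_notMem, Set.ncard_pair]
      · exact fun e => hx1 (mul_eq_right.1 e.symm)
      · simp only [Set.mem_insert_iff, Set.mem_singleton_iff, not_or]
        exact ⟨hne, fun e => hy1 (mul_eq_left.1 e.symm)⟩
      · simp only [Set.mem_insert_iff, Set.mem_singleton_iff, not_or]
        exact ⟨Ne.symm hx1, Ne.symm hy1,
          fun e => hne ((eq_inv_of_mul_eq_one_left e.symm).trans (hinv y'))⟩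
    have := H.card_mul_index
    rw [hcard, h8] at this
    omega
  · rintro (h | h | h | h)
    exacts [hr1 h, hrx h, hry h, hrxy h]
  · rintro a (rfl | rfl | rfl | rfl)
    exacts [h1, hx'Z, hy'Z, hxy]

variable {G : Type u} [Group G] [Finite G]

theorem mul_self_of_orderOf {x : G} (h : orderOf x = 2) : x * x = 1 := by
  rw [← pow_two, ← h, pow_orderOf_eq_one]

namespace Data

variable (D : Data G) [IsSimpleGroup G]

/-- No subgroup of index two of `S` misses all outer involutions. -/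
theorem false_of_avoid {S : Sylow 2 G} (hAS : D.A ≤ (S : Subgroup G)) {r : G} (hr : D.Outer r)
    (hrS : r ∈ (S : Subgroup G)) {Q : Subgroup G} (hQS : Q ≤ (S : Subgroup G))
    (hQ : Q.relIndex (S : Subgroup G) = 2) (hout : ∀ x ∈ Q, ¬ D.Outer x) : False := by
  rcases Cfsg.Agent.S0111.result S Q hQS hQ r hr.1 hrS (fun h => hout r h hr) with
    ⟨M, hM, hM2, hMr⟩ | ⟨g, hg⟩
  · rcases hM.eq_bot_or_eq_top with rfl | rfl
    · rw [index_bot] at hM2
      haveI : Fact (Nat.Prime 2) := ⟨Nat.prime_two⟩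
      haveI : IsCyclic G := isCyclic_of_prime_card hM2
      letI := IsCyclic.commGroup (α := G)
      exact D.nc ⟨⟨mul_comm⟩⟩
    · exact hMr (mem_top r)
  · have hord : orderOf (g * r * g⁻¹) = 2 := by
      rw [← MulAut.conj_apply, MulEquiv.orderOf_eq, hr.1]
    refine hout _ hg ⟨hord, D.sylow_le_centralizer S hAS (hQS hg), fun h => hr.2.2 ?_⟩
    have hscS := Cfsg.Agent.S1249.result D.E.S S D.A hAS D.E.sc
    have h2 := hscS.2 _ h g⁻¹ (by
      rw [show g⁻¹ * (g * r * g⁻¹) * g⁻¹⁻¹ = r by group]; exact hrS)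
    rwa [show g⁻¹ * (g * r * g⁻¹) * g⁻¹⁻¹ = r by group] at h2

variable (hb : D.TwoBound 8)

include hb

/-- `C_S(z) = A ∪ zA`. -/
theorem mem_coset {S : Sylow 2 G} (hAS : D.A ≤ (S : Subgroup G)) {z s : G} (hz : D.Outer z)
    (hzS : z ∈ (S : Subgroup G)) (hs : s ∈ (S : Subgroup G)) (hsz : s * z = z * s) :
    s ∈ D.A ∨ ∃ a ∈ D.A, s = z * a := by
  classical
  by_contra hno
  push Not at hno
  obtain ⟨hsA, hsne⟩ := hno
  obtain ⟨hz2, hzC, hzA⟩ := hz
  set Q : Subgroup G := (S : Subgroup G) ⊓ cen z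
  have hzQ : z ∈ Q := ⟨hzS, mem_centralizer_singleton_iff.2 rfl⟩
  have hAQ : D.A ≤ Q := le_inf hAS fun a ha =>
    mem_centralizer_singleton_iff.2 (mem_centralizer_iff.1 hzC a ha)
  have hsQ : s ∈ Q := ⟨hs, mem_centralizer_singleton_iff.2 hsz⟩
  have hcard := hb z ⟨hz2, hzC, hzA⟩ Q (S.2.to_le inf_le_left) inf_le_right hAQ
  have hsub : insert s ((D.A : Set G) ∪ (fun a => z * a) '' (D.A : Set G)) ⊆ (Q : Set G) := by
    rintro x (rfl | hx | ⟨a, ha, rfl⟩)
    exacts [hsQ, hAQ hx, mul_mem hzQ (hAQ ha)]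
  have h := Set.ncard_le_ncard hsub (Set.toFinite _)
  rw [Set.ncard_insert_of_notMem (by rintro (h | ⟨a, ha, h⟩); exacts [hsA h, hsne a ha h.symm]),
    Set.ncard_union_eq (by
      rw [Set.disjoint_left]
      rintro x hx ⟨a, ha, rfl⟩
      exact hzA (by simpa using mul_mem hx (inv_mem (show a ∈ D.A from ha)))),
    Set.ncard_image_of_injective _ (mul_right_injective z), ← Nat.card_coe_set_eq, SetLike.coe_sort_coe,
    D.four, ← Nat.card_coe_set_eq, SetLike.coe_sort_coe] at h
  omega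

/-- A 2-group centralising `A` and fixing `zA` has order at most 32. -/
theorem card_le_of_fix {z : G} (hz : D.Outer z) {P : Subgroup G} (hP : IsPGroup 2 ↥P)
    (hPC : P ≤ centralizer (D.A : Set G)) (hfix : ∀ s ∈ P, shift z s ∈ D.A) : Nat.card P ≤ 32 := by
  set F := D.shiftHom hPC hfix
  have hker : Nat.card F.ker ≤ 8 := by
    set K := F.ker.map P.subtype
    have hKc : K ≤ cen z := by
      rintro _ ⟨s, hs, rfl⟩
      have h : shift z (s : G) = 1 := congrArg Subtype.val (MonoidHom.mem_ker.1 hs)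
      exact mem_centralizer_singleton_iff.2 (mul_inv_eq_iff_eq_mul.1 (mul_inv_eq_one.1 h))
    have hKp : IsPGroup 2 ↥K := hP.to_le (map_subtype_le _)
    have hAz : D.A ≤ cen z := fun a ha =>
      mem_centralizer_singleton_iff.2 (mem_centralizer_iff.1 hz.2.1 a ha)
    have hKA : IsPGroup 2 (D.A ⊔ K : Subgroup G) := D.E.isPGroup_A.to_sup_of_normal_left' hKp
      (((map_subtype_le _).trans hPC).trans (centralizer_le_normalizer _))
    calc Nat.card F.ker = Nat.card K := (card_map_of_injective (subtype_injective P)).symm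
      _ ≤ Nat.card (D.A ⊔ K : Subgroup G) := card_le_of_le le_sup_right
      _ ≤ 8 := hb z hz _ hKA (sup_le hAz hKc) le_sup_left
  have hrange : Nat.card F.range ≤ 4 := D.four ▸ card_le_card_group F.range
  have := F.ker.card_mul_index
  rw [index_ker] at this
  calc Nat.card P = Nat.card F.ker * Nat.card F.range := this.symm
    _ ≤ 8 * 4 := Nat.mul_le_mul hker hrange

omit hb

/-- The case `S = N_S(A⟨r⟩)`. -/
theorem false_of_top (F : D.Frame) (hbF : D.TwoBound 8) (hcard : Nat.card ↥(F.S : Subgroup G) = 32)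
    (hsq : ∀ s ∈ (F.S : Subgroup G), s * s ∈ D.A) : False := by
  classical
  set S := F.S
  have hAS : D.A ≤ (S : Subgroup G) := F.L.le_A.trans F.T_le
  have hSC := D.sylow_le_centralizer S hAS
  set A' := D.A.subgroupOf (S : Subgroup G) with hA'
  haveI : A'.Normal := ⟨fun a ha p => mem_subgroupOf.2 (by
    show (p : G) * a * (p : G)⁻¹ ∈ D.A
    rw [← mem_centralizer_iff.1 (hSC p.2) _ (mem_subgroupOf.1 ha), mul_inv_cancel_right]
    exact mem_subgroupOf.1 ha)⟩
  set q := QuotientGroup.mk' A' with hq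
  have hq1 : ∀ s : ↥(S : Subgroup G), q s = 1 ↔ (s : G) ∈ D.A := fun s => by
    rw [hq, QuotientGroup.mk'_apply, QuotientGroup.eq_one_iff, hA', mem_subgroupOf]
  have hrS : F.r ∈ (S : Subgroup G) := F.T_le (F.L.R_le F.L.r_mem)
  let Z : ↥(S : Subgroup G) ⧸ A' → Prop := fun v => ∃ s : ↥(S : Subgroup G), D.Outer s ∧ q s = v
  have h8 : Nat.card (↥(S : Subgroup G) ⧸ A') = 8 := by
    have h := A'.card_eq_card_quotient_mul_card_subgroup
    have h4 : Nat.card ↥A' = 4 := (Nat.card_congr (subgroupOfEquivOfLe hAS).toEquiv).trans D.four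
    rw [hcard, h4] at h
    omega
  have h2 : ∀ v : ↥(S : Subgroup G) ⧸ A', v * v = 1 := fun v => by
    obtain ⟨s, rfl⟩ := QuotientGroup.mk'_surjective _ v
    rw [← map_mul, hq1]
    exact hsq s s.2
  obtain ⟨H, hH2, -, hHZ⟩ := exists_avoid h2 h8 Z (fun ⟨s, hs, h⟩ => hs.2.2 ((hq1 s).1 h))
    (fun v v' ⟨s, hs, hsv⟩ ⟨t, ht, htv⟩ ⟨p, hp, hpv⟩ => by
      obtain ⟨hp2, -, hpA⟩ := hp
      have hd : ((s * t)⁻¹ * p : ↥(S : Subgroup G)).1 ∈ D.A := by
        rw [← hq1, map_mul, map_inv, map_mul, hsv, htv, hpv, inv_mul_cancel]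
      set a : G := ((s * t)⁻¹ * p : ↥(S : Subgroup G)).1
      have hpe : (p : G) = s * t * a := by simp [a, mul_assoc]
      have hst2 : ((s : G) * t) * ((s : G) * t) = 1 := by
        have hc : Commute ((s : G) * t) a := (mem_centralizer_iff.1 (hSC (s * t).2) a hd).symm
        have h1 : (p : G) * p = 1 := mul_self_of_orderOf hp2
        rwa [hpe, hc.symm.mul_mul_mul_comm, D.sq hd, mul_one] at h1
      have hs1 : (s : G)⁻¹ = s := inv_eq_of_mul_eq_one_right (mul_self_of_orderOf hs.1)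
      have ht1 : (t : G)⁻¹ = t := inv_eq_of_mul_eq_one_right (mul_self_of_orderOf ht.1)
      have hcomm : (t : G) * s = s * t := by
        have := eq_inv_of_mul_eq_one_left hst2
        rw [_root_.mul_inv_rev, hs1, ht1] at this
        exact this.symm
      rcases D.mem_coset hbF hAS hs s.2 t.2 hcomm with h | ⟨b, hb, h⟩
      · exact ht.2.2 h
      · apply hpA
        have hs2 : (s : G) * s = 1 := mul_self_of_orderOf hs.1
        rw [hpe, h, ← mul_assoc, hs2, one_mul]
        exact mul_mem hb hd)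
    (⟨⟨F.r, hrS⟩, F.outer, rfl⟩ : Z (q ⟨F.r, hrS⟩))
  refine D.false_of_avoid (S := S) hAS F.outer hrS (Q := (H.comap q).map (S : Subgroup G).subtype)
    (map_subtype_le _) ?_ ?_
  · rw [relIndex, subgroupOf, comap_map_eq_self_of_injective (subtype_injective _),
      index_comap_of_surjective _ (QuotientGroup.mk'_surjective A'), hH2]
  · rintro _ ⟨x, hx, rfl⟩ hout
    exact hHZ (q x) hx ⟨x, hout, rfl⟩

/-- The case `S ≠ N_S(A⟨r⟩)`. -/
theorem false_of_no_central (hEB : D.EveryBad) (hL : D.LocGoal) (hb : D.TwoBound 8) {S : Sylow 2 G}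
    (hAS : D.A ≤ (S : Subgroup G)) {r : G} (hr : D.Outer r) (hrS : r ∈ (S : Subgroup G)) {m : G}
    (hm : D.Rot m) (hbig : 32 < Nat.card ↥(S : Subgroup G)) : False := by
  classical
  have hscS : Cfsg.IsStronglyClosed D.A (S : Subgroup G) :=
    Cfsg.Agent.S1249.result D.E.S S D.A hAS D.E.sc
  have hSC := D.sylow_le_centralizer S hAS
  have hmove : ∀ z, D.Outer z → ∃ s ∈ (S : Subgroup G), shift z s ∉ D.A := by
    intro z hz
    by_contra h
    push Not at h
    exact hbig.not_ge (D.card_le_of_fix hb hz S.2 hSC h)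
  have hacen : ∀ a ∈ D.A, ∀ s ∈ (S : Subgroup G), Commute a s := fun a ha s hs =>
    mem_centralizer_iff.1 (hSC hs) a ha
  -- the involutions of the centre of `S` modulo `A`
  let W : Subgroup G :=
    { carrier := {w | w ∈ (S : Subgroup G) ∧ w * w ∈ D.A ∧ ∀ s ∈ (S : Subgroup G), shift w s ∈ D.A}
      one_mem' := ⟨one_mem _, by rw [one_mul]; exact one_mem _, fun s _ => by simp [shift]⟩
      mul_mem' := fun {a b} ha hb' => by
        obtain ⟨haS, ha2, hac⟩ := ha
        obtain ⟨hbS, hb2, hbc⟩ := hb'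
        refine ⟨mul_mem haS hbS, ?_, fun s hs => ?_⟩
        · have hc := inv_mem (hbc a haS)
          have e : a * b * (a * b) = a * (shift b a)⁻¹ * (a * (b * b)) := by
            simp only [shift]; group
          rw [e, ← (hacen _ hc a haS).eq, mul_assoc, ← mul_assoc a a]
          exact mul_mem hc (mul_mem ha2 hb2)
        · have e : shift (a * b) s = shift a s * (a * shift b s * a⁻¹) := by simp only [shift]; group
          rw [e, ← (hacen _ (hbc s hs) a haS).eq, mul_inv_cancel_right]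
          exact mul_mem (hac s hs) (hbc s hs)
      inv_mem' := fun {a} ha => by
        obtain ⟨haS, ha2, hac⟩ := ha
        refine ⟨inv_mem haS, by rw [← _root_.mul_inv_rev]; exact inv_mem ha2, fun s hs => ?_⟩
        have e : shift a⁻¹ s = a⁻¹ * (shift a s)⁻¹ * a := by simp only [shift]; group
        rw [e, mul_assoc, (hacen _ (inv_mem (hac s hs)) a haS).eq, inv_mul_cancel_left]
        exact inv_mem (hac s hs) }
  have hAW : D.A ≤ W := fun a ha => ⟨hAS ha, by rw [D.sq ha]; exact one_mem _, fun s hs => by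
    rw [shift, ← (hacen a ha s hs).eq, mul_inv_cancel_right, mul_inv_cancel]; exact one_mem _⟩
  have hWS : W ≤ (S : Subgroup G) := fun w hw => hw.1
  have hW1 : ∀ w ∈ W, w ∉ D.A → w * w ≠ 1 := by
    intro w hw hwA h
    obtain ⟨s, hs, hsA⟩ := hmove w ⟨orderOf_eq_prime (by rw [pow_two, h]) fun e => hwA (e ▸ one_mem _),
      hSC hw.1, hwA⟩
    exact hsA (hw.2.2 s hs)
  obtain ⟨w₁, hw₁, hw₁A⟩ : ∃ w ∈ W, w ∉ D.A := by
    set A' := D.A.subgroupOf (S : Subgroup G) with hA'
    haveI : A'.Normal := ⟨fun a ha p => mem_subgroupOf.2 (by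
      show (p : G) * a * (p : G)⁻¹ ∈ D.A
      rw [← (hacen _ (mem_subgroupOf.1 ha) p p.2).eq, mul_inv_cancel_right]
      exact mem_subgroupOf.1 ha)⟩
    set q := QuotientGroup.mk' A' with hq
    haveI : Nontrivial (↥(S : Subgroup G) ⧸ A') :=
      ⟨⟨q ⟨r, hrS⟩, 1, fun e => hr.2.2 (mem_subgroupOf.1 ((QuotientGroup.eq_one_iff _).1 e))⟩⟩
    have hp : IsPGroup 2 (↥(S : Subgroup G) ⧸ A') := S.2.to_quotient A'
    haveI := hp.center_nontrivial
    obtain ⟨v, hv, hv1, hv2⟩ := isPGroup_ne_bot_exists_invol (A := center (↥(S : Subgroup G) ⧸ A'))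
      (hp.to_subgroup _) ((Subgroup.nontrivial_iff_ne_bot _).1 inferInstance)
    obtain ⟨w, rfl⟩ := QuotientGroup.mk'_surjective _ v
    refine ⟨w, ⟨w.2, ?_, fun s hs => ?_⟩, fun h => hv1 ((QuotientGroup.eq_one_iff _).2 (mem_subgroupOf.2 h))⟩
    · exact mem_subgroupOf.1 ((QuotientGroup.eq_one_iff (N := A') (w * w)).1
        (by rw [← QuotientGroup.mk'_apply A', map_mul, ← pow_two]; exact hv2))
    · refine mem_subgroupOf.1 ((QuotientGroup.eq_one_iff (N := A') (⟨s, hs⟩ * w * ⟨s, hs⟩⁻¹ * w⁻¹)).1 ?_)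
      rw [← QuotientGroup.mk'_apply A']
      simp only [map_mul, map_inv]
      rw [mem_center_iff.1 hv, mul_inv_cancel_right, mul_inv_cancel]
  -- `z ↦ [z,w]` separates the cosets of `W`
  have hinj : ∀ z, D.Outer z → z ∈ (S : Subgroup G) → ∀ w ∈ W, shift w z = 1 → w ∈ D.A := by
    intro z hz hzS w hw h
    rcases D.mem_coset hb hAS hz hzS hw.1 (mul_inv_eq_iff_eq_mul.1 (mul_inv_eq_one.1 h)).symm with
      h' | ⟨a, ha, rfl⟩
    · exact h'
    · exfalso
      obtain ⟨s, hs, hsA⟩ := hmove z hz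
      have hzW : z ∈ W := by simpa using mul_mem hw (inv_mem (hAW ha))
      exact hsA (hzW.2.2 s hs)
  -- every element of `A` is some `[w,r]`, and all cosets are seen
  have hWsurj : ∀ z, D.Outer z → z ∈ (S : Subgroup G) → ∀ a ∈ D.A, ∃ w ∈ W, shift w z = a := by
    -- a rotation in `N(S)`
    obtain ⟨ns, hns, hnsS⟩ : ∃ ns, D.Rot ns ∧ ns ∈ normalizer ((S : Subgroup G) : Set G) := by
      set C := centralizer (D.A : Set G) with hC
      have hmC : ∀ c ∈ C, m * c * m⁻¹ ∈ C := fun c hc =>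
        (mem_normalizer_iff.1 (sylow_ne_loc.normalizer_le_normalizer_centralizer' hm.mem) c).1 hc
      set S' : Sylow 2 G := MulAut.conj m • S with hS'
      have hS'C : (S' : Subgroup G) ≤ C := by
        rintro _ ⟨s, hs, rfl⟩
        exact hmC s (hSC hs)
      obtain ⟨c, hc⟩ := MulAction.exists_smul_eq ↥C (S'.subtype hS'C) (S.subtype hSC)
      refine ⟨(c : G) * m, ⟨mul_mem (centralizer_le_normalizer _ c.2) hm.mem, fun a ha h => hm.free a ha ?_⟩,
        CfsgLib.Coprime.mem_normalizer_of_forall_conj fun s hs => ?_⟩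
      · have ha' := D.conjA hm.mem ha
        rw [show (c : G) * m * a * ((c : G) * m)⁻¹ = c * (m * a * m⁻¹) * (c : G)⁻¹ by group,
          ← mem_centralizer_iff.1 c.2 _ ha', mul_inv_cancel_right] at h
        exact h
      · have h1 : MulAut.conj c ⟨m * s * m⁻¹, hmC s (hSC hs)⟩ ∈
            ((S.subtype hSC : Sylow 2 ↥C) : Subgroup ↥C) := by
          rw [← hc]
          exact Subgroup.smul_mem_pointwise_smul _ (MulAut.conj c) _
            (show (⟨m * s * m⁻¹, _⟩ : ↥C) ∈ ((S'.subtype hS'C : Sylow 2 ↥C) : Subgroup ↥C) from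
              mem_subgroupOf.2 ⟨s, hs, rfl⟩)
        have h2 := mem_subgroupOf.1 h1
        rw [show (c : G) * m * s * ((c : G) * m)⁻¹ = c * (m * s * m⁻¹) * (c : G)⁻¹ by group]
        exact h2
    set w₂ := ns * w₁ * ns⁻¹ with hw₂
    have hw₂W : w₂ ∈ W := by
      obtain ⟨h1, h2, h3⟩ := hw₁
      refine ⟨(mem_normalizer_iff.1 hnsS _).1 h1, ?_, fun s hs => ?_⟩
      · rw [show w₂ * w₂ = ns * (w₁ * w₁) * ns⁻¹ by rw [hw₂]; group]
        exact D.conjA hns.mem h2
      · rw [show shift w₂ s = ns * shift w₁ (ns⁻¹ * s * ns) * ns⁻¹ by simp only [shift, hw₂]; group]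
        exact D.conjA hns.mem (h3 _ ((mem_normalizer_iff''.1 hnsS s).1 hs))
    intro z hz hzS
    set F : ↥W →* ↥D.A := MonoidHom.mk' (fun w => ⟨shift (w : G) z, w.2.2.2 z hzS⟩) fun a b => Subtype.ext (by
      show shift ((a : G) * b) z = shift (a : G) z * shift (b : G) z
      have e : shift ((a : G) * b) z = shift (a : G) z * ((a : G) * shift (b : G) z * (a : G)⁻¹) := by
        simp only [shift]; group
      rw [e, ← (hacen _ (b.2.2.2 z hzS) a (hWS a.2)).eq, mul_inv_cancel_right])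
    have h1 : shift w₁ z ≠ 1 := fun h => hw₁A (hinj z hz hzS _ hw₁ h)
    have hw₂A : w₂ ∉ D.A := fun h => hw₁A (by
      have := (mem_normalizer_iff''.1 hns.mem w₂).1 h
      rwa [show ns⁻¹ * w₂ * ns = w₁ by rw [hw₂]; group] at this)
    have h2 : shift w₂ z ≠ 1 := fun h => hw₂A (hinj z hz hzS _ hw₂W h)
    have h12 : shift w₁ z ≠ shift w₂ z := by
      intro h
      have hd : w₁⁻¹ * w₂ ∈ D.A := hinj z hz hzS _ (mul_mem (inv_mem hw₁) hw₂W) (by
        have e := congrArg Subtype.val (map_mul F (⟨w₁, hw₁⟩ : ↥W)⁻¹ ⟨w₂, hw₂W⟩)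
        rw [map_inv] at e
        refine e.trans ?_
        show (shift w₁ z)⁻¹ * shift w₂ z = 1
        rw [h, inv_mul_cancel])
      have hc : Commute (w₁⁻¹ * w₂) w₁ := hacen _ hd _ hw₁.1
      have hsq : w₂ * w₂ = w₁ * w₁ := by
        have e : w₂ = w₁ * (w₁⁻¹ * w₂) := (mul_inv_cancel_left _ _).symm
        rw [e, hc.mul_mul_mul_comm, D.sq hd, mul_one]
      refine hW1 w₁ hw₁ hw₁A (hns.free _ hw₁.2.1 (Eq.trans ?_ hsq))
      rw [hw₂]; group
    intro a ha
    rcases D.cases (hw₁.2.2 z hzS) h1 (hw₂W.2.2 z hzS) h2 h12 ha with h | h | h | h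
    · exact ⟨1, one_mem _, by rw [h]; simp [shift]⟩
    · exact ⟨w₁, hw₁, h.symm⟩
    · exact ⟨w₂, hw₂W, h.symm⟩
    · exact ⟨w₁ * w₂, mul_mem hw₁ hw₂W, by
        rw [h]; exact congrArg Subtype.val (map_mul F ⟨w₁, hw₁⟩ ⟨w₂, hw₂W⟩)⟩
  -- `[z,w] = w²` for every outer `z ∈ S`
  have hsqz : ∀ z, D.Outer z → z ∈ (S : Subgroup G) → ∀ w ∈ W, shift w z = w * w := by
    intro z hz hzS
    obtain ⟨hz2, hzC, hzA⟩ := hz
    have hz' : D.Outer z := ⟨hz2, hzC, hzA⟩
    have hzz : z * z = 1 := by rw [← pow_two, ← hz2, pow_orderOf_eq_one]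
    have hzi : z⁻¹ = z := inv_eq_of_mul_eq_one_right hzz
    -- the elements of `S` fixing `zA`
    have hGz : ∀ s ∈ (S : Subgroup G), shift z s ∈ D.A → s ∈ W ∨ ∃ w ∈ W, s = z * w := by
      intro s hs hsz
      have hsz' : shift s z ∈ D.A := by
        rw [show shift s z = (shift z s)⁻¹ by simp only [shift]; group]; exact inv_mem hsz
      obtain ⟨w, hw, hwe⟩ := hWsurj z hz' hzS _ hsz'
      have hd : z * (w⁻¹ * s) = (w⁻¹ * s) * z := by
        have e : shift (w⁻¹ * s) z = shift w⁻¹ z * (w⁻¹ * shift s z * w) := by simp only [shift]; group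
        have e2 : shift w⁻¹ z = w⁻¹ * (shift w z)⁻¹ * w := by simp only [shift]; group
        rw [e2, hwe, ← _root_.mul_inv_cancel_right (w⁻¹ * (shift s z)⁻¹ * w) 1] at e
        have h1 : shift (w⁻¹ * s) z = 1 := by rw [e]; group
        exact mul_inv_eq_iff_eq_mul.1 (mul_inv_eq_one.1 h1)
      rcases D.mem_coset hb hAS hz' hzS (mul_mem (inv_mem hw.1) hs) hd.symm with h | ⟨a, ha, h⟩
      · exact Or.inl (by simpa using mul_mem hw (hAW h))
      · refine Or.inr ⟨(z⁻¹ * w * z) * a, mul_mem ?_ (hAW ha), ?_⟩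
        · have h3 := hw.2.2 z⁻¹ (inv_mem hzS)
          rw [show z⁻¹ * w * z = shift w z⁻¹ * w by simp only [shift]; group]
          exact mul_mem (hAW h3) hw
        · rw [show s = w * (w⁻¹ * s) by group, h]; group
    -- one coset with `[z,v] = v²`
    obtain ⟨v, hv, hvA, hvz⟩ : ∃ v ∈ W, v ∉ D.A ∧ shift v z = v * v := by
      obtain ⟨s, hs, hsA⟩ := hmove z hz'
      obtain ⟨z', hz'eq⟩ : ∃ z', z' = s * z * s⁻¹ := ⟨_, rfl⟩
      have hz'S : z' ∈ (S : Subgroup G) := hz'eq ▸ mul_mem (mul_mem hs hzS) (inv_mem hs)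
      have hz'2 : z' * z' = 1 := by
        rw [hz'eq, ← pow_two, conj_pow, pow_two, hzz, mul_one, mul_inv_cancel]
      have hnc : z' * z ≠ z * z' := by
        intro h
        rcases D.mem_coset hb hAS hz' hzS hz'S h with h' | ⟨a, ha, h'⟩
        · rw [hz'eq] at h'
          have h3 := hscS.2 _ h' s⁻¹ (by rw [show s⁻¹ * (s * z * s⁻¹) * s⁻¹⁻¹ = z by group]; exact hzS)
          rw [show s⁻¹ * (s * z * s⁻¹) * s⁻¹⁻¹ = z by group] at h3
          exact hzA h3
        · apply hsA
          rw [shift, ← hz'eq, h', hzi, mul_assoc, (hacen a ha z hzS).eq, ← mul_assoc, hzz, one_mul]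
          exact ha
      obtain ⟨u, hu⟩ : ∃ u, u = z * z' := ⟨_, rfl⟩
      have hz'i : z'⁻¹ = z' := inv_eq_of_mul_eq_one_right hz'2
      obtain ⟨k, hk⟩ := IsPGroup.iff_orderOf.1 S.2 ⟨u, hu ▸ mul_mem hzS hz'S⟩
      rw [Subgroup.orderOf_mk] at hk
      have hk2 : 2 ≤ k := by
        by_contra hlt
        have : u * u = 1 := by
          rw [← pow_two]
          exact orderOf_dvd_iff_pow_eq_one.1 (hk ▸ (pow_dvd_pow 2 (show k ≤ 1 by omega)))
        apply hnc
        have e := eq_inv_of_mul_eq_one_left this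
        rw [hu, _root_.mul_inv_rev, hz'i, hzi] at e
        exact e.symm
      obtain ⟨v, hvd⟩ : ∃ v, v = u ^ 2 ^ (k - 2) := ⟨_, rfl⟩
      have hpow : (2 : ℕ) ^ k = 2 ^ (k - 2) * 4 := by
        rw [show (4 : ℕ) = 2 ^ 2 from rfl, ← pow_add]; congr 1; omega
      have hv4 : orderOf v = 4 := by
        rw [hvd, orderOf_pow_of_dvd (by positivity) (hk ▸ hpow ▸ dvd_mul_right _ _), hk, hpow,
          Nat.mul_div_cancel_left _ (by positivity)]
      have hvS : v ∈ (S : Subgroup G) := hvd ▸ pow_mem (hu ▸ mul_mem hzS hz'S) _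
      obtain ⟨i, hi⟩ : ∃ i, i = v * v := ⟨_, rfl⟩
      have hii : i * i = 1 := by
        rw [hi, ← pow_two v, ← pow_two, ← pow_mul, show 2 * 2 = orderOf v by rw [hv4], pow_orderOf_eq_one]
      have hinv : z * v * z⁻¹ = v⁻¹ := by
        rw [hvd, ← conj_pow, ← inv_pow]
        congr 1
        rw [hu, _root_.mul_inv_rev, hz'i, hzi, ← mul_assoc z z z', hzz, one_mul]
      have hinv' : z' * v * z'⁻¹ = v⁻¹ := by
        rw [hvd, ← conj_pow, ← inv_pow]
        congr 1
        rw [hu, _root_.mul_inv_rev, hz'i, hzi, mul_assoc z' (z * z') z', mul_assoc z z' z', hz'2,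
          mul_one]
      have hiz : ∀ y : G, y * v * y⁻¹ = v⁻¹ → i * y = y * i := by
        intro y hy
        have e : y * i * y⁻¹ = i := by
          rw [hi, show y * (v * v) * y⁻¹ = (y * v * y⁻¹) * (y * v * y⁻¹) by group, hy,
            ← _root_.mul_inv_rev, ← hi]
          exact inv_eq_of_mul_eq_one_right hii
        exact (mul_inv_eq_iff_eq_mul.1 e).symm
      have hiA : i ∈ D.A := by
        rcases D.mem_coset hb hAS hz' hzS (hi ▸ mul_mem hvS hvS) (hiz z hinv) with h | ⟨a, ha, h⟩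
        · exact h
        exfalso
        apply hnc
        have h2 := hiz z' hinv'
        rw [h, mul_assoc, (hacen a ha z' hz'S).eq, ← mul_assoc, ← mul_assoc z' z a] at h2
        exact (mul_right_cancel h2).symm
      have hsv : shift v z = i := by
        rw [shift, hinv, hi]
        have := inv_eq_of_mul_eq_one_right hii
        rw [hi, _root_.mul_inv_rev] at this
        exact this
      have hzv : shift z v ∈ D.A := by
        rw [show shift z v = (shift v z)⁻¹ by simp only [shift]; group, hsv]; exact inv_mem hiA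
      have hvv : v * v ≠ 1 := fun h => by
        have := orderOf_dvd_of_pow_eq_one (show v ^ 2 = 1 by rw [pow_two, h])
        rw [hv4] at this
        omega
      rcases hGz v hvS hzv with h | ⟨w, hw, hvw⟩
      · exact ⟨v, h, fun h' => hvv (D.sq h'), hsv.trans hi⟩
      · exfalso
        have hwe : w = z * v := by rw [hvw, ← mul_assoc, hzz, one_mul]
        have hwA : w ∈ D.A := by
          by_contra hn
          refine hW1 w hw hn ?_
          rw [hwe]
          calc z * v * (z * v) = (z * v * z⁻¹) * (z * z) * v := by group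
            _ = 1 := by rw [hzz, mul_one, hinv, inv_mul_cancel]
        apply hvv
        rw [hvw, (hacen w hwA z hzS).mul_mul_mul_comm, hzz, D.sq hwA, one_mul]
    -- a rotation fixing `zA`
    obtain ⟨e, he, hbad⟩ := hEB z hz'
    obtain ⟨w', hw'⟩ : ∃ w', w' = z * e := ⟨_, rfl⟩
    rw [← hw'] at hbad
    have hcze : Commute z e := (hacen e he z hzS).symm
    have hze : D.Outer w' := by
      refine ⟨orderOf_eq_prime (by rw [hw', hcze.mul_pow, pow_two, hzz, D.E.pow_two_A he, one_mul])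
        fun h => hzA ?_, hw' ▸ mul_mem hzC (mem_centralizer_iff.2 fun a ha => D.E.commute_A ha he), fun h => hzA ?_⟩
      · rw [eq_inv_of_mul_eq_one_left (hw'.symm.trans h)]; exact inv_mem he
      · have := mul_mem (hw' ▸ h) (inv_mem he)
        rwa [mul_inv_cancel_right] at this
    set B : Subgroup G := (S : Subgroup G) ⊓ cen w'
    obtain ⟨L, hBL⟩ := hL w' hze hbad B (S.2.to_le inf_le_left) inf_le_right
      (le_inf hAS fun a ha => mem_centralizer_singleton_iff.2 (mem_centralizer_iff.1 hze.2.1 a ha))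
    have hzT : z ∈ L.T := hBL ⟨hzS, mem_centralizer_singleton_iff.2 (by rw [hw']; exact (Commute.refl z).mul_right hcze)⟩
    have hT8 : Nat.card L.T ≤ 8 := hb w' hze _ L.two L.le_cen L.le_A
    have hTmem : ∀ t ∈ L.T, t ∈ D.A ∨ ∃ a ∈ D.A, t = z * a := by
      intro t ht
      obtain ⟨P, hP⟩ := L.two.exists_le_sylow
      refine D.mem_coset hb (L.le_A.trans hP) hz' (hP hzT) (hP ht) ?_
      have h1 : t * w' = w' * t := mem_centralizer_singleton_iff.1 (L.le_cen ht)
      rw [hw'] at h1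
      have h2 : Commute e t := mem_centralizer_iff.1 (L.le_centralizer ht) e he
      rw [mul_assoc z e t, h2.eq, ← mul_assoc, ← mul_assoc] at h1
      exact mul_right_cancel h1
    set N₀ : Subgroup G := normalizer (L.T : Set G) ⊓ centralizer (D.A : Set G) with hN₀
    have hN₀fix : ∀ x ∈ N₀, shift z x ∈ D.A := by
      intro x hx
      rcases hTmem _ ((mem_normalizer_iff.1 hx.1 z).1 hzT) with h | ⟨a, ha, h⟩
      · exfalso
        have hxa := (mem_centralizer_iff.1 hx.2 _ h).symm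
        apply hzA
        have e2 : z = x * z * x⁻¹ := mul_left_cancel (show x * z = x * (x * z * x⁻¹) by rw [hxa]; group)
        rw [e2]; exact h
      · rw [shift, h, hzi, mul_assoc, (hacen a ha z hzS).eq, ← mul_assoc, hzz, one_mul]
        exact ha
    set P : Subgroup G := (S : Subgroup G) ⊓ normalizer (L.T : Set G) with hP
    have hPN : P ≤ N₀ := le_inf inf_le_right (inf_le_left.trans hSC)
    have hPmem : ∀ s ∈ (S : Subgroup G), shift z s ∈ D.A → s ∈ P := by
      intro s hs hsz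
      refine ⟨hs, CfsgLib.Coprime.mem_normalizer_of_forall_conj fun t ht => ?_⟩
      rcases hTmem t ht with h | ⟨a, ha, rfl⟩
      · rw [← (hacen t h s hs).eq, mul_inv_cancel_right]; exact L.le_A h
      · rw [show s * (z * a) * s⁻¹ = shift z s * z * (s * a * s⁻¹) by simp only [shift]; group,
          ← (hacen a ha s hs).eq, mul_inv_cancel_right]
        exact mul_mem (mul_mem (L.le_A hsz) hzT) (L.le_A ha)
    have h32 : 32 ≤ Nat.card P := by
      set F := D.shiftHom (hPN.trans inf_le_right) fun x hx => hN₀fix x (hPN hx)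
      have hsur : Function.Surjective F := by
        rintro ⟨a, ha⟩
        obtain ⟨w, hw, hwe⟩ := hWsurj z hz' hzS a ha
        have hwz : shift z w = a := by
          rw [show shift z w = (shift w z)⁻¹ by simp only [shift]; group, hwe, D.inv_eq ha]
        exact ⟨⟨w, hPmem w hw.1 (hwz ▸ ha)⟩, Subtype.ext hwz⟩
      have hker : 8 ≤ Nat.card F.ker := by
        classical
        rw [← card_map_of_injective (K := F.ker) (subtype_injective P)]
        have hsub : (D.A : Set G) ∪ (fun a => z * a) '' (D.A : Set G) ⊆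
            ((F.ker.map P.subtype : Subgroup G) : Set G) := by
          have key : ∀ x ∈ (S : Subgroup G), x * z = z * x → x ∈ F.ker.map P.subtype := by
            intro x hx hxz
            have h1 : shift z x = 1 := by rw [shift, hxz, mul_inv_cancel_right, mul_inv_cancel]
            exact ⟨⟨x, hPmem x hx (h1 ▸ one_mem _)⟩, MonoidHom.mem_ker.2 (Subtype.ext h1), rfl⟩
          rintro x (hx | ⟨a, ha, rfl⟩)
          · exact key x (hAS hx) (hacen x hx z hzS).eq
          · exact key _ (mul_mem hzS (hAS ha))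
              ((Commute.refl z).mul_left (hacen a ha z hzS)).eq
        have h := Set.ncard_le_ncard hsub (Set.toFinite _)
        rw [Set.ncard_union_eq (by
            rw [Set.disjoint_left]
            rintro x hx ⟨a, ha, rfl⟩
            exact hzA (by simpa using mul_mem hx (inv_mem (show a ∈ D.A from ha)))),
          Set.ncard_image_of_injective _ (mul_right_injective z), ← Nat.card_coe_set_eq,
          SetLike.coe_sort_coe, D.four, ← Nat.card_coe_set_eq, SetLike.coe_sort_coe] at h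
        omega
      have := F.ker.card_mul_index
      rw [index_ker, MonoidHom.range_eq_top.2 hsur, card_top, D.four] at this
      omega
    let SP : Sylow 2 ↥N₀ := ⟨P.subgroupOf N₀, (S.2.to_le inf_le_left).comap_subtype, fun {Q} hQ hle => by
      have h1 := D.card_le_of_fix hb hz' (hQ.map N₀.subtype) ((map_subtype_le Q).trans inf_le_right)
        fun x hx => hN₀fix x (map_subtype_le Q hx)
      refine (eq_of_le_of_card_ge hle ?_).symm
      rw [Nat.card_congr (subgroupOfEquivOfLe hPN).toEquiv]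
      rw [card_map_of_injective (subtype_injective _)] at h1
      omega⟩
    have hnN₀ : ∀ x ∈ N₀, L.n * x * L.n⁻¹ ∈ N₀ := fun x hx =>
      ⟨(mem_normalizer_iff.1 (le_normalizer L.n_mem_normalizer) x).1 hx.1,
        (mem_normalizer_iff.1 (sylow_ne_loc.normalizer_le_normalizer_centralizer' L.rot.mem) x).1 hx.2⟩
    set P' : Subgroup G := P.map (MulAut.conj L.n).toMonoidHom with hP'
    have hP'N : P' ≤ N₀ := by rintro _ ⟨x, hx, rfl⟩; exact hnN₀ x (hPN hx)
    obtain ⟨U, hU⟩ := (((S.2.to_le (inf_le_left : P ≤ (S : Subgroup G))).map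
      (MulAut.conj L.n).toMonoidHom).comap_subtype (K := N₀) : IsPGroup 2 ↥(P'.subgroupOf N₀)).exists_le_sylow
    obtain ⟨c, hc⟩ := MulAction.exists_smul_eq ↥N₀ U SP
    obtain ⟨n, hnd⟩ : ∃ n, n = (c : G) * L.n := ⟨_, rfl⟩
    have hnP : ∀ x ∈ P, n * x * n⁻¹ ∈ P := by
      intro x hx
      have h1 : MulAut.conj c ⟨L.n * x * L.n⁻¹, hnN₀ x (hPN hx)⟩ ∈ (SP : Subgroup ↥N₀) := by
        rw [← hc]
        exact Subgroup.smul_mem_pointwise_smul _ (MulAut.conj c) _
          (hU (mem_subgroupOf.2 ⟨x, hx, rfl⟩))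
      have h2 := mem_subgroupOf.1 h1
      rw [hnd, show (c : G) * L.n * x * ((c : G) * L.n)⁻¹ = c * (L.n * x * L.n⁻¹) * (c : G)⁻¹ by group]
      exact h2
    have hnrot : D.Rot n := ⟨hnd ▸ mul_mem (centralizer_le_normalizer _ c.2.2) L.rot.mem, fun a ha h => by
      refine L.rot.free a ha ?_
      rw [hnd, show (c : G) * L.n * a * ((c : G) * L.n)⁻¹ = c * (L.n * a * L.n⁻¹) * (c : G)⁻¹ by group,
        ← mem_centralizer_iff.1 c.2.2 _ (D.conjA L.rot.mem ha), mul_inv_cancel_right] at h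
      exact h⟩
    obtain ⟨a₁, ha₁, hnz⟩ : ∃ a₁ ∈ D.A, n * z * n⁻¹ = a₁ * z := by
      have hnT : n ∈ normalizer (L.T : Set G) := hnd ▸ mul_mem c.2.1 L.n_mem_normalizer
      rcases hTmem _ ((mem_normalizer_iff.1 hnT z).1 hzT) with h | ⟨a, ha, h⟩
      · exfalso
        refine hzA ?_
        have := (mem_normalizer_iff''.1 hnrot.mem (n * z * n⁻¹)).1 h
        rwa [show n⁻¹ * (n * z * n⁻¹) * n = z by group] at this
      · exact ⟨a, ha, h.trans (hacen a ha z hzS).eq.symm⟩
    -- the rotation transports the equation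
    have hstep : ∀ w ∈ W, w ∉ D.A → shift w z = w * w →
        ∃ x ∈ W, x ∉ D.A ∧ shift x z = x * x ∧ x * x = n * (w * w) * n⁻¹ := by
      intro w hw hwA hwe
      have hwz : shift z w ∈ D.A := by
        rw [show shift z w = (shift w z)⁻¹ by simp only [shift]; group]
        exact inv_mem (hw.2.2 z hzS)
      have hnwP := hnP w (hPmem w hw.1 hwz)
      obtain ⟨x, hxd⟩ : ∃ x, x = n * w * n⁻¹ := ⟨_, rfl⟩
      rw [← hxd] at hnwP
      have hxsq : x * x = n * (w * w) * n⁻¹ := by rw [hxd]; group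
      have hxz : shift x (a₁ * z) = x * x := by
        rw [hxsq, ← hwe, ← hnz, hxd]; simp only [shift]; group
      have hxA : x ∉ D.A := fun h => hwA (by
        have := (mem_normalizer_iff''.1 hnrot.mem x).1 h
        rwa [hxd, show n⁻¹ * (n * w * n⁻¹) * n = w by group] at this)
      have hxS : x ∈ (S : Subgroup G) := hnwP.1
      have hxz' : shift x z = x * x := by
        rw [← hxz, shift, shift]
        calc z * x * z⁻¹ * x⁻¹ = (a₁ * (z * x)) * (z⁻¹ * x⁻¹) * a₁⁻¹ := by
              have h3 : Commute a₁ ((z * x) * (z⁻¹ * x⁻¹)) := hacen a₁ ha₁ _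
                (mul_mem (mul_mem hzS hxS) (mul_mem (inv_mem hzS) (inv_mem hxS)))
              rw [mul_assoc a₁, h3.eq, mul_inv_cancel_right]; group
          _ = _ := by
              rw [_root_.mul_inv_rev a₁ z, show a₁ * z * x * (z⁻¹ * a₁⁻¹) * x⁻¹ =
                a₁ * (z * x) * z⁻¹ * (a₁⁻¹ * x⁻¹) by group, (hacen _ (inv_mem ha₁) _ (inv_mem hxS)).eq]
              group
      rcases hGz x hxS (by
        rw [show shift z x = (shift x z)⁻¹ by simp only [shift]; group, hxz', hxsq]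
        exact inv_mem (D.conjA hnrot.mem hw.2.1)) with h | ⟨y, hy, hxy⟩
      · exact ⟨x, h, hxA, hxz', hxsq⟩
      · exfalso
        have hye : y = z * x := by rw [hxy, ← mul_assoc, hzz, one_mul]
        have hy2 : y * y = 1 := by
          rw [hye, show z * x * (z * x) = shift x z⁻¹⁻¹ * 1 * (x * (z * z) * x) by
            simp only [shift, inv_inv]; group]
          rw [inv_inv, mul_one, hzz, mul_one, hxz']
          exact D.sq (hxsq ▸ D.conjA hnrot.mem hw.2.1)
        have hyA : y ∈ D.A := by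
          by_contra hn
          exact hW1 y hy hn hy2
        have hx1 : x * x = 1 := by
          rw [hxy, (hacen y hyA z hzS).symm.symm.mul_mul_mul_comm, hzz, D.sq hyA, one_mul]
        refine hW1 w hw hwA ?_
        rw [hxsq] at hx1
        exact conj_eq_one_iff.1 hx1
    obtain ⟨x₁, hx₁, hx₁A, hx₁z, hx₁sq⟩ := hstep v hv hvA hvz
    obtain ⟨x₂, hx₂, hx₂A, hx₂z, hx₂sq⟩ := hstep x₁ hx₁ hx₁A hx₁z
    intro w hw
    by_cases hwA : w ∈ D.A
    · rw [D.sq hwA, shift, ← (hacen w hwA z hzS).eq, mul_inv_cancel_right, mul_inv_cancel]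
    -- cosets with equal values agree
    have hsame : ∀ y ∈ W, shift y z = y * y → shift w z = shift y z → shift w z = w * w := by
      intro y hy hyz heq
      have hd : y⁻¹ * w ∈ D.A := hinj z hz' hzS _ (mul_mem (inv_mem hy) hw) (by
        have e1 : shift (y⁻¹ * w) z = y⁻¹ * ((shift y z)⁻¹ * shift w z) * y := by simp only [shift]; group
        rw [e1, heq, inv_mul_cancel, mul_one, inv_mul_cancel])
      rw [heq, hyz, show w = y * (y⁻¹ * w) from (mul_inv_cancel_left _ _).symm,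
        ((hacen _ hd y hy.1)).mul_mul_mul_comm, D.sq hd, mul_one]
    have hq1 : v * v ∈ D.A := hv.2.1
    have hq1' : v * v ≠ 1 := hW1 v hv hvA
    have hq2 : x₁ * x₁ ≠ 1 := hW1 x₁ hx₁ hx₁A
    have hne : v * v ≠ x₁ * x₁ := fun h => hq1' (hnrot.free _ hq1 (hx₁sq.symm.trans h.symm))
    rcases D.cases hq1 hq1' hx₁.2.1 hq2 hne (hw.2.2 z hzS) with h | h | h | h
    · exact absurd (hinj z hz' hzS w hw h) hwA
    · exact hsame v hv hvz (h.trans hvz.symm)
    · exact hsame x₁ hx₁ hx₁z (h.trans hx₁z.symm)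
    · refine hsame x₂ hx₂ hx₂z (h.trans (Eq.trans ?_ hx₂z.symm))
      rw [hx₂sq]
      rcases D.cases hq1 hq1' hx₁.2.1 hq2 hne (D.conjA hnrot.mem hx₁.2.1) with k | k | k | k
      · exact absurd (conj_eq_one_iff.1 k) hq2
      · exfalso
        refine hne ((eq_inv_of_mul_eq_one_left (hnrot.free _ (mul_mem hq1 hx₁.2.1) ?_)).trans
          (D.inv_eq hx₁.2.1))
        exact D.conj_swap hq1 hx₁.2.1 hx₁sq.symm k
      · exact absurd (hnrot.free _ hx₁.2.1 k) hq2
      · exact k.symm
  obtain ⟨a, ha⟩ : ∃ a, a = w₁ * w₁ := ⟨_, rfl⟩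
  have haA : a ∈ D.A := ha ▸ hw₁.2.1
  have ha1 : a ≠ 1 := ha ▸ hW1 w₁ hw₁ hw₁A
  obtain ⟨b, hbA, hb1, hba⟩ := D.exists_other a
  have hmul : ∀ x ∈ (S : Subgroup G), ∀ y ∈ (S : Subgroup G),
      shift w₁ (x * y) = shift w₁ x * shift w₁ y := by
    intro x hx y hy
    rw [shift_mul (hSC hx) (hw₁.2.2 y hy), D.E.commute_A (hw₁.2.2 y hy) (hw₁.2.2 x hx)]
  let F : ↥(S : Subgroup G) →* ↥D.A := MonoidHom.mk' (fun x => ⟨shift w₁ (x : G), hw₁.2.2 x x.2⟩)
    fun x y => Subtype.ext (hmul x x.2 y y.2)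
  let H : Subgroup ↥D.A := zpowers ⟨b, hbA⟩
  have hHmem : ∀ y ∈ H, (y : G) = 1 ∨ (y : G) = b := by
    intro y hy
    obtain ⟨i, rfl⟩ := mem_zpowers_iff.1 hy
    rw [Subgroup.coe_zpow, ← zpow_mod_orderOf, D.orderOf_eq hbA hb1]
    rcases Int.emod_two_eq_zero_or_one i with e | e <;> norm_num [e]
  refine D.false_of_avoid (S := S) hAS hr hrS (Q := (H.comap F).map (S : Subgroup G).subtype)
    (map_subtype_le _) ?_ ?_
  · have hH2 : H.index = 2 := by
      have h := H.card_mul_index
      rw [Nat.card_zpowers, Subgroup.orderOf_mk, D.orderOf_eq hbA hb1, D.four] at h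
      omega
    have hFr : F ⟨r, hrS⟩ ∉ H := fun h => by
      have he : shift w₁ r = a := (hsqz r hr hrS w₁ hw₁).trans ha.symm
      rcases hHmem _ h with h' | h'
      · exact ha1 (he.symm.trans h')
      · exact hba (h'.symm.trans he)
    rw [relIndex, subgroupOf, comap_map_eq_self_of_injective (subtype_injective _), index_eq_two_iff]
    refine ⟨⟨r, hrS⟩, fun x => ?_⟩
    simp only [mem_comap, map_mul, mul_mem_iff_of_index_two hH2, hFr, iff_false]
    by_cases hx : F x ∈ H <;> simp [hx]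
  · rintro _ ⟨x, hx, rfl⟩ hout
    have h := hsqz x hout x.2 w₁ hw₁
    rcases hHmem _ hx with h' | h'
    · exact ha1 (ha.trans (h.symm.trans h'))
    · exact hba (h'.symm.trans (h.trans ha.symm))

/-- `EightGoal`. -/
theorem eightGoal : D.EightGoal := by
  intro hEB hL _ F hR
  have hT : Nat.card ↥F.L.T = 8 := by rw [F.card_T, hR]
  have hb : D.TwoBound 8 := hT ▸ F.bound
  have hAS : D.A ≤ (F.S : Subgroup G) := F.L.le_A.trans F.T_le
  have h32 : Nat.card ↥(top F.S F.L.T) = 32 := by rw [F.card_top, hT]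
  rcases (card_le_of_le (inf_le_left : top F.S F.L.T ≤ (F.S : Subgroup G))).eq_or_lt with h | h
  · have e : top F.S F.L.T = (F.S : Subgroup G) := eq_of_le_of_card_ge inf_le_left h.ge
    exact D.false_of_top F hb (h.symm.trans h32) (e ▸ F.sq_mem)
  · exact D.false_of_no_central hEB hL hb hAS F.outer (F.T_le (F.L.R_le F.L.r_mem)) F.L.rot (h32 ▸ h)

end Data

end CfsgLib.Goldschmidt.RankTwo
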