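import Cfsg.Agent.Lib.Goldschmidt.RankTwo.Interface
import Cfsg.Agent.Lib.LocalEven.LLemma
import Cfsg.Agent.Lib.LocalEven.SubnormalJoin
import Cfsg.Agent.Lib.OddOrder.PuigSeries
import Cfsg.Agent.Lib.ProductFusion.Main
import Cfsg.Agent.Lib.ThreeFree.ClosedSubgroup
import Cfsg.Agent.S1249

/-!
# Goldschmidt, rank two: the configuration at a largest centralizer

For a `FourAt` involution `r` with a largest `T = A × R` the normalizer in a Sylow 2-subgroup induces all the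
shears of a fixed point `x₀` modulo `A`, so `R` is elementary of order two or four.
-/

set_option autoImplicit false
set_option linter.unusedSectionVars false
set_option linter.style.haveILetI false

namespace CfsgLib.Goldschmidt.RankTwo

open Subgroup CfsgLib.Walter.RankFour

universe u

local instance : Fact (Nat.Prime 2) := ⟨Nat.prime_two⟩

variable {G : Type u} [Group G] [Finite G]

/-- `s x s⁻¹ x⁻¹`. -/
def shift (x s : G) : G := s * x * s⁻¹ * x⁻¹

theorem shift_mul {A : Subgroup G} {x s t : G} (hs : s ∈ centralizer (A : Set G)) (ht : shift x t ∈ A) :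
    shift x (s * t) = shift x t * shift x s := by
  have h := mem_centralizer_iff.1 hs _ ht
  simp only [shift] at h ⊢
  calc s * t * x * (s * t)⁻¹ * x⁻¹ = s * (t * x * t⁻¹ * x⁻¹) * (x * s⁻¹ * x⁻¹) := by group
    _ = t * x * t⁻¹ * x⁻¹ * s * (x * s⁻¹ * x⁻¹) := by rw [h]
    _ = _ := by group

namespace Data

variable (D : Data G) [IsSimpleGroup G]

/-- The members of a normalised subgroup `P` of `C(A)` shifting `x` inside `A`. -/
def shiftHom {P : Subgroup G} (hP : P ≤ centralizer (D.A : Set G)) {x : G}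
    (h : ∀ s ∈ P, shift x s ∈ D.A) : ↥P →* ↥D.A :=
  MonoidHom.mk' (fun s => ⟨shift x s, h s s.2⟩) fun s t => Subtype.ext (by
    show shift x ((s : G) * t) = shift x s * shift x t
    rw [shift_mul (hP s.2) (h t t.2), D.E.commute_A (h t t.2) (h s s.2)])

namespace Loc

variable {D} {r : G} (L : D.Loc r)

theorem conj_mem {t : G} (ht : t ∈ L.T) : L.n * t * L.n⁻¹ ∈ L.T := by
  obtain ⟨a, ha, x, hx, rfl⟩ := L.split t ht
  rw [show L.n * (a * x) * L.n⁻¹ = (L.n * a * L.n⁻¹) * (L.n * x * L.n⁻¹) by group, L.n_fix x hx,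
    mul_inv_cancel_right]
  exact mul_mem (L.le_A (D.conjA L.rot.mem ha)) (L.R_le hx)

theorem n_mem_normalizer : L.n ∈ normalizer (L.T : Set G) :=
  CfsgLib.Coprime.mem_normalizer_of_forall_conj fun _ ht => L.conj_mem ht

theorem le_centralizer : L.T ≤ centralizer (D.A : Set G) := by
  obtain ⟨P, hP⟩ := L.two.exists_le_sylow
  exact hP.trans (D.sylow_le_centralizer P (L.le_A.trans hP))

theorem unique {a b x y : G} (ha : a ∈ D.A) (hb : b ∈ D.A) (hx : x ∈ L.R) (hy : y ∈ L.R)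
    (h : a * x = b * y) : a = b ∧ x = y := by
  have h1 : b⁻¹ * a = y * x⁻¹ := by
    calc b⁻¹ * a = b⁻¹ * (a * x) * x⁻¹ := by group
      _ = _ := by rw [h]; group
  have h2 : b⁻¹ * a ∈ D.A ⊓ L.R :=
    Subgroup.mem_inf.2 ⟨mul_mem (inv_mem hb) ha, h1 ▸ mul_mem hy (inv_mem hx)⟩
  rw [L.disj, mem_bot] at h2
  have h3 : a = b := (inv_mul_eq_one.1 h2).symm
  subst h3
  exact ⟨rfl, mul_left_cancel h⟩

theorem conj_R {t x : G} (ht : t ∈ L.T) (hx : x ∈ L.R) : t * x * t⁻¹ ∈ L.R := by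
  obtain ⟨a, ha, y, hy, rfl⟩ := L.split t ht
  have hc := mem_centralizer_iff.1 (L.le_centralizer
    (mul_mem (mul_mem (L.R_le hy) (L.R_le hx)) (inv_mem (L.R_le hy)))) a ha
  rw [show a * y * x * (a * y)⁻¹ = a * (y * x * y⁻¹) * a⁻¹ by group, hc, mul_inv_cancel_right]
  exact mul_mem (mul_mem hy hx) (inv_mem hy)

/-- The projection of `T` to `A`. -/
noncomputable def projA : ↥L.T →* ↥D.A :=
  MonoidHom.mk' (fun t => ⟨(L.split t t.2).choose, (L.split t t.2).choose_spec.1⟩) fun s t => by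
    refine Subtype.ext ?_
    obtain ⟨x, hx, hxs⟩ := (L.split s s.2).choose_spec.2
    obtain ⟨y, hy, hyt⟩ := (L.split t t.2).choose_spec.2
    obtain ⟨z, hz, hzst⟩ := (L.split (s * t : ↥L.T) (s * t).2).choose_spec.2
    set a := (L.split s s.2).choose
    set b := (L.split t t.2).choose
    have ha := (L.split s s.2).choose_spec.1
    have hb := (L.split t t.2).choose_spec.1
    have hxb : x * b = b * x := (mem_centralizer_iff.1 (L.le_centralizer (L.R_le hx)) b hb).symm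
    refine (L.unique (L.split _ (s * t).2).choose_spec.1 (mul_mem ha hb) hz (mul_mem hx hy) ?_).1
    show _ = a * b * (x * y)
    rw [← hzst]
    show ((s : G) * t) = _
    rw [hxs, hyt]
    calc a * x * (b * y) = a * (x * b) * y := by group
      _ = a * (b * x) * y := by rw [hxb]
      _ = _ := by group

theorem projA_spec {t a x : G} (ha : a ∈ D.A) (hx : x ∈ L.R) (h : t = a * x) (ht : t ∈ L.T) :
    (L.projA ⟨t, ht⟩ : G) = a := by
  obtain ⟨y, hy, hty⟩ := (L.split t ht).choose_spec.2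
  exact (L.unique (L.split t ht).choose_spec.1 ha hy hx (hty.symm.trans h)).1

end Loc

theorem mem_rot_pow_cen {n m : G} (hn : D.Rot n) (hm : m ∈ normalizer (D.A : Set G)) :
    ∃ i : ℕ, (n ^ i)⁻¹ * m ∈ centralizer (D.A : Set G) := by
  obtain ⟨a, ha, ha1⟩ := D.exists_ne
  obtain ⟨i, hi⟩ := D.rot_trans hn ha ha1 (D.conjA hm ha) fun e => ha1 (conj_eq_one_iff.1 e)
  refine ⟨i, D.centralizes_of_fix (mul_mem (inv_mem (pow_mem hn.mem i)) hm) ha ha1 ?_⟩
  calc (n ^ i)⁻¹ * m * a * ((n ^ i)⁻¹ * m)⁻¹ = (n ^ i)⁻¹ * (m * a * m⁻¹) * n ^ i := by group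
    _ = _ := by rw [← hi]; group

/-- `S` is not `A × R`. -/
theorem sylow_ne_loc {r : G} (hr : orderOf r = 2) (L : D.Loc r) (S : Sylow 2 G)
    (hS : (S : Subgroup G) = L.T) : False := by
  classical
  have hscS : Cfsg.IsStronglyClosed D.A (S : Subgroup G) :=
    Cfsg.Agent.S1249.result D.E.S S D.A (hS ▸ L.le_A) D.E.sc
  set C : Subgroup G := centralizer (D.A : Set G) with hC
  have hSC : (S : Subgroup G) ≤ C := D.sylow_le_centralizer S hscS.1
  letI : CommGroup ↥D.A :=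
    { (inferInstance : Group ↥D.A) with mul_comm := fun a b => Subtype.ext (D.E.commute_A a.2 b.2) }
  set H : Subgroup ↥C := ((S.subtype hSC : Sylow 2 ↥C) : Subgroup ↥C) with hH
  have hHT : ∀ y : ↥H, ((y : ↥C) : G) ∈ L.T := fun y => hS.le (mem_subgroupOf.1 y.2)
  let ϕ : ↥H →* ↥D.A := L.projA.comp ((C.subtype.comp H.subtype).codRestrict L.T hHT)
  let V : ↥C →* ↥D.A := MonoidHom.transfer ϕ
  have hodd : Odd H.index := Nat.odd_iff.2 (Nat.two_dvd_ne_zero.1 (S.subtype hSC).not_dvd_index)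
  have hVA : ∀ a (ha : a ∈ D.A) (hac : a ∈ C), (V ⟨a, hac⟩ : G) = a := by
    intro a ha hac
    have key : ∀ (k : ℕ) (g₀ : ↥C), g₀⁻¹ * (⟨a, hac⟩ : ↥C) ^ k * g₀ ∈ H →
        g₀⁻¹ * (⟨a, hac⟩ : ↥C) ^ k * g₀ = (⟨a, hac⟩ : ↥C) ^ k := fun k g₀ _ => Subtype.ext (by
      show (g₀ : G)⁻¹ * a ^ k * g₀ = a ^ k
      rw [mul_assoc, mem_centralizer_iff.1 g₀.2 _ (pow_mem ha k), inv_mul_cancel_left])
    rw [show V ⟨a, hac⟩ = _ from MonoidHom.transfer_eq_pow ϕ _ key]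
    have e : a ^ H.index = a := by
      obtain ⟨k, hk⟩ := hodd
      rw [hk, pow_succ, pow_mul, D.E.pow_two_A ha, one_pow, one_mul]
    refine L.projA_spec ha (one_mem _) ?_ _
    show a ^ H.index = a * 1
    rw [e, mul_one]
  -- `C(A)` moves no element of `R` to another coset
  have hCR : ∀ c ∈ C, ∀ x ∈ L.R, c * x * c⁻¹ ∈ (S : Subgroup G) → c * x * c⁻¹ ∈ L.R := by
    intro c hc x hx hcx
    obtain ⟨a, ha, y, hy, he⟩ := L.split _ (hS.le hcx)
    have key : ∀ c ∈ C, ∀ a ∈ D.A, c * x * c⁻¹ = a * y → ∀ (hxC : x ∈ C) (hyC : y ∈ C),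
        a * (V ⟨y, hyC⟩ : G) = (V ⟨x, hxC⟩ : G) := by
      intro c hc a ha he hxC hyC
      have haC : a ∈ C := hSC (hscS.1 ha)
      have h : (⟨c, hc⟩ : ↥C) * ⟨x, hxC⟩ * ⟨c, hc⟩⁻¹ = ⟨a, haC⟩ * ⟨y, hyC⟩ := Subtype.ext he
      have h2 := congrArg (fun z => (V z : G)) h
      simp only [map_mul, map_inv, mul_inv_cancel_comm] at h2
      rw [Subgroup.coe_mul, hVA a ha haC] at h2
      exact h2.symm
    have hxC : x ∈ C := L.le_centralizer (L.R_le hx)
    have hyC : y ∈ C := L.le_centralizer (L.R_le hy)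
    have h1 := key c hc a ha he hxC hyC
    have hn := L.rot.mem
    have hc' : L.n * c * L.n⁻¹ ∈ C :=
      (mem_normalizer_iff.1 (normalizer_le_normalizer_centralizer' hn) c).1 hc
    have h2 := key _ hc' _ (D.conjA hn ha) (by
      calc L.n * c * L.n⁻¹ * x * (L.n * c * L.n⁻¹)⁻¹
          = L.n * c * (L.n⁻¹ * (x * L.n)) * c⁻¹ * L.n⁻¹ := by group
        _ = L.n * (c * x * c⁻¹) * L.n⁻¹ := by rw [← L.n_fix x hx]; group
        _ = L.n * (a * y) * L.n⁻¹ := by rw [he]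
        _ = (L.n * a * L.n⁻¹) * (L.n * y * L.n⁻¹) := by group
        _ = _ := by rw [L.n_fix y hy, mul_inv_cancel_right]) hxC hyC
    rw [L.rot.free a ha (mul_right_cancel (h2.trans h1.symm)), one_mul] at he
    exact he ▸ hy
  have hscR : Cfsg.IsStronglyClosed L.R (S : Subgroup G) := by
    refine ⟨L.R_le.trans hS.ge, fun x hx g hg => ?_⟩
    obtain ⟨m, hm, he⟩ := exists_normalizer_fusion S D.E.comm_A hscS (B := {x})
      (Set.singleton_subset_iff.2 (hS.ge (L.R_le hx))) (g := g) (by simpa using hg)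
    rw [he x rfl] at hg ⊢
    obtain ⟨i, hi⟩ := D.mem_rot_pow_cen L.rot hm
    set c := (L.n ^ i)⁻¹ * m with hc
    have hme : m * x * m⁻¹ = L.n ^ i * (c * x * c⁻¹) * (L.n ^ i)⁻¹ := by rw [hc]; group
    have hcS : c * x * c⁻¹ ∈ (S : Subgroup G) := by
      rw [hme] at hg
      refine hS.ge ?_
      have := (mem_normalizer_iff.1 (pow_mem L.n_mem_normalizer i) (c * x * c⁻¹)).2 (hS.le hg)
      exact this
    have hcR := hCR c hi x hx hcS
    rw [hme, ((show Commute L.n _ from L.n_fix _ hcR).pow_left i).eq, mul_inv_cancel_right]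
    exact hcR
  let P : CfsgLib.ProductFusion.Pair G :=
    { P := S, S₁ := D.A, S₂ := L.R
      comm := fun a ha b hb => mem_centralizer_iff.1 (L.le_centralizer (L.R_le hb)) a ha
      disj := L.disj, sc₁ := hscS, sc₂ := hscR }
  have hcm := CfsgLib.ProductFusion.commutator_le_pPrimeCore P
  have hne : ∃ a b : G, a * b ≠ b * a := by
    by_contra hno
    push Not at hno
    exact D.nc ⟨⟨hno⟩⟩
  rw [CfsgLib.ThreeFree.pPrimeCore_eq_bot_of_simple hne, le_bot_iff] at hcm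
  have htop : ∀ U : Subgroup G, U ≠ ⊥ → normalClosure (U : Set G) = ⊤ := fun U hU =>
    (normalClosure_normal (s := (U : Set G))).eq_bot_or_eq_top.resolve_left fun e =>
      hU (eq_bot_iff.2 fun y hy => e ▸ subset_normalClosure hy)
  change ⁅normalClosure (D.A : Set G), normalClosure (L.R : Set G)⁆ = ⊥ at hcm
  have hR : L.R ≠ ⊥ := fun e => by
    have := L.r_mem
    rw [e, mem_bot] at this
    rw [this, orderOf_one] at hr
    omega
  rw [htop _ D.E.ne_bot, htop _ hR, commutator_eq_bot_iff_le_centralizer] at hcm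
  obtain ⟨a, b, hab⟩ := hne
  exact hab (mem_centralizer_iff.1 (hcm (mem_top a)) b (mem_top b)).symm
where
  normalizer_le_normalizer_centralizer' {X : Subgroup G} {m : G} (hm : m ∈ normalizer (X : Set G)) :
      m ∈ normalizer (centralizer (X : Set G) : Set G) := by
    refine CfsgLib.Coprime.mem_normalizer_of_forall_conj fun c hc => mem_centralizer_iff.2 fun a ha => ?_
    have ha' : m⁻¹ * a * m ∈ X := (mem_normalizer_iff''.1 hm a).1 ha
    calc a * (m * c * m⁻¹) = m * ((m⁻¹ * a * m) * c) * m⁻¹ := by group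
      _ = m * (c * (m⁻¹ * a * m)) * m⁻¹ := by rw [mem_centralizer_iff.1 hc _ ha']
      _ = _ := by group

/-- `FrameGoal`. -/
theorem frameGoal : D.FrameGoal := by
  classical
  intro r hr hfour L hbound S hTS hsyl
  have hscS : Cfsg.IsStronglyClosed D.A (S : Subgroup G) :=
    Cfsg.Agent.S1249.result D.E.S S D.A (L.le_A.trans hTS) D.E.sc
  have hSC : (S : Subgroup G) ≤ centralizer (D.A : Set G) := D.sylow_le_centralizer S hscS.1
  set P₁ := top S L.T with hP₁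
  have hP₁S : P₁ ≤ (S : Subgroup G) := inf_le_left
  have hTP₁ : L.T ≤ P₁ := le_inf hTS le_normalizer
  have hP₁C : P₁ ≤ centralizer (D.A : Set G) := hP₁S.trans hSC
  have hcomA : ∀ {a t : G}, a ∈ D.A → t ∈ L.T → Commute a t := fun ha ht =>
    mem_centralizer_iff.1 (L.le_centralizer ht) _ ha
  have hTlt : L.T < P₁ := by
    refine lt_of_le_of_ne hTP₁ fun e => D.sylow_ne_loc hr.1 L S ?_
    by_contra hne
    obtain ⟨y, hyS, hyN, hyT⟩ := CfsgLib.LLemma.exists_normalizer_gt S.2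
      (lt_of_le_of_ne hTS (Ne.symm hne))
    exact hyT (e.ge ⟨hyS, hyN⟩)
  -- an element of `T` with a centraliser in `S` bigger than `T` lies in `A`
  have hcen : ∀ x ∈ L.T, x ∉ D.A → x ^ 2 = 1 → (∀ t ∈ L.T, t * x = x * t) →
      ∀ s ∈ (S : Subgroup G), s * x = x * s → s ∈ L.T := by
    intro x hx hxA hx2 hxc s hs hsx
    set Q : Subgroup G := (S : Subgroup G) ⊓ cen x
    have hTQ : L.T ≤ Q := le_inf hTS fun t ht => mem_centralizer_singleton_iff.2 (hxc t ht)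
    have hcard := hbound x ⟨orderOf_eq_prime hx2 fun e => hxA (e ▸ one_mem _),
      L.le_centralizer hx, hxA⟩ Q (S.2.to_le inf_le_left) inf_le_right (L.le_A.trans hTQ)
    rw [eq_of_le_of_card_ge hTQ hcard]
    exact ⟨hs, mem_centralizer_singleton_iff.2 hsx⟩
  -- a point of `T` fixed modulo `A`
  obtain ⟨x₀, hx₀R, hx₀A, hx₀2, hx₀c, hx₀fix⟩ : ∃ x₀ ∈ L.R, x₀ ∉ D.A ∧ x₀ ^ 2 = 1 ∧
      (∀ t ∈ L.T, t * x₀ = x₀ * t) ∧ ∀ s ∈ P₁, shift x₀ s ∈ D.A := by
    let Ω : Subgroup G :=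
      { carrier := {x | x ∈ L.T ∧ x ^ 2 = 1 ∧ ∀ t ∈ L.T, t * x = x * t}
        one_mem' := ⟨one_mem _, one_pow 2, fun t _ => by rw [mul_one, one_mul]⟩
        mul_mem' := fun {a b} ha hb => ⟨mul_mem ha.1 hb.1, by
          rw [(show Commute a b from hb.2.2 a ha.1).mul_pow, ha.2.1, hb.2.1, one_mul], fun t ht => by
          rw [← mul_assoc, ha.2.2 t ht, mul_assoc, hb.2.2 t ht, ← mul_assoc]⟩
        inv_mem' := fun {a} ha => ⟨inv_mem ha.1, by rw [inv_pow, ha.2.1, inv_one],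
          fun t ht => (show Commute t a from ha.2.2 t ht).inv_right⟩ }
    set A' := D.A.subgroupOf P₁ with hA'
    haveI hA'n : A'.Normal := ⟨fun a ha p => mem_subgroupOf.2 (by
      show (p : G) * a * (p : G)⁻¹ ∈ D.A
      rw [← mem_centralizer_iff.1 (hP₁C p.2) _ (mem_subgroupOf.1 ha), mul_inv_cancel_right]
      exact mem_subgroupOf.1 ha)⟩
    haveI hΩn : (Ω.subgroupOf P₁).Normal := ⟨fun x hx p => by
      obtain ⟨hxT, hx2, hxc⟩ := mem_subgroupOf.1 hx
      refine mem_subgroupOf.2 ⟨(mem_normalizer_iff.1 p.2.2 _).1 hxT, ?_, fun t ht => ?_⟩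
      · show ((p : G) * x * (p : G)⁻¹) ^ 2 = 1
        rw [conj_pow, hx2, mul_one, mul_inv_cancel]
      · have h := hxc _ ((mem_normalizer_iff''.1 p.2.2 t).1 ht)
        show t * ((p : G) * x * (p : G)⁻¹) = (p : G) * x * (p : G)⁻¹ * t
        calc t * ((p : G) * x * (p : G)⁻¹) = p * ((p : G)⁻¹ * t * p * x) * (p : G)⁻¹ := by group
          _ = p * (x * ((p : G)⁻¹ * t * p)) * (p : G)⁻¹ := by rw [h]
          _ = _ := by group⟩
    set q := QuotientGroup.mk' A' with hq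
    haveI : Group.IsNilpotent (↥P₁ ⧸ A') := ((S.2.to_le hP₁S).to_quotient A').isNilpotent
    haveI : ((Ω.subgroupOf P₁).map q).Normal := hΩn.map q (QuotientGroup.mk'_surjective _)
    have hne : (Ω.subgroupOf P₁).map q ≠ ⊥ := fun e => by
      have hrΩ : r ∈ Ω := ⟨L.R_le L.r_mem, by rw [← hr.1, pow_orderOf_eq_one],
        fun t ht => mem_centralizer_singleton_iff.1 (L.le_cen ht)⟩
      have h := mem_map_of_mem q (show (⟨r, hTP₁ (L.R_le L.r_mem)⟩ : ↥P₁) ∈ Ω.subgroupOf P₁ from hrΩ)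
      rw [e, mem_bot, hq, QuotientGroup.mk'_apply, QuotientGroup.eq_one_iff] at h
      exact hr.2.2 (mem_subgroupOf.1 h)
    obtain ⟨⟨w, hw⟩, hw1⟩ := Subgroup.ne_bot_iff_exists_ne_one.1
      (CfsgLib.OddOrder.PuigSeries.inf_center_ne_bot _ hne)
    obtain ⟨hwc, y, hy, rfl⟩ := hw
    obtain ⟨a, ha, x, hx, hyx⟩ := L.split y (mem_subgroupOf.1 hy).1
    have hxe : x = a⁻¹ * y := by rw [hyx]; group
    refine ⟨x, hx, fun hxA => hw1 (Subtype.ext ?_), ?_, fun t ht => ?_, fun s hs => ?_⟩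
    · show q y = 1
      exact (QuotientGroup.eq_one_iff y).2 (mem_subgroupOf.2 (hyx ▸ mul_mem ha hxA))
    · rw [hxe, ((hcomA ha (mem_subgroupOf.1 hy).1).inv_left).mul_pow, (mem_subgroupOf.1 hy).2.1,
        inv_pow, D.E.pow_two_A ha, inv_one, one_mul]
    · rw [hxe]
      exact ((hcomA ha ht).symm.inv_right.mul_right ((mem_subgroupOf.1 hy).2.2 t ht)).eq
    · have h : q (⟨s, hs⟩ * y * ⟨s, hs⟩⁻¹ * y⁻¹) = 1 := by
        rw [map_mul, map_mul, map_mul, map_inv, map_inv, mem_center_iff.1 hwc, mul_inv_cancel_right,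
          mul_inv_cancel]
      have h' : shift (y : G) s ∈ D.A := mem_subgroupOf.1 ((QuotientGroup.eq_one_iff _).1 h)
      have e : shift x s = shift (y : G) s := by
        have hsa : s * a⁻¹ = a⁻¹ * s := (mem_centralizer_iff.1 (hP₁C hs) _ (inv_mem ha)).symm
        simp only [shift, hxe]
        calc s * (a⁻¹ * y) * s⁻¹ * (a⁻¹ * (y : G))⁻¹
            = (s * a⁻¹) * y * s⁻¹ * ((y : G)⁻¹ * a) := by group
          _ = a⁻¹ * (s * y * s⁻¹ * (y : G)⁻¹) * a := by rw [hsa]; group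
          _ = _ := by
            rw [D.E.commute_A (inv_mem ha) (show s * y * s⁻¹ * (y : G)⁻¹ ∈ D.A from h'), mul_assoc,
              inv_mul_cancel, mul_one]
      rw [e]; exact h'
  have hker : ∀ s ∈ P₁, shift x₀ s = 1 → s ∈ L.T := fun s hs h =>
    hcen x₀ (L.R_le hx₀R) hx₀A hx₀2 hx₀c s (hP₁S hs)
      (mul_inv_eq_iff_eq_mul.1 (mul_inv_eq_one.1 h))
  have hT1 : ∀ s ∈ L.T, shift x₀ s = 1 := fun s hs => by
    rw [shift, hx₀c s hs, mul_inv_cancel_right, mul_inv_cancel]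
  -- the shears
  set N₀ : Subgroup G := normalizer (L.T : Set G) ⊓ centralizer (D.A : Set G) with hN₀
  let Sh : Subgroup G :=
    { carrier := {z | z ∈ N₀ ∧ ∀ x ∈ L.T, shift x z ∈ D.A}
      one_mem' := ⟨one_mem _, fun x _ => by simp [shift]⟩
      mul_mem' := fun {a b} ha hb => ⟨mul_mem ha.1 hb.1, fun x hx => by
        rw [shift_mul ha.1.2 (hb.2 x hx)]; exact mul_mem (hb.2 x hx) (ha.2 x hx)⟩
      inv_mem' := fun {a} ha => ⟨inv_mem ha.1, fun x hx => by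
        have h := ha.2 (a⁻¹ * x * a) ((mem_normalizer_iff''.1 ha.1.1 x).1 hx)
        have e : shift x a⁻¹ = (shift (a⁻¹ * x * a) a)⁻¹ := by simp only [shift]; group
        rw [e]; exact inv_mem h⟩ }
  have hShC : Sh ≤ centralizer (D.A : Set G) := fun z hz => hz.1.2
  have hnN₀ : ∀ z ∈ N₀, L.n * z * L.n⁻¹ ∈ N₀ := fun z hz =>
    ⟨(mem_normalizer_iff.1 (le_normalizer L.n_mem_normalizer) z).1 hz.1,
      (mem_normalizer_iff.1 (sylow_ne_loc.normalizer_le_normalizer_centralizer' L.rot.mem) z).1 hz.2⟩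
  have hu : ∀ s ∈ P₁, L.n * s * L.n⁻¹ * s⁻¹ ∈ Sh ∧
      shift x₀ (L.n * s * L.n⁻¹ * s⁻¹) = shift x₀ s * (L.n * shift x₀ s * L.n⁻¹) := by
    intro s hs
    have hsN₀ : s ∈ N₀ := ⟨hs.2, hP₁C hs⟩
    have huN : L.n * s * L.n⁻¹ * s⁻¹ ∈ N₀ := mul_mem (hnN₀ s hsN₀) (inv_mem hsN₀)
    -- the image of `x ∈ R`
    have key : ∀ x ∈ L.R, ∀ b ∈ D.A, ∀ y ∈ L.R, s⁻¹ * x * s = b * y →
        shift x (L.n * s * L.n⁻¹ * s⁻¹) = b * (L.n * b * L.n⁻¹) := by
      intro x hx b hb y hy he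
      have hb' : L.n⁻¹ * b * L.n ∈ D.A := (mem_normalizer_iff''.1 L.rot.mem b).1 hb
      have hsb : s * (L.n⁻¹ * b * L.n) = (L.n⁻¹ * b * L.n) * s :=
        (mem_centralizer_iff.1 (hP₁C hs) _ hb').symm
      have hsb0 : s * b⁻¹ = b⁻¹ * s := (mem_centralizer_iff.1 (hP₁C hs) _ (inv_mem hb)).symm
      have hy' : s * y * s⁻¹ = b * x := by
        have e : y = b⁻¹ * (s⁻¹ * x * s) := by rw [he]; group
        calc s * y * s⁻¹ = (s * b⁻¹) * s⁻¹ * x := by rw [e]; group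
          _ = _ := by rw [hsb0, D.inv_eq hb]; group
      calc shift x (L.n * s * L.n⁻¹ * s⁻¹)
          = L.n * s * L.n⁻¹ * (s⁻¹ * x * s) * L.n * s⁻¹ * L.n⁻¹ * x⁻¹ := by simp only [shift]; group
        _ = L.n * (s * (L.n⁻¹ * b * L.n)) * (L.n⁻¹ * (y * L.n)) * s⁻¹ * L.n⁻¹ * x⁻¹ := by
            rw [he]; group
        _ = b * (L.n * (s * y * s⁻¹) * L.n⁻¹) * x⁻¹ := by rw [← L.n_fix y hy, hsb]; group
        _ = b * (L.n * b * L.n⁻¹) * (L.n * x * L.n⁻¹) * x⁻¹ := by rw [hy']; group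
        _ = _ := by rw [L.n_fix x hx]; group
    refine ⟨⟨huN, fun t ht => ?_⟩, ?_⟩
    · obtain ⟨a, ha, x, hx, rfl⟩ := L.split t ht
      obtain ⟨b, hb, y, hy, he⟩ := L.split _ ((mem_normalizer_iff''.1 hs.2 x).1 (L.R_le hx))
      have h := key x hx b hb y hy he
      generalize L.n * s * L.n⁻¹ * s⁻¹ = z at h huN ⊢
      have hza : z * a = a * z := (mem_centralizer_iff.1 huN.2 a ha).symm
      have hm : b * (L.n * b * L.n⁻¹) ∈ D.A := mul_mem hb (D.conjA L.rot.mem hb)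
      have e : shift (a * x) z = a * shift x z * a⁻¹ := by
        simp only [shift]
        calc z * (a * x) * z⁻¹ * (a * x)⁻¹ = (z * a) * x * z⁻¹ * x⁻¹ * a⁻¹ := by group
          _ = _ := by rw [hza]; group
      rw [e, h]
      exact mul_mem (mul_mem ha hm) (inv_mem ha)
    · have hb : shift x₀ s⁻¹ ∈ D.A := hx₀fix _ (inv_mem hs)
      rw [key x₀ hx₀R _ hb x₀ hx₀R (by simp only [shift]; group)]
      have h1 : shift x₀ (s * s⁻¹) = shift x₀ s⁻¹ * shift x₀ s := shift_mul (hP₁C hs) hb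
      rw [mul_inv_cancel, show shift x₀ (1 : G) = 1 by simp [shift]] at h1
      rw [eq_inv_of_mul_eq_one_left h1.symm, D.inv_eq (hx₀fix s hs)]
  -- every shift occurs in `P₁ ∩ Sh`
  have hx₀T : x₀ ∈ L.T := L.R_le hx₀R
  have hall : ∀ a ∈ D.A, ∃ s ∈ P₁, s ∈ Sh ∧ shift x₀ s = a := by
    obtain ⟨s, hs, hsT⟩ := SetLike.exists_of_lt hTlt
    set b := shift x₀ s with hb
    have hbA : b ∈ D.A := hx₀fix s hs
    have hb1 : b ≠ 1 := fun e => hsT (hker s hs e)
    obtain ⟨huS, hu'⟩ := hu s hs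
    set u := L.n * s * L.n⁻¹ * s⁻¹
    set c := L.n * b * L.n⁻¹
    have hcA : c ∈ D.A := D.conjA L.rot.mem hbA
    have hc1 : c ≠ 1 := fun e => hb1 (conj_eq_one_iff.1 e)
    have hbc : b ≠ c := fun e => hb1 (L.rot.free b hbA e.symm)
    let F : ↥Sh →* ↥D.A := D.shiftHom hShC fun z hz => hz.2 x₀ hx₀T
    have hd : (F ⟨u, huS⟩ : G) = b * c := hu'
    have hnu : L.n * u * L.n⁻¹ ∈ Sh := by
      refine ⟨hnN₀ u huS.1, fun x hx => ?_⟩
      have h := D.conjA L.rot.mem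
        (huS.2 (L.n⁻¹ * x * L.n) ((mem_normalizer_iff''.1 L.n_mem_normalizer x).1 hx))
      rw [shift] at h ⊢
      convert h using 1
      group
    have hnd : (F ⟨_, hnu⟩ : G) = L.n * (b * c) * L.n⁻¹ := by
      show shift x₀ _ = _
      have hni : L.n⁻¹ * x₀⁻¹ = x₀⁻¹ * L.n⁻¹ := by
        rw [← _root_.mul_inv_rev, ← _root_.mul_inv_rev, L.n_fix x₀ hx₀R]
      have hni' : L.n⁻¹ * x₀ * L.n = x₀ := by
        rw [mul_assoc, ← L.n_fix x₀ hx₀R, inv_mul_cancel_left]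
      rw [← hu', shift, shift]
      calc L.n * u * L.n⁻¹ * x₀ * (L.n * u * L.n⁻¹)⁻¹ * x₀⁻¹
          = L.n * u * (L.n⁻¹ * x₀ * L.n) * u⁻¹ * (L.n⁻¹ * x₀⁻¹) := by group
        _ = L.n * u * x₀ * u⁻¹ * (x₀⁻¹ * L.n⁻¹) := by rw [hni', hni]
        _ = _ := by group
    have hsurj : Function.Surjective F := by
      rintro ⟨a, ha⟩
      set d := b * c with hdd
      have hdA : d ∈ D.A := mul_mem hbA hcA
      have hd1 : d ≠ 1 := fun e => hbc ((eq_inv_of_mul_eq_one_left e).trans (D.inv_eq hcA))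
      rcases D.cases hdA hd1 (D.conjA L.rot.mem hdA) (fun e => hd1 (conj_eq_one_iff.1 e))
        (fun e => hd1 (L.rot.free d hdA e.symm)) ha with h | h | h | h
      · exact ⟨1, by rw [map_one]; exact Subtype.ext h.symm⟩
      · exact ⟨⟨u, huS⟩, Subtype.ext (hd.trans h.symm)⟩
      · exact ⟨⟨_, hnu⟩, Subtype.ext (hnd.trans h.symm)⟩
      · exact ⟨⟨u, huS⟩ * ⟨_, hnu⟩, Subtype.ext (by rw [map_mul, Subgroup.coe_mul, hd, hnd]; exact h.symm)⟩
    have hP₁N : P₁ ≤ N₀ := le_inf inf_le_right hP₁C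
    let SN : Sylow 2 ↥N₀ := ⟨P₁.subgroupOf N₀, (S.2.to_le hP₁S).comap_subtype, fun {Q} hQ hle => by
      have h := hsyl (Q.map N₀.subtype) (hQ.map _) ((map_subtype_le Q).trans inf_le_left)
        (by rw [← map_subgroupOf_eq_of_le hP₁N]; exact Subgroup.map_mono hle)
      rw [← h, subgroupOf, comap_map_eq_self_of_injective (subtype_injective _)]⟩
    haveI : (Sh.subgroupOf N₀).Normal := by
      refine ⟨fun z hz g => mem_subgroupOf.2 ⟨(g * z * g⁻¹).2, fun x hx => ?_⟩⟩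
      have hx' : (g : G)⁻¹ * x * g ∈ L.T := (mem_normalizer_iff''.1 g.2.1 x).1 hx
      have h := (mem_subgroupOf.1 hz).2 _ hx'
      have e : shift x ((g : G) * z * (g : G)⁻¹) =
          (g : G) * shift ((g : G)⁻¹ * x * g) z * (g : G)⁻¹ := by simp only [shift]; group
      show shift x ((g : G) * z * (g : G)⁻¹) ∈ D.A
      rw [e, ← mem_centralizer_iff.1 g.2.2 _ h, mul_inv_cancel_right]
      exact h
    obtain ⟨U, hU⟩ := CfsgLib.SubJoin.exists_sylow_subnormal SN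
      (A := Sh.subgroupOf N₀) (Subgroup.Normal.isSubnormal inferInstance)
    have hShN : Sh ≤ N₀ := fun z hz => hz.1
    let e := subgroupOfEquivOfLe hShN
    set F' : ↥(Sh.subgroupOf N₀) →* ↥D.A := F.comp e.toMonoidHom
    have hF' : Function.Surjective F' := hsurj.comp e.surjective
    have hAtop : (U : Subgroup ↥(Sh.subgroupOf N₀)).map F' = ⊤ := by
      have h := (U.mapSurjective hF').3 (D.E.isPGroup_A.to_subgroup (⊤ : Subgroup ↥D.A)) le_top
      exact h.symm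
    intro a ha
    obtain ⟨z, hz, hza⟩ := (hAtop.ge (mem_top (⟨a, ha⟩ : ↥D.A)))
    rw [SetLike.mem_coe, hU, mem_subgroupOf] at hz
    exact ⟨_, mem_subgroupOf.1 hz, mem_subgroupOf.1 z.2, congrArg Subtype.val hza⟩
  -- a shear embeds `R` in `A`
  obtain ⟨a₀, ha₀, ha₀1⟩ := D.exists_ne
  obtain ⟨s₀, hs₀, hs₀Sh, hs₀a⟩ := hall a₀ ha₀
  have hinj : ∀ x ∈ L.R, shift x s₀ = 1 → x = 1 := by
    set K : Subgroup G := L.R ⊓ centralizer ({s₀} : Set G) with hK
    suffices hbot : K = ⊥ by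
      intro x hx h
      have : x ∈ K :=
        ⟨hx, mem_centralizer_singleton_iff.2 (mul_inv_eq_iff_eq_mul.1 (mul_inv_eq_one.1 h)).symm⟩
      rwa [hbot, mem_bot] at this
    by_contra hne
    haveI : (K.subgroupOf L.R).Normal := by
      refine ⟨fun k hk y => mem_subgroupOf.2 (Subgroup.mem_inf.2 ⟨mul_mem (mul_mem y.2 k.2) (inv_mem y.2),
        mem_centralizer_singleton_iff.2 ?_⟩)⟩
      have hk' : (k : G) * s₀ = s₀ * k := mem_centralizer_singleton_iff.1 (mem_subgroupOf.1 hk).2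
      have hb := hs₀Sh.2 (y : G) (L.R_le y.2)
      set b := shift (y : G) s₀ with hbd
      have hsy : s₀ * (y : G) = b * y * s₀ := by rw [hbd, shift]; group
      have hbk : b * ((y : G) * k * (y : G)⁻¹) * b⁻¹ = (y : G) * k * (y : G)⁻¹ := by
        rw [(hcomA hb (mul_mem (mul_mem (L.R_le y.2) (L.R_le k.2)) (inv_mem (L.R_le y.2)))).eq,
          mul_inv_cancel_right]
      show (y : G) * k * (y : G)⁻¹ * s₀ = s₀ * ((y : G) * k * (y : G)⁻¹)
      calc (y : G) * k * (y : G)⁻¹ * s₀ = b * ((y : G) * k * (y : G)⁻¹) * b⁻¹ * s₀ := by rw [hbk]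
        _ = b * y * (k * (y : G)⁻¹ * b⁻¹ * s₀) := by group
        _ = b * y * (k * s₀) * (s₀⁻¹ * (y : G)⁻¹ * b⁻¹ * s₀) := by group
        _ = b * y * (s₀ * k) * (s₀⁻¹ * (y : G)⁻¹ * b⁻¹ * s₀) := by rw [hk']
        _ = (b * y * s₀) * k * ((b * y * s₀)⁻¹ * s₀) := by group
        _ = (s₀ * (y : G)) * k * ((s₀ * (y : G))⁻¹ * s₀) := by rw [hsy]
        _ = _ := by group
    haveI : Group.IsNilpotent ↥L.R := (L.two.to_le L.R_le).isNilpotent
    have hKR : K ≤ L.R := inf_le_left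
    have hne' : K.subgroupOf L.R ≠ ⊥ := fun e => hne (by
      rw [← map_subgroupOf_eq_of_le hKR, e, Subgroup.map_bot])
    have hW := CfsgLib.OddOrder.PuigSeries.inf_center_ne_bot _ hne'
    set W := center ↥L.R ⊓ K.subgroupOf L.R
    obtain ⟨x, hx, hx1, hx2⟩ := isPGroup_ne_bot_exists_invol (A := W.map L.R.subtype)
      (L.two.to_le ((map_subtype_le _).trans L.R_le))
      (fun e => hW ((map_eq_bot_iff_of_injective _ (subtype_injective _)).1 e))
    obtain ⟨x, ⟨hxc, hxK⟩, rfl⟩ := hx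
    have hxA : (x : G) ∉ D.A := fun h => hx1 (by
      have : (x : G) ∈ D.A ⊓ L.R := ⟨h, x.2⟩
      rwa [L.disj, mem_bot] at this)
    refine ha₀1 ((hs₀a.symm.trans (hT1 s₀ ?_)))
    refine hcen x (L.R_le x.2) hxA hx2 (fun t ht => ?_) s₀ (hP₁S hs₀)
      (mem_centralizer_singleton_iff.1 (mem_subgroupOf.1 hxK).2).symm
    obtain ⟨a, ha, y, hy, rfl⟩ := L.split t ht
    exact ((hcomA ha (L.R_le x.2)).mul_left
      (congrArg Subtype.val (mem_center_iff.1 hxc ⟨y, hy⟩) : (y : G) * x = x * y)).eq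
  have hsh : ∀ x ∈ L.R, ∀ y ∈ L.R, shift (x * y) s₀ = shift x s₀ * shift y s₀ := by
    intro x hx y hy
    have h := (hcomA (hs₀Sh.2 y (L.R_le hy)) (L.R_le hx)).eq
    calc shift (x * y) s₀ = (s₀ * x * s₀⁻¹) * (shift y s₀) * x⁻¹ := by simp only [shift]; group
      _ = (s₀ * x * s₀⁻¹) * x⁻¹ * (x * shift y s₀) * x⁻¹ := by group
      _ = (s₀ * x * s₀⁻¹) * x⁻¹ * shift y s₀ := by rw [← h]; group
      _ = _ := rfl
  let ψ : ↥L.R →* ↥D.A := MonoidHom.mk' (fun x => ⟨shift x s₀, hs₀Sh.2 x (L.R_le x.2)⟩)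
    fun x y => Subtype.ext (hsh x x.2 y y.2)
  have hψ : Function.Injective ψ := (injective_iff_map_eq_one ψ).2 fun x h =>
    Subtype.ext (hinj x x.2 (congrArg Subtype.val h))
  have hR2 : ∀ x ∈ L.R, x ^ 2 = 1 := fun x hx => by
    refine (congrArg Subtype.val (hψ (a₁ := (⟨x, hx⟩ : ↥L.R) ^ 2) (a₂ := 1) ?_) :)
    rw [map_pow, map_one]
    exact Subtype.ext (D.E.pow_two_A (ψ ⟨x, hx⟩).2)
  have hRc : ∀ x ∈ L.R, ∀ y ∈ L.R, x * y = y * x := fun x hx y hy => by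
    refine (congrArg Subtype.val
      (hψ (a₁ := (⟨x, hx⟩ : ↥L.R) * ⟨y, hy⟩) (a₂ := ⟨y, hy⟩ * ⟨x, hx⟩) ?_) :)
    rw [map_mul, map_mul]
    exact Subtype.ext (D.E.commute_A (ψ ⟨x, hx⟩).2 (ψ ⟨y, hy⟩).2)
  have hTc : ∀ t ∈ L.T, ∀ t' ∈ L.T, t * t' = t' * t := by
    intro t ht t' ht'
    obtain ⟨a, ha, x, hx, rfl⟩ := L.split t ht
    obtain ⟨b, hb, y, hy, rfl⟩ := L.split t' ht'
    exact (((show Commute a b from D.E.commute_A ha hb).mul_right (hcomA ha (L.R_le hy))).mul_left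
      ((hcomA hb (L.R_le hx)).symm.mul_right (hRc x hx y hy))).eq
  have helem : Cfsg.IsElementaryAbelian 2 L.T := by
    refine ⟨⟨⟨fun a b => Subtype.ext (hTc a a.2 b b.2)⟩⟩, fun t ht => ?_⟩
    obtain ⟨a, ha, x, hx, rfl⟩ := L.split t ht
    rw [(hcomA ha (L.R_le hx)).mul_pow, D.E.pow_two_A ha, hR2 x hx, one_mul]
  -- `P₁` shifts every element of `T` inside `A`
  have hall' : ∀ s ∈ P₁, ∀ x ∈ L.T, shift x s ∈ D.A := by
    intro s hs x hx
    obtain ⟨s', hs', hs'S, hse⟩ := hall _ (hx₀fix s hs)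
    obtain ⟨t, ht, rfl⟩ : ∃ t ∈ L.T, s = t * s' := by
      refine ⟨s * s'⁻¹, hker _ (mul_mem hs (inv_mem hs')) ?_, (inv_mul_cancel_right s s').symm⟩
      have h := hx₀fix _ (inv_mem hs')
      rw [shift_mul (hP₁C hs) h, ← hse, ← shift_mul (hP₁C hs') h, mul_inv_cancel]
      simp [shift]
    rw [shift_mul (L.le_centralizer ht) (hs'S.2 x hx)]
    refine mul_mem (hs'S.2 x hx) ?_
    rw [shift, hTc t ht x hx, mul_inv_cancel_right, mul_inv_cancel]
    exact one_mem _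
  have hcen' : ∀ x ∈ L.T, x ∉ D.A → ∀ s ∈ (S : Subgroup G), s * x = x * s → s ∈ L.T :=
    fun x hx hxA => hcen x hx hxA (helem.2 x hx) fun t ht => hTc t ht x hx
  have hrange : ∀ x ∈ L.T, ∀ hxA : x ∉ D.A, ∀ F : ↥P₁ →* ↥D.A, (∀ s, (F s : G) = shift x s) →
      F.ker = L.T.subgroupOf P₁ := by
    intro x hx hxA F hF
    ext s
    rw [MonoidHom.mem_ker, mem_subgroupOf, Subtype.ext_iff, hF, Subgroup.coe_one]
    exact ⟨fun h => hcen' x hx hxA s (hP₁S s.2) (mul_inv_eq_iff_eq_mul.1 (mul_inv_eq_one.1 h)),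
      fun h => by rw [shift, hTc _ h x hx, mul_inv_cancel_right, mul_inv_cancel]⟩
  have hsurj₀ : Function.Surjective (D.shiftHom hP₁C fun s hs => hx₀fix s hs) := by
    rintro ⟨a, ha⟩
    obtain ⟨s, hs, -, e⟩ := hall a ha
    exact ⟨⟨s, hs⟩, Subtype.ext e⟩
  have hker₀ := hrange x₀ hx₀T hx₀A (D.shiftHom hP₁C fun s hs => hx₀fix s hs) fun _ => rfl
  have hidx : (L.T.subgroupOf P₁).index = 4 := by
    rw [← hker₀, index_ker, MonoidHom.range_eq_top.2 hsurj₀, card_top, D.four]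
  have hcard_top : Nat.card ↥P₁ = 4 * Nat.card ↥L.T := by
    rw [← (L.T.subgroupOf P₁).card_mul_index, hidx,
      Nat.card_congr (subgroupOfEquivOfLe hTP₁).toEquiv, mul_comm]
  have hcardR : Nat.card ↥L.R = 2 ∨ Nat.card ↥L.R = 4 := by
    have h4 : Nat.card ↥L.R ∣ 4 := D.four ▸ Subgroup.card_dvd_of_injective ψ hψ
    have h1 : Nat.card ↥L.R ≠ 1 := fun e => by
      have h := L.r_mem
      rw [eq_bot_of_card_eq _ e, mem_bot] at h
      have := hr.1
      rw [h, orderOf_one] at this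
      omega
    have := Nat.le_of_dvd (by norm_num) h4
    interval_cases hk : Nat.card ↥L.R <;> omega
  have hcard_T : Nat.card ↥L.T = 4 * Nat.card ↥L.R := by
    rw [← D.four, ← Nat.card_prod]
    refine (Nat.card_congr (Equiv.ofBijective (fun p : ↥D.A × ↥L.R =>
      (⟨(p.1 : G) * p.2, mul_mem (L.le_A p.1.2) (L.R_le p.2.2)⟩ : ↥L.T)) ⟨fun p q h => ?_, fun t => ?_⟩)).symm
    · obtain ⟨h1, h2⟩ := L.unique p.1.2 q.1.2 p.2.2 q.2.2 (congrArg Subtype.val h)
      exact Prod.ext (Subtype.ext h1) (Subtype.ext h2)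
    · obtain ⟨a, ha, x, hx, e⟩ := L.split t t.2
      exact ⟨(⟨a, ha⟩, ⟨x, hx⟩), Subtype.ext e.symm⟩
  have hsq : ∀ s ∈ P₁, s * s ∈ D.A := by
    intro s hs
    by_cases hsT : s ∈ L.T
    · rw [← pow_two, helem.2 s hsT]; exact one_mem _
    by_contra h
    refine hsT (hcen' _ (hker _ (mul_mem hs hs) ?_) h s (hP₁S hs) (mul_assoc s s s).symm)
    rw [shift_mul (hP₁C hs) (hx₀fix s hs)]
    exact D.sq (hx₀fix s hs)
  refine ⟨⟨r, hr, hfour, L, S, hTS, hsyl, hbound, helem, hcardR, hcard_T, hcard_top, hsq,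
    fun s hs t ht => ?_, hcen', fun x hx hxA a ha => ?_⟩, rfl, rfl, rfl⟩
  · have hc : s * s ∈ D.A := hsq s hs
    have h2 := mem_centralizer_iff.1 (hP₁C (inv_mem ht)) _ (inv_mem hc)
    have e : s * t * s⁻¹ * t⁻¹ = (s * t * (s * t)) * (s * s)⁻¹ * (t * t)⁻¹ := by
      calc s * t * s⁻¹ * t⁻¹ = (s * t * (s * t)) * (t⁻¹ * (s * s)⁻¹) * t⁻¹ := by group
        _ = _ := by rw [← h2]; group
    rw [e]
    exact mul_mem (mul_mem (hsq _ (mul_mem hs ht)) (inv_mem hc)) (inv_mem (hsq t ht))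
  · set F := D.shiftHom hP₁C fun s hs => hall' s hs x hx
    have hk := hrange x hx hxA F fun _ => rfl
    have hF : F.range = ⊤ := eq_top_of_card_eq _ (by rw [← index_ker, hk, hidx, D.four])
    obtain ⟨⟨s, hs⟩, he⟩ := hF.ge (mem_top (⟨a, ha⟩ : ↥D.A))
    refine ⟨s, hs, ?_⟩
    have he' : shift x s = a := congrArg Subtype.val he
    rw [← (hcomA ha hx).eq, ← he', shift, inv_mul_cancel_right]

end Data

end CfsgLib.Goldschmidt.RankTwo
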