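import Cfsg.Agent.Lib.Goldschmidt.RankTwo.Interface
import Cfsg.Agent.Lib.FTCons.GoldschmidtFunctor
import Cfsg.Agent.Lib.Goldschmidt.NoComp

/-!
# Goldschmidt, rank two: a coset without a `FourAt` involution gives a signalizer functor

If every involution of `z A` passes the odd cores at `A#` on, `b ↦ [O(C b),A] (O(C b) ∩ O(C A))` is a solvable
signalizer functor on `A⟨z⟩` with value `O(C e)` at `e ∈ A#`, so a strongly embedded subgroup exists.
Otherwise every coset contains a `FourAt` involution.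
-/

set_option autoImplicit false
set_option linter.unusedSectionVars false
set_option linter.style.haveILetI false

namespace CfsgLib.Goldschmidt.RankTwo

open Subgroup CfsgLib.Walter.RankFour CfsgLib.Components
open scoped commutatorElement

universe u

local instance : Fact (Nat.Prime 2) := ⟨Nat.prime_two⟩

variable {G : Type u} [Group G] [Finite G]

theorem odd_core (a : G) : Odd (Nat.card ↥(Cfsg.centralizerPPrimeCore 2 a)) := by
  rw [← Nat.not_even_iff_odd, even_iff_two_dvd]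
  exact fun h => Nat.Prime.not_coprime_iff_dvd.2 ⟨2, Nat.prime_two, h, dvd_refl 2⟩
    (CfsgLib.Tech46.centralizerPPrimeCore_coprime a)

namespace Data

variable (D : Data G) [IsSimpleGroup G]

theorem coprime_A {X : Subgroup G} (hX : Odd (Nat.card X)) : (Nat.card D.A).Coprime (Nat.card X) := by
  rw [show Nat.card D.A = 2 ^ 2 from D.four]
  exact (Nat.coprime_two_left.2 hX).pow_left 2

/-- `A` is central modulo the core at `e ∈ A#`. -/
theorem comm_mem_coreE {e : G} (he : e ∈ D.A) (he1 : e ≠ 1) {X : Subgroup G} (hX : X ≤ cen e) :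
    ⁅X, D.A⁆ ≤ Cfsg.centralizerPPrimeCore 2 e := by
  rw [commutator_le]
  intro x hx a ha
  have h := D.comm_mem_core he he1 (hX hx) ha
  refine ⟨⁅(⟨x, hX hx⟩ : ↥(cen e)), ⟨a, D.E.le_cen he ha⟩⁆, (QuotientGroup.eq_one_iff _).1 ?_, rfl⟩
  show bar e ⁅_, _⁆ = 1
  rw [map_commutatorElement, commutatorElement_eq_one_iff_mul_comm]
  exact h

theorem core_inf_cen_le {e : G} (he : e ∈ D.A) (he1 : e ≠ 1) :
    Cfsg.centralizerPPrimeCore 2 e ⊓ centralizer (D.A : Set G) ≤ centralizerCore 2 (D.A : Set G) := by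
  set C := centralizer (D.A : Set G) with hC
  set Oe := Cfsg.centralizerPPrimeCore 2 e with hOe
  have hCe : C ≤ cen e := centralizer_le (Set.singleton_subset_iff.2 he)
  haveI : ((Oe ⊓ C).subgroupOf C).Normal := ⟨fun x hx g => mem_subgroupOf.2 (Subgroup.mem_inf.2
    ⟨(mem_normalizer_iff.1 (CfsgLib.Tech46.le_normalizer_centralizerPPrimeCore e (hCe g.2)) _).1
      (mem_subgroupOf.1 hx).1, (g * x * g⁻¹).2⟩)⟩
  have hcop : (Nat.card ↥((Oe ⊓ C).subgroupOf C)).Coprime 2 := by
    rw [Nat.card_congr (subgroupOfEquivOfLe inf_le_right).toEquiv]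
    exact (CfsgLib.Tech46.centralizerPPrimeCore_coprime e).coprime_dvd_left (card_dvd_of_le inf_le_left)
  intro y hy
  exact ⟨⟨y, hy.2⟩, CfsgLib.PCore.le_pPrimeCore inferInstance hcop (mem_subgroupOf.2 hy), rfl⟩

theorem coreA_le {e : G} (he : e ∈ D.A) (he1 : e ≠ 1) :
    centralizerCore 2 (D.A : Set G) ≤ Cfsg.centralizerPPrimeCore 2 e := by
  set C := centralizer (D.A : Set G) with hC
  set O := Cfsg.pPrimeCore 2 ↥(cen e) with hO
  have hCe : C ≤ cen e := centralizer_le (Set.singleton_subset_iff.2 he)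
  set OA := (centralizerCore 2 (D.A : Set G)).subgroupOf (cen e) with hOA
  have hcopA : (Nat.card ↥OA).Coprime 2 := by
    rw [hOA, Nat.card_congr (subgroupOfEquivOfLe ((centralizerCore_le_centralizer _).trans hCe)).toEquiv]
    exact card_centralizerCore_coprime _
  haveI : (OA.map (bar e)).Normal := by
    refine ⟨fun y hy h => ?_⟩
    obtain ⟨w, hw, rfl⟩ := hy
    obtain ⟨c, rfl⟩ := QuotientGroup.mk'_surjective _ h
    obtain ⟨o, ho, m, hm, hom⟩ := D.exists_core_mul he he1 c.2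
    obtain ⟨o', ho', hoe⟩ := ho
    have hc : bar e c = bar e ⟨m, hCe hm⟩ := by
      rw [show c = o' * ⟨m, hCe hm⟩ from Subtype.ext (by rw [Subgroup.coe_mul, ← hom, ← hoe]; rfl),
        map_mul, show bar e o' = 1 from (QuotientGroup.eq_one_iff (N := O) o').2 ho', one_mul]
    show bar e c * bar e w * (bar e c)⁻¹ ∈ _
    rw [hc, ← map_inv, ← map_mul, ← map_mul]
    exact mem_map_of_mem _ (mem_subgroupOf.2
      (conj_mem_centralizerCore (centralizer_le_normalizer _ hm) (mem_subgroupOf.1 hw)))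
  have hbot : OA.map (bar e) = ⊥ := by
    have h := CfsgLib.PCore.le_pPrimeCore (p := 2) (N := OA.map (bar e)) inferInstance
      (hcopA.coprime_dvd_left (card_map_dvd _ _))
    rwa [cenBar_core, le_bot_iff] at h
  intro y hy
  have hyc : y ∈ cen e := hCe (centralizerCore_le_centralizer _ hy)
  have h : bar e ⟨y, hyc⟩ ∈ OA.map (bar e) := mem_map_of_mem _ (mem_subgroupOf.2 hy)
  rw [hbot, mem_bot] at h
  exact ⟨⟨y, hyc⟩, (QuotientGroup.eq_one_iff (N := O) _).1 h, rfl⟩

/-- A cocyclic subgroup of `A` contains an involution. -/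
theorem exists_of_cocyclic {B₀ : Subgroup G} (h : CfsgLib.Structure.IsCocyclicIn D.A B₀) :
    ∃ e ∈ B₀, e ∈ D.A ∧ e ≠ 1 := by
  by_contra hcon
  push Not at hcon
  obtain ⟨hle, x, hx, hgen⟩ := h
  rw [(eq_bot_iff_forall B₀).mpr fun e he => hcon e he (hle he), bot_sup_eq] at hgen
  have h4 := D.four
  rw [show D.E.A = zpowers x from hgen.symm, Nat.card_zpowers] at h4
  have := Nat.le_of_dvd two_pos (orderOf_dvd_of_pow_eq_one (D.E.pow_two_A hx))
  omega

/-- `[X,A]` is generated inside the cores at `A#`. -/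
theorem comm_le_core {b : G} (hb : D.CoreBal b) {X : Subgroup G} (hX : Odd (Nat.card X))
    (hAX : D.A ≤ normalizer (X : Set G)) (hXb : X ≤ cen b) :
    ⁅X, D.A⁆ ≤ Cfsg.centralizerPPrimeCore 2 b := by
  haveI : IsMulCommutative ↥D.A := D.E.comm_A
  set Y := ⁅X, D.A⁆ with hY
  have hYX : Y ≤ X := CfsgLib.Coprime.commutator_le_of_normalizes hAX
  have hYA : ⁅Y, D.A⁆ = Y := CfsgLib.Coprime.commutator_commutator_eq D.A X hAX (D.coprime_A hX)
    (Or.inl (CfsgLib.CommGen.solvable_of_le (A := D.A) le_rfl))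
  have hAY : D.A ≤ normalizer (Y : Set G) := CfsgLib.Coprime.le_normalizer_commutator_right X D.A
  refine (CfsgLib.CommGen.le_iSup_commutator le_rfl hAY
    ((D.coprime_A hX).coprime_dvd_right (card_dvd_of_le hYX)) hYA).trans (iSup₂_le fun B₀ hB₀ => ?_)
  obtain ⟨e, heB, he, he1⟩ := D.exists_of_cocyclic hB₀
  have hW : Y ⊓ centralizer (B₀ : Set G) ≤ cen e :=
    inf_le_right.trans (centralizer_le (Set.singleton_subset_iff.2 heB))
  have hWn : D.A ≤ normalizer ((Y ⊓ centralizer (B₀ : Set G) : Subgroup G) : Set G) :=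
    CfsgLib.CommGen.le_normalizer_inf_centralizer hB₀.1 hAY
  exact (le_inf (D.comm_mem_coreE he he1 hW)
    ((CfsgLib.Coprime.commutator_le_of_normalizes hWn).trans (inf_le_left.trans (hYX.trans hXb)))).trans
    (hb e he he1)

/-- The fixed points of `[X,A]` lie in the core at `A`. -/
theorem comm_inf_cen_le {X : Subgroup G} (hX : Odd (Nat.card X))
    (hAX : D.A ≤ normalizer (X : Set G)) :
    ⁅X, D.A⁆ ⊓ centralizer (D.A : Set G) ≤ centralizerCore 2 (D.A : Set G) := by
  haveI : IsMulCommutative ↥D.A := D.E.comm_A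
  set Y := ⁅X, D.A⁆ with hY
  have hYX : Y ≤ X := CfsgLib.Coprime.commutator_le_of_normalizes hAX
  have hYA : ⁅Y, D.A⁆ = Y := CfsgLib.Coprime.commutator_commutator_eq D.A X hAX (D.coprime_A hX)
    (Or.inl (CfsgLib.CommGen.solvable_of_le (A := D.A) le_rfl))
  have hAY : D.A ≤ normalizer (Y : Set G) := CfsgLib.Coprime.le_normalizer_commutator_right X D.A
  refine (CfsgLib.CommGen.le_gen_aux _ G D.A D.A Y le_rfl hAY
    ((D.coprime_A hX).coprime_dvd_right (card_dvd_of_le hYX))
    (CfsgLib.PF.oddSolvable _ (hX.of_dvd_nat (card_dvd_of_le hYX))) hYA rfl).trans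
    (iSup₂_le fun B₀ hB₀ => ?_)
  obtain ⟨e, heB, he, he1⟩ := D.exists_of_cocyclic hB₀
  exact fun y hy => D.core_inf_cen_le he he1 ⟨D.comm_mem_coreE he he1
    (inf_le_right.trans (centralizer_le (Set.singleton_subset_iff.2 heB))) hy.2, hy.1.2⟩

/-- A coset all whose involutions pass the cores on gives the conclusion. -/
theorem concl_of_coreBal {z : G} (hz : D.Outer z) (hbal : ∀ e ∈ D.A, D.CoreBal (z * e)) : Concl G := by
  obtain ⟨hz2, hzC, hzA⟩ := hz
  have hzz : z * z = 1 := by rw [← pow_two, ← hz2, pow_orderOf_eq_one]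
  set B : Subgroup G := D.A ⊔ zpowers z with hB
  have hcases : ∀ b ∈ B, b ∈ D.A ∨ ∃ e ∈ D.A, b = z * e := by
    intro b hb
    obtain ⟨w, hw, a, ha, rfl⟩ := CfsgLib.Coprime.exists_mul_of_mem_sup
      (zpowers_le.2 (centralizer_le_normalizer _ hzC)) (show b ∈ zpowers z ⊔ D.A by rwa [sup_comm])
    obtain ⟨i, rfl⟩ := mem_zpowers_iff.1 hw
    rw [← zpow_mod_orderOf, hz2]
    rcases Int.emod_two_eq_zero_or_one i with e | e <;> push_cast <;> rw [e]
    · exact Or.inl (by rwa [zpow_zero, one_mul])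
    · exact Or.inr ⟨a, ha, by rw [zpow_one]⟩
  have hBel : Cfsg.IsElementaryAbelian 2 B := by
    have hc : ∀ x ∈ B, ∀ y ∈ B, x * y = y * x ∧ x * x = 1 := by
      intro x hx y hy
      have hza : ∀ a ∈ D.A, Commute z a := fun a ha => (mem_centralizer_iff.1 hzC a ha).symm
      rcases hcases x hx with hx | ⟨a, ha, rfl⟩ <;> rcases hcases y hy with hy | ⟨c, hc, rfl⟩
      · exact ⟨D.E.commute_A hx hy, D.sq hx⟩
      · exact ⟨((hza x hx).symm.mul_right (D.E.commute_A hx hc : Commute x c)).eq, D.sq hx⟩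
      · refine ⟨((hza y hy).mul_left (D.E.commute_A ha hy : Commute a y)).eq, ?_⟩
        rw [(hza a ha).symm.mul_mul_mul_comm, hzz, D.sq ha, one_mul]
      · refine ⟨(((Commute.refl z).mul_right (hza c hc)).mul_left
          ((hza a ha).symm.mul_right (D.E.commute_A ha hc : Commute a c))).eq, ?_⟩
        rw [(hza a ha).symm.mul_mul_mul_comm, hzz, D.sq ha, one_mul]
    exact ⟨⟨⟨fun x y => Subtype.ext (hc x x.2 y y.2).1⟩⟩, fun x hx => by
      rw [pow_two]; exact (hc x hx x hx).2⟩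
  have hAB : D.A ≤ B := le_sup_left
  have hB8 : 2 ^ 3 ≤ Nat.card B := by
    by_contra hlt
    have hd : 4 ∣ Nat.card B := D.four ▸ card_dvd_of_le hAB
    have hne : Nat.card B ≠ 4 := fun h => hzA ((eq_of_le_of_card_ge hAB (by rw [h, D.four])).ge
      (mem_sup_right (mem_zpowers z)))
    obtain ⟨k, hk⟩ := hd
    have hpos : 0 < Nat.card B := Nat.card_pos
    omega
  have hbalB : ∀ b ∈ B, b ≠ 1 →
      centralizerCore 2 (D.A : Set G) ⊓ cen b ≤ Cfsg.centralizerPPrimeCore 2 b ∧
      ∀ X : Subgroup G, Odd (Nat.card X) → D.A ≤ normalizer (X : Set G) → X ≤ cen b →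
        ⁅X, D.A⁆ ≤ Cfsg.centralizerPPrimeCore 2 b := by
    intro b hb hb1
    obtain ⟨a, ha, ha1⟩ := D.exists_ne
    rcases hcases b hb with hbA | ⟨e, he, rfl⟩
    · exact ⟨inf_le_left.trans (D.coreA_le hbA hb1), fun X _ _ hXb => D.comm_mem_coreE hbA hb1 hXb⟩
    · exact ⟨(inf_le_inf_right _ (D.coreA_le ha ha1)).trans (hbal e he a ha ha1),
        fun X hX hAX hXb => D.comm_le_core (hbal e he) hX hAX hXb⟩
  set θ : G → Subgroup G := FTCons.GoldFunctor.part D.A with hθ
  have hBcen : ∀ b ∈ B, B ≤ cen b := fun b hb => FTCons.GoldFunctor.le_centralizer_singleton hBel hb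
  have hθle : ∀ a ∈ B, θ a ≤ Cfsg.centralizerPPrimeCore 2 a := fun a ha =>
    FTCons.GoldFunctor.part_le hBel hAB ha
  have hθodd : ∀ a ∈ B, Odd (Nat.card (θ a)) := fun a ha =>
    (odd_core a).of_dvd_nat (card_dvd_of_le (hθle a ha))
  have hBθ : ∀ a ∈ B, B ≤ normalizer (θ a : Set G) := by
    intro a ha b hb
    have hbA : b ∈ normalizer (D.A : Set G) := centralizer_le_normalizer _
      (mem_centralizer_iff.2 fun c hc => FTCons.GoldFunctor.commute_mem hBel (hAB hc) hb)
    have hbO : b ∈ normalizer (Cfsg.centralizerPPrimeCore 2 a : Set G) :=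
      FTCons.GoldFunctor.le_normalizer_core hBel ha hb
    rw [mem_normalizer_iff_map_conj_eq, hθ, FTCons.GoldFunctor.part, Subgroup.map_sup, map_commutator,
      mem_normalizer_iff_map_conj_eq.1 hbO, mem_normalizer_iff_map_conj_eq.1 hbA,
      Subgroup.map_inf _ _ _ (MulAut.conj b).injective, mem_normalizer_iff_map_conj_eq.1 hbO,
      mem_normalizer_iff_map_conj_eq.1 (FTCons.GoldFunctor.le_normalizer_fourCore hBel hAB hb)]
  have hθC : ∀ a ∈ B, θ a ⊓ centralizer (D.A : Set G) ≤ centralizerCore 2 (D.A : Set G) := by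
    intro a ha y hy
    have hAN : D.A ≤ normalizer (Cfsg.centralizerPPrimeCore 2 a : Set G) :=
      hAB.trans (FTCons.GoldFunctor.le_normalizer_core hBel ha)
    have hy' : y ∈ (Cfsg.centralizerPPrimeCore 2 a ⊓ centralizerCore 2 (D.A : Set G)) ⊔
        ⁅Cfsg.centralizerPPrimeCore 2 a, D.A⁆ := by rw [sup_comm]; exact hy.1
    obtain ⟨v, hv, w, hw, rfl⟩ := CfsgLib.Coprime.exists_mul_of_mem_sup
      (inf_le_left.trans (CfsgLib.Coprime.le_normalizer_commutator_left _ _)) hy'
    have hwc : w ∈ centralizer (D.A : Set G) := by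
      have := mul_mem (inv_mem (centralizerCore_le_centralizer _ hv.2)) hy.2
      rwa [inv_mul_cancel_left] at this
    exact mul_mem hv.2 (D.comm_inf_cen_le (odd_core a) hAN ⟨hw, hwc⟩)
  have hfun : Cfsg.IsSolvableSignalizerFunctor 2 B θ := by
    refine ⟨⟨fun a ha _ => (hθle a ha).trans (CfsgLib.Tech46.centralizerPPrimeCore_le a),
      fun a ha _ => (hθodd a ha).not_two_dvd_nat,
      fun a ha _ b hb x hx => (mem_normalizer_iff.1 (hBθ a ha hb) x).1 hx,
      fun a ha _ b hb hb1 => ?_⟩, fun a ha _ => CfsgLib.PF.oddSolvable _ (hθodd a ha)⟩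
    set X := θ a ⊓ centralizer ({b} : Set G) with hX
    have hXodd : Odd (Nat.card X) := (hθodd a ha).of_dvd_nat (card_dvd_of_le inf_le_left)
    have hAC : D.A ≤ normalizer ((centralizer ({b} : Set G) : Subgroup G) : Set G) :=
      (hAB.trans (hBcen b hb)).trans le_normalizer
    have hAX : D.A ≤ normalizer (X : Set G) :=
      (le_inf (hAB.trans (hBθ a ha)) hAC).trans inf_normalizer_le_normalizer_inf
    obtain ⟨hfix, hcomm⟩ := hbalB b hb hb1
    rw [← CfsgLib.Coprime.commutator_sup_centralizer D.A X hAX (D.coprime_A hXodd)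
      (Or.inr (CfsgLib.PF.oddSolvable _ hXodd))]
    refine sup_le ?_ (fun y hy => mem_sup_right ?_)
    · rw [← CfsgLib.Coprime.commutator_commutator_eq D.A X hAX (D.coprime_A hXodd)
        (Or.inr (CfsgLib.PF.oddSolvable _ hXodd))]
      exact (commutator_mono (hcomm X hXodd hAX inf_le_right) le_rfl).trans le_sup_left
    · have hyA := hθC a ha ⟨hy.1.1, hy.2⟩
      exact ⟨hfix ⟨hyA, hy.1.2⟩, hyA⟩
  obtain ⟨⟨-, hWodd, -, -⟩, -⟩ := CfsgLib.Signalizer74.completion hBel hB8 hfun
  set W := ⨆ a : {a : G // a ∈ B ∧ a ≠ 1}, θ (a : G) with hW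
  set W₀ := ⨆ e : {e : G // e ∈ D.A ∧ e ≠ 1}, Cfsg.centralizerPPrimeCore 2 (e : G) with hW₀
  have hW₀W : W₀ ≤ W := by
    refine iSup_le fun ⟨e, he, he1⟩ => le_trans ?_ (le_iSup (fun a : {a : G // a ∈ B ∧ a ≠ 1} => θ (a : G))
      ⟨e, hAB he, he1⟩)
    have hAN : D.A ≤ normalizer (Cfsg.centralizerPPrimeCore 2 e : Set G) :=
      hAB.trans (FTCons.GoldFunctor.le_normalizer_core hBel (hAB he))
    refine (CfsgLib.Coprime.commutator_sup_centralizer D.A (Cfsg.centralizerPPrimeCore 2 e) hAN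
      (D.coprime_A (odd_core e)) (Or.inr (CfsgLib.PF.oddSolvable _ (odd_core e)))).ge.trans ?_
    exact sup_le_sup_left (le_inf inf_le_left (D.core_inf_cen_le he he1)) _
  have hW₀odd : ¬ 2 ∣ Nat.card W₀ := fun h => hWodd (h.trans (card_dvd_of_le hW₀W))
  have hnoTop : ∀ N : Subgroup G, N ≠ ⊥ → normalizer (N : Set G) = ⊤ → N = ⊤ := fun N hN h =>
    ((normalizer_eq_top_iff.1 h).eq_bot_or_eq_top).resolve_left hN
  have hNA : ∀ g ∈ normalizer (D.A : Set G), g ∈ normalizer (W₀ : Set G) := by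
    intro g hg
    refine CfsgLib.Coprime.mem_normalizer_of_forall_conj fun y hy => ?_
    have hle : W₀.map (MulAut.conj g).toMonoidHom ≤ W₀ := by
      rw [hW₀, Subgroup.map_iSup]
      exact iSup_le fun b => (CfsgLib.SignalizerConn42.centralizerPPrimeCore_conj (p := 2) (b : G) g).trans
        (le_iSup (fun a : {a : G // a ∈ D.A ∧ a ≠ 1} => Cfsg.centralizerPPrimeCore 2 (a : G))
          ⟨g * b * g⁻¹, D.conjA hg b.2.1, fun e => b.2.2 (conj_eq_one_iff.1 e)⟩)
    exact hle (mem_map_of_mem _ hy)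
  obtain ⟨a₀, ha₀, ha₀1⟩ := D.exists_ne
  obtain ⟨M, hM, hMA, hMθ⟩ : ∃ M : Subgroup G, M ≠ ⊤ ∧ normalizer (D.A : Set G) ≤ M ∧
      ∀ a ∈ D.A, a ≠ 1 → Cfsg.centralizerPPrimeCore 2 a ≤ M := by
    by_cases hW1 : W₀ = ⊥
    · refine ⟨_, fun h => D.nc ?_, le_rfl, fun a ha ha1 => ?_⟩
      · have hA := hnoTop D.A D.E.ne_bot h
        exact ⟨⟨fun x y => D.E.commute_A (hA.ge (mem_top x)) (hA.ge (mem_top y))⟩⟩
      · have h1 : Cfsg.centralizerPPrimeCore 2 a ≤ W₀ := le_iSup
          (fun b : {b : G // b ∈ D.A ∧ b ≠ 1} => Cfsg.centralizerPPrimeCore 2 (b : G)) ⟨a, ha, ha1⟩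
        rw [hW1, le_bot_iff] at h1
        rw [h1]
        exact bot_le
    · refine ⟨normalizer (W₀ : Set G), fun h => hW₀odd ?_, hNA, fun a ha ha1 =>
        (le_iSup (fun b : {b : G // b ∈ D.A ∧ b ≠ 1} => Cfsg.centralizerPPrimeCore 2 (b : G))
          ⟨a, ha, ha1⟩).trans le_normalizer⟩
      rw [hnoTop W₀ hW1 h, card_top, ← D.orderOf_eq ha₀ ha₀1]
      exact orderOf_dvd_natCard a₀
  refine Or.inr (Cfsg.Agent.S1174.result D.E.S D.A D.E.ne_bot D.E.sc fun h => hM ?_)
  refine top_le_iff.1 (h.symm.le.trans (iSup_le fun t => fun c hc => ?_))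
  have ht1 : (t : G) ≠ 1 := fun e => by
    have := t.2.2
    rw [e, orderOf_one] at this
    omega
  obtain ⟨o, ho, n, hn, rfl⟩ := D.exists_core_mul t.2.1 ht1 hc
  exact mul_mem (hMθ _ t.2.1 ht1 ho) (hMA (centralizer_le_normalizer _ hn))

/-- An outer involution that is not `FourAt` passes the cores on. -/
theorem coreBal_of_not_four (hU : UniGoal.{u}) (hbelow : Below G) {b : G} (hb : D.Outer b)
    (hnf : ¬ FourAt D.A b) : D.CoreBal b := by
  classical
  obtain ⟨hb2, hbC, -⟩ := hb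
  intro e he he1
  have hAb : D.A ≤ cen b := fun a ha =>
    mem_centralizer_singleton_iff.2 (mem_centralizer_iff.1 hbC a ha)
  have heb : e ∈ cen b := hAb he
  set V := Cfsg.centralizerPPrimeCore 2 e ⊓ cen b with hV
  have hVodd : Odd (Nat.card V) := (odd_core e).of_dvd_nat (card_dvd_of_le inf_le_left)
  set e' : ↥(cen b) := ⟨e, heb⟩ with he'
  have he'2 : orderOf e' = 2 := by rw [← Subgroup.orderOf_coe]; exact D.orderOf_eq he he1
  have hVle : V.subgroupOf (cen b) ≤ Cfsg.centralizerPPrimeCore 2 e' :=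
    (comap_mono inf_le_left).trans (centralizerPPrimeCore_subgroupOf_le (cen b) e')
  refine FTCons.GoldFunctor.le_core heb (D.orderOf_eq he he1) inf_le_right inf_le_left fun L hL => ?_
  have hbe : bar b e' ∈ img b D.A := bar_mem_img he heb
  have hVN := FTCons.GoldFunctor.map_core_normalizes he'2 hL hVle
  rcases D.comp_cases hb2 hAb hL with hc | ⟨hle, hdis⟩
  · refine FTCons.GoldFunctor.core_commutes hL (T := zpowers e')
      (IsPGroup.of_card (n := 1) (by rw [Nat.card_zpowers, he'2, pow_one])) ?_ ?_ hVN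
    · rw [MonoidHom.map_zpowers, zpowers_le]
      exact hc hbe
    · rw [← centralizerPPrimeCore_eq_zpowers]
      exact hVle
  obtain ⟨L', hL', hle', hdis', hnab⟩ := (D.four_or_uni hb2 hAb hL hle hdis).resolve_left hnf
  obtain rfl := D.comp_unique hAb hL hL' hdis hle'
  obtain ⟨T, Q, Tb, Bb, hsc, hQ, hTb, hBb, hscb, hBbc, hBb4, hinv⟩ := D.comp_quot hb2 hAb hL hle hdis
  haveI := hL.2.2
  haveI := hL.2.1
  set X := ↥L' ⧸ center ↥L'
  set π := QuotientGroup.mk' (center ↥L') with hπ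
  have hXnc : ¬ IsMulCommutative X := fun h => hnab Tb ⟨⟨fun x y => Subtype.ext (h.is_comm.comm _ _)⟩⟩
  have hsmall : Nat.card X < Nat.card G := by
    refine ((Nat.card_le_card_of_surjective _ (QuotientGroup.mk'_surjective _)).trans
      (card_le_card_group L')).trans_lt ?_
    refine (Nat.card_le_card_of_surjective _ (QuotientGroup.mk'_surjective _)).trans_lt
      (card_lt_card_of_ne_top fun htop => ?_)
    have hbz : b ∈ center G := mem_center_iff.2 fun g =>
      mem_centralizer_singleton_iff.1 (show g ∈ cen b from htop ▸ mem_top g)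
    rw [center_bot_of_simple_noncomm D.nc, mem_bot] at hbz
    rw [hbz, orderOf_one] at hb2
    omega
  have hBb1 : Bb ≠ ⊥ := fun h => by rw [h, card_bot] at hBb4; omega
  have hconcl : Concl X := hbelow X hsmall hXnc ⟨Tb, Bb, hBb1, hBbc, hscb⟩
  have h4 : (involSet (Tb : Subgroup X)).ncard = 4 := by
    rw [hinv, ← Nat.card_coe_set_eq]; exact hBb4
  have hrig := hU X hXnc hconcl Tb h4 (hnab Tb)
  -- the image of `e`
  set y : ↥L' := ⟨bar b e', hle hbe⟩ with hy
  have hy1 : π y ≠ 1 := by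
    intro h
    have hyC : bar b e' ∈ img b D.A ⊓ centralizer (L' : Set (CenBar b)) :=
      ⟨hbe, mem_centralizer_iff.2 fun w hw =>
        congrArg Subtype.val (mem_center_iff.1 ((QuotientGroup.eq_one_iff y).1 h) ⟨w, hw⟩)⟩
    rw [hdis, mem_bot] at hyC
    exact he1 (congrArg Subtype.val (eq_one_of_bar_eq D.E.isPGroup_A (a := e') he hyC))
  have hy2 : orderOf (π y) = 2 := by
    refine orderOf_eq_prime ?_ hy1
    have h : y ^ 2 = 1 := Subtype.ext ((img_isElementary D.E.elem).2 _ hbe)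
    rw [← map_pow, h, map_one]
  set Oe : Subgroup (CenBar b) := Cfsg.centralizerPPrimeCore 2 (bar b e') with hOe
  have hVOe : (V.subgroupOf (cen b)).map (bar b) ≤ Oe :=
    (map_mono hVle).trans (map_centralizerPPrimeCore_le (isPGroup_zpowers he'2))
  have hOeC : Oe ≤ centralizer ({bar b e'} : Set (CenBar b)) := CfsgLib.Tech46.centralizerPPrimeCore_le _
  -- the centralizer of `ẽ` lifts to the centralizer of `ē`
  have hlift : ∀ x : ↥L', π x * π y = π y * π x → (x : CenBar b) * bar b e' = bar b e' * x := by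
    intro x hx
    have hcZ : x * y * x⁻¹ * y⁻¹ ∈ center ↥L' := by
      rw [← QuotientGroup.eq_one_iff, ← QuotientGroup.mk'_apply, map_mul, map_mul, map_mul, map_inv,
        map_inv, hx, mul_inv_cancel_right, mul_inv_cancel]
    set c : CenBar b := (x : CenBar b) * bar b e' * (x : CenBar b)⁻¹ * (bar b e')⁻¹ with hc
    have hcC : c ∈ centralizer (L' : Set (CenBar b)) := mem_centralizer_iff.2 fun w hw =>
      congrArg Subtype.val (mem_center_iff.1 hcZ ⟨w, hw⟩)
    have hcL : c ∈ L' := (x * y * x⁻¹ * y⁻¹).2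
    have hcT : c ∈ (T : Subgroup (CenBar b)) := component_center_le_sylow (cenBar_core b) T hL ⟨hcL, hcC⟩
    have hmem : (x : CenBar b) * bar b e' * (x : CenBar b)⁻¹ ∈ img b D.A := by
      refine hsc.2 _ hbe _ ?_
      rw [show (x : CenBar b) * bar b e' * (x : CenBar b)⁻¹ = c * bar b e' by rw [hc, inv_mul_cancel_right]]
      exact mul_mem hcT (hsc.1 hbe)
    have hc1 : c ∈ img b D.A ⊓ centralizer (L' : Set (CenBar b)) :=
      Subgroup.mem_inf.2 ⟨mul_mem hmem (inv_mem hbe), hcC⟩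
    rw [hdis, mem_bot] at hc1
    exact mul_inv_eq_iff_eq_mul.1 (mul_inv_eq_one.1 hc1)
  -- the automorphism induced by an element of `V`
  rw [commutator_comm]
  refine (commutator_comm _ _).trans (Components.commutator_eq_bot_of_perfect
    (component_commutator_self hL) (commutator_eq_bot_iff_le_centralizer.2 (commutator_le.2 ?_)))
  intro l hl v hv
  have hvN := hVN hv
  set ψ : MulAut ↥L' := L'.normalizerMonoidHom ⟨v, hvN⟩ with hψ
  set φ : MulAut X := QuotientGroup.congr (center ↥L') (center ↥L') ψ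
    (Subgroup.characteristic_iff_map_eq.1 inferInstance ψ) with hφdef
  have hvC : v * bar b e' = bar b e' * v := mem_centralizer_singleton_iff.1 (hOeC (hVOe hv))
  have hφπ : ∀ w : ↥L', φ (π w) = π (ψ w) := fun w => rfl
  have hodd : Odd (orderOf φ) := by
    have hvo : Odd (orderOf v) :=
      hVodd.of_dvd_nat ((orderOf_dvd_natCard _ hv).trans ((card_map_dvd _ _).trans
        (Nat.card_congr (subgroupOfEquivOfLe inf_le_right).toEquiv).dvd))
    have hψn : ∀ n : ℕ, ∀ w : ↥L', (φ ^ n) (π w) = π ((ψ ^ n) w) := by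
      intro n
      induction n with
      | zero => intro w; rfl
      | succ n ih => intro w; rw [pow_succ, pow_succ, MulAut.mul_apply, MulAut.mul_apply, hφπ, ih]
    refine hvo.of_dvd_nat (orderOf_dvd_of_pow_eq_one (MulEquiv.ext fun z => ?_))
    obtain ⟨w, rfl⟩ := QuotientGroup.mk'_surjective _ z
    rw [hψn, show ψ ^ orderOf v = 1 by
      rw [hψ, ← map_pow, ← map_one L'.normalizerMonoidHom]
      exact congrArg _ (Subtype.ext (pow_orderOf_eq_one v))]
    rfl
  have hfix : φ (π y) = π y := by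
    rw [hφπ]
    exact congrArg π (Subtype.ext (show v * bar b e' * v⁻¹ = bar b e' by rw [hvC, mul_inv_cancel_right]))
  have hmove : ∀ w : X, w * π y = π y * w → φ w * w⁻¹ ∈ Cfsg.centralizerPPrimeCore 2 (π y) := by
    intro w hw
    obtain ⟨x, rfl⟩ := QuotientGroup.mk'_surjective _ w
    set C := centralizer ({π y} : Set X) with hC
    set Y : Subgroup X := (Oe.subgroupOf L').map π with hY
    have hYC : Y ≤ C := by
      rintro _ ⟨o, ho, rfl⟩
      refine mem_centralizer_singleton_iff.2 ?_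
      rw [← map_mul, ← map_mul]
      exact congrArg π (Subtype.ext (mem_centralizer_singleton_iff.1 (hOeC (mem_subgroupOf.1 ho))))
    haveI : (Y.subgroupOf C).Normal := by
      refine ⟨fun o ho g => mem_subgroupOf.2 ?_⟩
      obtain ⟨o', ho', hoe⟩ := mem_subgroupOf.1 ho
      obtain ⟨g', hge⟩ := QuotientGroup.mk'_surjective _ (g : X)
      have hgC : (g' : CenBar b) ∈ centralizer ({bar b e'} : Set (CenBar b)) :=
        mem_centralizer_singleton_iff.2 (hlift g' (by
          rw [hπ, hge]; exact mem_centralizer_singleton_iff.1 g.2))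
      refine ⟨g' * o' * g'⁻¹, mem_subgroupOf.2 ((mem_normalizer_iff.1
        (CfsgLib.Tech46.le_normalizer_centralizerPPrimeCore _ hgC) _).1 (mem_subgroupOf.1 ho')), ?_⟩
      rw [map_mul, map_mul, map_inv, hoe, hπ, hge]
      rfl
    have hcop : (Nat.card ↥(Y.subgroupOf C)).Coprime 2 := by
      rw [Nat.card_congr (subgroupOfEquivOfLe hYC).toEquiv]
      refine (CfsgLib.Tech46.centralizerPPrimeCore_coprime (p := 2) (bar b e')).coprime_dvd_left
        ((card_map_dvd _ _).trans ?_)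
      exact card_comap_dvd_of_injective Oe L'.subtype (subtype_injective _)
    have hm : φ (π x) * (π x)⁻¹ ∈ Y := by
      refine ⟨ψ x * x⁻¹, mem_subgroupOf.2 ?_, by rw [map_mul, map_inv, ← hφπ]⟩
      show v * (x : CenBar b) * v⁻¹ * (x : CenBar b)⁻¹ ∈ Oe
      rw [mul_assoc, mul_assoc, ← mul_assoc (x : CenBar b)]
      exact mul_mem (hVOe hv) ((mem_normalizer_iff.1 (CfsgLib.Tech46.le_normalizer_centralizerPPrimeCore _
        (mem_centralizer_singleton_iff.2 (hlift x hw))) _).1 (inv_mem (hVOe hv)))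
    exact ⟨⟨_, hYC hm⟩, CfsgLib.PCore.le_pPrimeCore inferInstance hcop (mem_subgroupOf.2 hm), rfl⟩
  have hφ1 := hrig (π y) hy2 φ hodd hfix hmove
  set l' : ↥L' := ⟨l, hl⟩
  have hZ : l' * (ψ l')⁻¹ ∈ center ↥L' := by
    rw [← QuotientGroup.eq_one_iff, ← QuotientGroup.mk'_apply, map_mul, map_inv, ← hπ, ← hφπ, hφ1,
      MulAut.one_apply, mul_inv_cancel]
  refine mem_centralizer_iff.2 fun w hw => ?_
  have h := congrArg Subtype.val (mem_center_iff.1 hZ ⟨w, hw⟩)
  have e : ⁅l, v⁆ = ((l' * (ψ l')⁻¹ : ↥L') : CenBar b) := by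
    show l * v * l⁻¹ * v⁻¹ = l * (v * l * v⁻¹)⁻¹
    group
  rw [e]
  exact h

/-- Without the conclusion every coset contains a `FourAt` involution. -/
theorem everyBad (hU : UniGoal.{u}) (hbelow : Below G) (hG : ¬ Concl G) : D.EveryBad := by
  intro z hz
  by_contra hno
  push Not at hno
  refine hG (D.concl_of_coreBal hz fun e he => D.coreBal_of_not_four hU hbelow ?_ (hno e he))
  obtain ⟨hz2, hzC, hzA⟩ := hz
  have hc : Commute z e := (mem_centralizer_iff.1 hzC e he).symm
  refine ⟨orderOf_eq_prime (by rw [hc.mul_pow, ← hz2, pow_orderOf_eq_one, hz2, D.E.pow_two_A he, one_mul])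
    fun h => hzA ?_, mul_mem hzC (mem_centralizer_iff.2 fun a ha => D.E.commute_A ha he), fun h => hzA ?_⟩
  · rw [eq_inv_of_mul_eq_one_left h]; exact inv_mem he
  · have := mul_mem h (inv_mem he)
    rwa [mul_inv_cancel_right] at this

end Data

end CfsgLib.Goldschmidt.RankTwo
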