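import Cfsg.Agent.Lib.Goldschmidt.RankTwo.Types

/-!
# Goldschmidt, rank two: the shared vocabulary of the pieces

`Outer` involutions centralise `A` outside it, `Loc r` is a Sylow 2-subgroup of `C(r)` with a rotation,
`Frame` is the configuration at a `FourAt` involution with largest centralizer, `Sides` is the configuration
that is counted.  The `…Goal`s are the statements of the pieces.
-/

set_option autoImplicit false
set_option linter.unusedSectionVars false

namespace CfsgLib.Goldschmidt.RankTwo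

open Subgroup CfsgLib.Walter.RankFour

universe u

local instance : Fact (Nat.Prime 2) := ⟨Nat.prime_two⟩

variable {G : Type u} [Group G] [Finite G]

namespace Data

variable (D : Data G)

/-- An involution centralising `A` outside `A`. -/
def Outer (z : G) : Prop := orderOf z = 2 ∧ z ∈ centralizer (D.A : Set G) ∧ z ∉ D.A

/-- The odd cores at the involutions of `A` enter the core at `b`. -/
def CoreBal (b : G) : Prop :=
  ∀ e ∈ D.A, e ≠ 1 → Cfsg.centralizerPPrimeCore 2 e ⊓ cen b ≤ Cfsg.centralizerPPrimeCore 2 b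

/-- Every coset of an outer involution contains a `FourAt` involution. -/
def EveryBad : Prop := ∀ z, D.Outer z → ∃ e ∈ D.A, FourAt D.A (z * e)

/-- A Sylow 2-subgroup `A × R` of `C(r)` and a rotation centralising `R`. -/
structure Loc (r : G) where
  T : Subgroup G
  R : Subgroup G
  n : G
  two : IsPGroup 2 ↥T
  le_cen : T ≤ cen r
  maximal : ∀ Q : Subgroup G, IsPGroup 2 ↥Q → Q ≤ cen r → T ≤ Q → Q = T
  le_A : D.A ≤ T
  R_le : R ≤ T
  disj : D.A ⊓ R = ⊥
  split : ∀ t ∈ T, ∃ a ∈ D.A, ∃ x ∈ R, t = a * x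
  rot : D.Rot n
  n_cen : n ∈ cen r
  n_fix : ∀ x ∈ R, n * x = x * n
  r_mem : r ∈ R

/-- A 2-subgroup containing `A` and centralising an outer involution has order at most `m`. -/
def TwoBound (m : ℕ) : Prop :=
  ∀ x, D.Outer x → ∀ Q : Subgroup G, IsPGroup 2 ↥Q → Q ≤ cen x → D.A ≤ Q → Nat.card Q ≤ m

/-- Sylow 2-subgroups of `C(r)` for `FourAt` involutions `r` split. -/
def LocGoal : Prop :=
  ∀ r, D.Outer r → FourAt D.A r → ∀ Q : Subgroup G, IsPGroup 2 ↥Q → Q ≤ cen r → D.A ≤ Q →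
    ∃ L : D.Loc r, Q ≤ L.T

/-- `N_S(P)`. -/
def top (S : Sylow 2 G) (P : Subgroup G) : Subgroup G := (S : Subgroup G) ⊓ normalizer (P : Set G)

/-- The configuration at a `FourAt` involution `r` with largest centralizer. -/
structure Frame where
  r : G
  outer : D.Outer r
  four : FourAt D.A r
  L : D.Loc r
  S : Sylow 2 G
  T_le : L.T ≤ (S : Subgroup G)
  sylow : ∀ Q : Subgroup G, IsPGroup 2 ↥Q → Q ≤ normalizer (L.T : Set G) →
    Data.top S L.T ≤ Q → Q = Data.top S L.T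
  bound : D.TwoBound (Nat.card ↥L.T)
  elem : Cfsg.IsElementaryAbelian 2 L.T
  card_R : Nat.card ↥L.R = 2 ∨ Nat.card ↥L.R = 4
  card_T : Nat.card ↥L.T = 4 * Nat.card ↥L.R
  card_top : Nat.card ↥(Data.top S L.T) = 4 * Nat.card ↥L.T
  sq_mem : ∀ s ∈ Data.top S L.T, s * s ∈ D.A
  comm_mem : ∀ s ∈ Data.top S L.T, ∀ t ∈ Data.top S L.T, s * t * s⁻¹ * t⁻¹ ∈ D.A
  cen_eq : ∀ x ∈ L.T, x ∉ D.A → ∀ s ∈ (S : Subgroup G), s * x = x * s → s ∈ L.T
  trans : ∀ x ∈ L.T, x ∉ D.A → ∀ a ∈ D.A, ∃ s ∈ Data.top S L.T, s * x * s⁻¹ = x * a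

/-- A largest centralizer gives a frame. -/
def FrameGoal : Prop :=
  ∀ r, D.Outer r → FourAt D.A r → ∀ L : D.Loc r, D.TwoBound (Nat.card ↥L.T) → ∀ S : Sylow 2 G,
    L.T ≤ (S : Subgroup G) →
    (∀ Q : Subgroup G, IsPGroup 2 ↥Q → Q ≤ normalizer (L.T : Set G) →
      Data.top S L.T ≤ Q → Q = Data.top S L.T) →
    ∃ F : D.Frame, F.S = S ∧ F.r = r ∧ F.L.T = L.T

/-- Two `FourAt` involutions without commuting conjugates in one Sylow 2-subgroup. -/
structure Sides where
  S : Sylow 2 G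
  r : G
  v : G
  r_outer : D.Outer r
  v_outer : D.Outer v
  r_four : FourAt D.A r
  v_four : FourAt D.A v
  Lr : D.Loc r
  Lv : D.Loc v
  r_le : Lr.T ≤ (S : Subgroup G)
  v_le : Lv.T ≤ (S : Subgroup G)
  noncomm : ∀ x ∈ Lr.T, x ∉ D.A → ∀ y ∈ Lv.T, y ∉ D.A → x * y ≠ y * x
  comm_mem : ∀ x ∈ Lr.T, ∀ y ∈ Lv.T, x * y * x⁻¹ * y⁻¹ ∈ D.A
  r_conj : ∀ g : G, g * r * g⁻¹ ∈ (S : Subgroup G) → g * r * g⁻¹ ∈ Lr.T
  v_conj : ∀ g : G, g * v * g⁻¹ ∈ (S : Subgroup G) → g * v * g⁻¹ ∈ Lv.T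
  r_trans : ∀ x ∈ Lr.T, x ∉ D.A → ∀ a ∈ D.A, ∃ s : G, s * x * s⁻¹ = x * a
  v_trans : ∀ x ∈ Lv.T, x ∉ D.A → ∀ a ∈ D.A, ∃ s : G, s * x * s⁻¹ = x * a

/-- `|R| = 2` is impossible. -/
def EightGoal : Prop :=
  D.EveryBad → D.LocGoal → D.FrameGoal → ∀ F : D.Frame, Nat.card ↥F.L.R = 2 → False

/-- `|R| = 4` leads to two sides. -/
def SidesGoal : Prop :=
  D.EveryBad → D.LocGoal → ∀ F : D.Frame, Nat.card ↥F.L.R = 4 → Nonempty D.Sides

/-- The conjugates of `e` centralising `r`. -/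
def classIn (e r : G) : Set G := {d | IsConj e d ∧ d ∈ cen r}

/-- More than a third of the pairs in `classIn e r` have a product of odd order. -/
def PairsBound : Prop :=
  ∀ r, D.Outer r → FourAt D.A r → ∀ _L : D.Loc r, ∀ e ∈ D.A, e ≠ 1 →
    (classIn e r).ncard ^ 2 <
      3 * {p : G × G | p.1 ∈ classIn e r ∧ p.2 ∈ classIn e r ∧ Odd (orderOf (p.1 * p.2))}.ncard

/-- The counting contradiction. -/
def CountGoal : Prop := D.PairsBound → D.Sides → False

end Data

/-- A simple group with Sylow 2-subgroups of order four: more than a third of the pairs of involutions have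
a product of odd order. -/
def FracGoal : Prop :=
  ∀ (X : Type u) [Group X] [Finite X] [IsSimpleGroup X], ¬ IsMulCommutative X →
    (∀ S : Sylow 2 X, Nat.card ↥(S : Subgroup X) = 4) →
    {x : X | orderOf x = 2}.ncard ^ 2 <
      3 * {p : X × X | orderOf p.1 = 2 ∧ orderOf p.2 = 2 ∧ Odd (orderOf (p.1 * p.2))}.ncard

/-- The model fact at a component with non-abelian Sylow 2-subgroups: an automorphism of odd order fixing an
involution `d` and moving `C(d)` only by its core is trivial. -/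
def UniRigid (X : Type u) [Group X] : Prop :=
  ∀ d : X, orderOf d = 2 → ∀ φ : MulAut X, Odd (orderOf φ) → φ d = d →
    (∀ x : X, x * d = d * x → φ x * x⁻¹ ∈ Cfsg.centralizerPPrimeCore 2 d) → φ = 1

/-- The model fact for all simple groups that can occur. -/
def UniGoal : Prop :=
  ∀ (X : Type u) [Group X] [Finite X] [IsSimpleGroup X], ¬ IsMulCommutative X → Concl X →
    ∀ T : Sylow 2 X, (involSet (T : Subgroup X)).ncard = 4 →
      ¬ IsMulCommutative ↥(T : Subgroup X) → UniRigid X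

/-- The theorem when `A` contains all the involutions centralising it. -/
def NoOuterGoal : Prop :=
  ∀ {G : Type u} [Group G] [Finite G] [IsSimpleGroup G] (D : Data G),
    (∀ z, ¬ D.Outer z) → Concl G

end CfsgLib.Goldschmidt.RankTwo
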