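import Cfsg.Agent.Lib.Goldschmidt.RankTwo.Interface

/-!
# Goldschmidt, rank two: a Sylow 2-subgroup of the centralizer of a `FourAt` involution splits over `A`

The Sylow 2-subgroup of the component `L` is the image of `A`, so a Sylow 2-subgroup `T` of `C(r)` is
`A × R` with `R` centralising `L` modulo the core, and a cycle of `L` lifts to a rotation centralising `R`.
-/

set_option autoImplicit false
set_option linter.unusedSectionVars false
set_option linter.style.haveILetI false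

namespace CfsgLib.Goldschmidt.RankTwo

open Subgroup CfsgLib.Walter.RankFour

universe u

local instance : Fact (Nat.Prime 2) := ⟨Nat.prime_two⟩

variable {G : Type u} [Group G] [Finite G]

namespace Data

variable (D : Data G) [IsSimpleGroup G]

/-- `LocGoal`. -/
theorem locGoal : D.LocGoal := by
  intro r hr hfour Q hQ hQc hAQ
  obtain ⟨hr2, hrA, -⟩ := hr
  have hA : D.A ≤ cen r := hAQ.trans hQc
  have hrc : r ∈ cen r := mem_centralizer_singleton_iff.2 rfl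
  set Q' : Subgroup G := Q ⊔ zpowers r with hQ'
  have hQ'p : IsPGroup 2 ↥Q' := hQ.to_sup_of_normal_left'
    (IsPGroup.of_card (n := 1) (by rw [Nat.card_zpowers, hr2, pow_one]))
    (zpowers_le.2 (centralizer_le_normalizer _ (mem_centralizer_iff.2 fun q hq =>
      mem_centralizer_singleton_iff.1 (hQc hq))))
  have hQ'c : Q' ≤ cen r := sup_le hQc (zpowers_le.2 hrc)
  obtain ⟨P, Tb, hQP, hscP, hTb, hsc⟩ :=
    exists_sylow_cen D.E.S D.E.sc hQ'p hQ'c (hAQ.trans le_sup_left)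
  have hPA : (P : Subgroup G) ≤ centralizer (D.A : Set G) := D.sylow_le_centralizer P hscP.1
  obtain ⟨L, hL, hle, hdis, h4⟩ := hfour
  set B : Subgroup (CenBar r) := img r D.A with hB
  set T : Subgroup G := (P : Subgroup G) ⊓ cen r with hT
  have hTp : IsPGroup 2 ↥T := P.2.to_le inf_le_left
  have hTimg : img r T = (Tb : Subgroup (CenBar r)) := by
    rw [hTb]
    ext y
    constructor
    · intro hy
      obtain ⟨t, ht, htc, rfl⟩ := mem_img.1 hy
      exact bar_mem_img ht.1 htc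
    · intro hy
      obtain ⟨t, ht, htc, rfl⟩ := mem_img.1 hy
      exact bar_mem_img (show t ∈ T from ⟨ht, htc⟩) htc
  have hAT : D.A ≤ T := le_inf hscP.1 hA
  have hBmem : ∀ a (ha : a ∈ D.A), bar r ⟨a, hA ha⟩ ∈ B := fun a ha => bar_mem_img ha _
  have hBc : ∀ t ∈ (Tb : Subgroup (CenBar r)), ∀ b ∈ B, t * b * t⁻¹ = b := by
    intro t ht b hb
    rw [← hTimg] at ht
    obtain ⟨s, hs, hsc', rfl⟩ := mem_img.1 ht
    obtain ⟨a, ha, hac, rfl⟩ := mem_img.1 hb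
    have h : (⟨s, hsc'⟩ : ↥(cen r)) * ⟨a, hac⟩ = ⟨a, hac⟩ * ⟨s, hsc'⟩ :=
      Subtype.ext (mem_centralizer_iff.1 (hPA hs.1) a ha).symm
    rw [← map_mul, h, map_mul, mul_inv_cancel_right]
  -- `T` normalises `L`
  have hTN : (Tb : Subgroup (CenBar r)) ≤ normalizer (L : Set (CenBar r)) := by
    intro t ht
    rw [mem_normalizer_iff_map_conj_eq]
    refine D.comp_unique hA hL (CfsgLib.Components.isComponent_conj t hL) hdis fun b hb => ?_
    exact ⟨b, hle hb, hBc t ht b hb⟩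
  -- the Sylow 2-subgroup of `L` is `B`
  obtain ⟨Q0, hQ0⟩ := CfsgLib.SubJoin.exists_sylow_subnormal Tb hL.1
  have hBcard : Nat.card ↥B = 4 := D.img_card hA
  have hQ0B : (Q0 : Subgroup ↥L) = B.subgroupOf L := by
    refine (eq_of_le_of_card_ge (fun x hx => ?_) ?_).symm
    · rw [hQ0, mem_subgroupOf]
      exact hsc.1 hx
    · rw [h4 Q0, Nat.card_congr (subgroupOfEquivOfLe hle).toEquiv, hBcard]
  have hTL : ∀ x ∈ (Tb : Subgroup (CenBar r)), x ∈ L → x ∈ B := by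
    intro x hx hxL
    have : (⟨x, hxL⟩ : ↥L) ∈ (Q0 : Subgroup ↥L) := by rw [hQ0, mem_subgroupOf]; exact hx
    rwa [hQ0B, mem_subgroupOf] at this
  have hZ : center ↥L = ⊥ := eq_bot_iff.2 fun z hz => by
    have hzC : (z : CenBar r) ∈ centralizer (L : Set (CenBar r)) :=
      mem_centralizer_iff.2 fun y hy => congrArg Subtype.val (mem_center_iff.1 hz ⟨y, hy⟩)
    have hzT := component_center_le_sylow (cenBar_core r) Tb hL ⟨z.2, hzC⟩
    have h : (z : CenBar r) ∈ B ⊓ centralizer (L : Set (CenBar r)) := ⟨hTL _ hzT z.2, hzC⟩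
    rw [hdis, mem_bot] at h
    exact mem_bot.2 (Subtype.ext h)
  have hAC : IsAComp B L := ⟨hL, fun h => D.img_ne_bot hA (by rwa [inf_of_le_left h] at hdis)⟩
  have hgood : AGood ↥L := agood_congr
    ((QuotientGroup.quotientMulEquivOfEq hZ).trans QuotientGroup.quotientBot) (D.goodComps hr2 hA L hAC)
  have hinv : involSet (Q0 : Subgroup ↥L) = (B.subgroupOf L : Set ↥L) := by
    ext x
    rw [hQ0B]
    refine ⟨fun h => h.1, fun h => ⟨h, Subtype.ext ?_⟩⟩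
    rw [Subgroup.coe_pow, Subgroup.coe_one]
    exact (img_isElementary D.E.elem).2 _ (mem_subgroupOf.1 h)
  -- `T = B (T ∩ C(L))`
  have hsplit : ∀ t ∈ (Tb : Subgroup (CenBar r)),
      ∃ b ∈ B, b⁻¹ * t ∈ centralizer (L : Set (CenBar r)) := by
    intro t ht
    set φ : MulAut ↥L := L.normalizerMonoidHom ⟨t, hTN ht⟩ with hφ
    obtain ⟨k, hk⟩ := Tb.isPGroup' ⟨t, ht⟩
    obtain ⟨z, hz, hzφ⟩ := hgood.inner Q0 φ ⟨k, by
        rw [hφ, ← map_pow, ← map_one L.normalizerMonoidHom]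
        exact congrArg _ (Subtype.ext (congrArg Subtype.val hk :))⟩
      (fun x hx => Subtype.ext (by
        rw [hinv] at hx
        exact hBc t ht _ (mem_subgroupOf.1 hx)))
      (fun x hx => by
        rw [hinv]
        rw [hQ0B] at hx
        refine mem_subgroupOf.2 ?_
        show t * (x : CenBar r) * t⁻¹ * (x : CenBar r)⁻¹ ∈ B
        rw [hBc t ht _ (mem_subgroupOf.1 hx), mul_inv_cancel]
        exact one_mem _)
    rw [hQ0B] at hz
    refine ⟨z, mem_subgroupOf.1 hz, mem_centralizer_iff.2 fun y hy => ?_⟩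
    have h0 := congrArg Subtype.val (DFunLike.congr_fun hzφ (⟨y, hy⟩ : ↥L))
    have h : t * y * t⁻¹ = (z : CenBar r) * y * (z : CenBar r)⁻¹ := by simpa [hφ] using h0
    calc y * ((z : CenBar r)⁻¹ * t) =
          (z : CenBar r)⁻¹ * ((z : CenBar r) * y * (z : CenBar r)⁻¹) * t := by group
      _ = (z : CenBar r)⁻¹ * (t * y * t⁻¹) * t := by rw [h]
      _ = _ := by group
  -- the complement
  set R : Subgroup G := ((centralizer (L : Set (CenBar r))).comap (bar r) ⊓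
    T.subgroupOf (cen r)).map (cen r).subtype with hR
  have hRmem : ∀ x, x ∈ R ↔ ∃ h : x ∈ cen r, bar r ⟨x, h⟩ ∈ centralizer (L : Set (CenBar r)) ∧ x ∈ T := by
    intro x
    constructor
    · rintro ⟨⟨y, hy⟩, ⟨h1, h2⟩, rfl⟩; exact ⟨hy, h1, mem_subgroupOf.1 h2⟩
    · rintro ⟨h, h1, h2⟩; exact ⟨⟨x, h⟩, ⟨h1, mem_subgroupOf.2 h2⟩, rfl⟩
  -- the rotation
  obtain ⟨g, hg, -, htrans, -⟩ := hgood.exists_cycle Q0
  have hgB : ∀ b ∈ B, (g : CenBar r) * b * (g : CenBar r)⁻¹ ∈ B := by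
    intro b hb
    have h := (mem_normalizer_iff.1 hg ⟨b, hle hb⟩).1 (by rw [hQ0B, mem_subgroupOf]; exact hb)
    rw [hQ0B, mem_subgroupOf] at h
    exact h
  have hgT : ∀ t ∈ (Tb : Subgroup (CenBar r)),
      (g : CenBar r) * t * (g : CenBar r)⁻¹ ∈ (Tb : Subgroup (CenBar r)) := by
    intro t ht
    obtain ⟨b, hb, hbt⟩ := hsplit t ht
    have e : (g : CenBar r) * t * (g : CenBar r)⁻¹ =
        (g : CenBar r) * b * (g : CenBar r)⁻¹ * (b⁻¹ * t) :=
      calc (g : CenBar r) * t * (g : CenBar r)⁻¹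
          = (g : CenBar r) * b * (g : CenBar r)⁻¹ * ((g : CenBar r) * (b⁻¹ * t)) * (g : CenBar r)⁻¹ := by
            group
        _ = (g : CenBar r) * b * (g : CenBar r)⁻¹ * ((b⁻¹ * t) * (g : CenBar r)) * (g : CenBar r)⁻¹ := by
            rw [mem_centralizer_iff.1 hbt _ g.2]
        _ = _ := by group
    rw [e]
    exact mul_mem (hsc.1 (hgB b hb)) (mul_mem (inv_mem (hsc.1 hb)) ht)
  obtain ⟨c, hcg⟩ := QuotientGroup.mk'_surjective (Cfsg.pPrimeCore 2 ↥(cen r)) (g : CenBar r)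
  have hcg' : bar r c = (g : CenBar r) := hcg
  set O := Cfsg.pPrimeCore 2 ↥(cen r) with hO
  haveI hOn : O.Normal := Cfsg.pPrimeCore_normal 2 _
  set Tc : Subgroup ↥(cen r) := T.subgroupOf (cen r) with hTc
  have hTcp : IsPGroup 2 ↥Tc := hTp.comap_subtype
  set N : Subgroup ↥(cen r) := (Tb : Subgroup (CenBar r)).comap (bar r) with hN
  have hTcN : Tc ≤ N := by
    intro t ht
    show bar r t ∈ (Tb : Subgroup (CenBar r))
    rw [← hTimg]
    exact bar_mem_img (mem_subgroupOf.1 ht) t.2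
  have hNdec : ∀ x ∈ N, ∃ ω ∈ O, ∃ t ∈ Tc, ω * t = x := by
    intro x hx
    have hx' : bar r x ∈ img r T := by rw [hTimg]; exact hx
    obtain ⟨t, ht, htc, hte⟩ := mem_img.1 hx'
    exact ⟨x * (⟨t, htc⟩ : ↥(cen r))⁻¹, (QuotientGroup.eq_one_iff _).1 (by
      show bar r (x * (⟨t, htc⟩ : ↥(cen r))⁻¹) = 1
      rw [map_mul, map_inv, hte, mul_inv_cancel]), _, mem_subgroupOf.2 ht, inv_mul_cancel_right _ _⟩
  set Tc' : Subgroup ↥(cen r) := Tc.map (MulAut.conj c).toMonoidHom with hTc'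
  have hTc'N : Tc' ≤ N := by
    rintro _ ⟨t, ht, rfl⟩
    show bar r (c * t * c⁻¹) ∈ (Tb : Subgroup (CenBar r))
    rw [map_mul, map_mul, map_inv, hcg']
    exact hgT _ (hTcN ht)
  obtain ⟨U, hU⟩ := ((hTcp.map (MulAut.conj c).toMonoidHom).comap_of_injective N.subtype
    (subtype_injective _) : IsPGroup 2 ↥(Tc'.subgroupOf N)).exists_le_sylow
  have hTcmax : ∀ Q : Subgroup ↥(cen r), IsPGroup 2 ↥Q → Tc ≤ Q → Q = Tc := by
    intro Q hQ hle'
    refine (eq_of_le_of_card_ge hle' ?_).symm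
    have h1 : Q.map (bar r) = (Tb : Subgroup (CenBar r)) := Tb.3 (hQ.map _) fun y hy => by
      rw [← hTimg] at hy
      obtain ⟨t, ht, htc, rfl⟩ := mem_img.1 hy
      exact ⟨_, hle' (mem_subgroupOf.2 ht), rfl⟩
    have hQG : img r (Q.map (cen r).subtype) = Q.map (bar r) := by
      rw [img, subgroupOf, comap_map_eq_self_of_injective (subtype_injective _)]
    have h2 := card_img (hQ.map (cen r).subtype) (map_subtype_le Q)
    rw [hQG, h1, ← hTimg, card_img hTp inf_le_right,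
      card_map_of_injective (subtype_injective (cen r))] at h2
    rw [← h2, hTc, Nat.card_congr (subgroupOfEquivOfLe inf_le_right).toEquiv]
  have hTcS : ∀ W : Subgroup ↥N, IsPGroup 2 ↥W → Tc.subgroupOf N ≤ W → W = Tc.subgroupOf N := by
    intro W hW hle'
    have h := hTcmax (W.map N.subtype) (hW.map _) (by
      rw [← map_subgroupOf_eq_of_le hTcN]; exact Subgroup.map_mono hle')
    rw [← h, subgroupOf, comap_map_eq_self_of_injective (subtype_injective _)]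
  let ST : Sylow 2 ↥N := ⟨Tc.subgroupOf N, hTcp.comap_subtype, fun {W} hW h => hTcS W hW h⟩
  obtain ⟨o, ho⟩ := MulAction.exists_smul_eq ↥N U ST
  -- `o * c` normalises `Tc`; replace `o` by its core part
  have hoc : ∀ t ∈ Tc, (o : ↥(cen r)) * (c * t * c⁻¹) * (o : ↥(cen r))⁻¹ ∈ Tc := by
    intro t ht
    have h1 : MulAut.conj o ⟨c * t * c⁻¹, hTc'N ⟨t, ht, rfl⟩⟩ ∈ (ST : Subgroup ↥N) := by
      rw [← ho]
      exact Subgroup.smul_mem_pointwise_smul _ (MulAut.conj o) _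
        (hU (mem_subgroupOf.2 ⟨t, ht, rfl⟩))
    exact mem_subgroupOf.1 h1
  obtain ⟨ω, hω, t₀, ht₀, hot⟩ := hNdec (o : ↥(cen r))⁻¹ (inv_mem o.2)
  -- `o⁻¹ = ω t₀`, so `n = ω⁻¹ c` normalises `Tc`
  set n₁ : ↥(cen r) := ω⁻¹ * c with hn₁
  have hn₁T : ∀ t ∈ Tc, n₁ * t * n₁⁻¹ ∈ Tc := by
    intro t ht
    have e : n₁ * t * n₁⁻¹ =
        t₀ * ((o : ↥(cen r)) * (c * t * c⁻¹) * (o : ↥(cen r))⁻¹) * t₀⁻¹ := by
      have : (o : ↥(cen r)) = t₀⁻¹ * ω⁻¹ := by rw [← _root_.mul_inv_rev, hot, inv_inv]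
      rw [hn₁, this]; group
    rw [e]
    exact mul_mem (mul_mem ht₀ (hoc t ht)) (inv_mem ht₀)
  have hn₁bar : bar r n₁ = (g : CenBar r) := by
    rw [hn₁, map_mul, map_inv,
      show bar r ω = 1 from (QuotientGroup.eq_one_iff (N := O) ω).2 hω, inv_one, one_mul, hcg']
  have hnT : ∀ t ∈ T, (n₁ : G) * t * (n₁ : G)⁻¹ ∈ T := fun t ht =>
    mem_subgroupOf.1 (hn₁T ⟨t, ht.2⟩ (mem_subgroupOf.2 ht))
  have hnA : (n₁ : G) ∈ normalizer (D.A : Set G) :=
    CfsgLib.Coprime.mem_normalizer_of_forall_conj fun a ha => hscP.2 a ha _ (hnT a (hAT ha)).1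
  have hbn : ∀ a (ha : a ∈ D.A), bar r (n₁ * ⟨a, hA ha⟩ * n₁⁻¹) =
      (g : CenBar r) * bar r ⟨a, hA ha⟩ * (g : CenBar r)⁻¹ := by
    intro a ha; rw [map_mul, map_mul, map_inv, hn₁bar]
  refine ⟨⟨T, R, (n₁ : G), hTp, inf_le_right, fun Q2 hQ2 hQ2c hTQ2 => ?_, hAT,
    fun x hx => ((hRmem x).1 hx).2.2, ?_, fun t ht => ?_, ⟨hnA, fun a ha hfix => ?_⟩, n₁.2,
    fun x hx => ?_, ?_⟩, fun q hq => ⟨hQP (mem_sup_left hq), hQc hq⟩⟩
  · have h := hTcmax (Q2.subgroupOf (cen r)) hQ2.comap_subtype (comap_mono hTQ2)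
    rw [← map_subgroupOf_eq_of_le hQ2c, h, hTc, map_subgroupOf_eq_of_le inf_le_right]
  · refine eq_bot_iff.2 fun a ha => ?_
    obtain ⟨h, h1, -⟩ := (hRmem a).1 ha.2
    have h2 : bar r ⟨a, h⟩ ∈ B ⊓ centralizer (L : Set (CenBar r)) := ⟨bar_mem_img ha.1 h, h1⟩
    rw [hdis, mem_bot] at h2
    exact mem_bot.2 (congrArg Subtype.val (eq_one_of_bar_eq D.E.isPGroup_A (a := ⟨a, h⟩) ha.1 h2))
  · obtain ⟨b, hb, hbt⟩ := hsplit (bar r ⟨t, ht.2⟩) (hTimg ▸ bar_mem_img ht ht.2)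
    obtain ⟨a, ha, hac, rfl⟩ := mem_img.1 hb
    refine ⟨a, ha, a⁻¹ * t, (hRmem _).2 ⟨mul_mem (inv_mem hac) ht.2, ?_, mul_mem (inv_mem (hAT ha)) ht⟩,
      (mul_inv_cancel_left a t).symm⟩
    rw [← map_inv, ← map_mul] at hbt
    exact hbt
  · by_contra ha1
    set x : ↥L := ⟨bar r ⟨a, hA ha⟩, hle (hBmem a ha)⟩ with hx
    have hgx : (g : CenBar r) * bar r ⟨a, hA ha⟩ * (g : CenBar r)⁻¹ = bar r ⟨a, hA ha⟩ := by
      rw [← hbn a ha]; exact congrArg _ (Subtype.ext hfix)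
    have hcomm : Commute g x :=
      mul_inv_eq_iff_eq_mul.1 (Subtype.ext hgx : g * x * g⁻¹ = x)
    obtain ⟨b, hbA, hb1, hba⟩ := D.exists_other a
    have hne : ∀ c ∈ D.A, ∀ h : c ∈ cen r, bar r ⟨c, h⟩ = 1 → c = 1 := fun c hc h e =>
      congrArg Subtype.val (eq_one_of_bar_eq D.E.isPGroup_A (a := ⟨c, h⟩) hc e)
    obtain ⟨i, hi⟩ := htrans x (hinv ▸ mem_subgroupOf.2 (hBmem a ha))
      (fun e => ha1 (hne a ha _ (congrArg Subtype.val e)))
      ⟨bar r ⟨b, hA hbA⟩, hle (hBmem b hbA)⟩ (hinv ▸ mem_subgroupOf.2 (hBmem b hbA))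
      (fun e => hb1 (hne b hbA _ (congrArg Subtype.val e)))
    rw [(hcomm.pow_left i).eq, mul_inv_cancel_right] at hi
    exact hba (congrArg Subtype.val (bar_inj_two D.E.isPGroup_A (a := ⟨b, hA hbA⟩) (b := ⟨a, hA ha⟩)
      hbA ha (congrArg Subtype.val hi).symm))
  · obtain ⟨h, h1, hxT⟩ := (hRmem x).1 hx
    have h2 : bar r (n₁ * ⟨x, h⟩ * n₁⁻¹ * (⟨x, h⟩ : ↥(cen r))⁻¹) = 1 := by
      rw [map_mul, map_mul, map_mul, map_inv, map_inv, hn₁bar,
        mem_centralizer_iff.1 h1 _ g.2, mul_inv_cancel_right, mul_inv_cancel]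
    have h3 := congrArg Subtype.val (eq_one_of_bar_eq hTp
      (mul_mem (hnT x hxT) (inv_mem hxT)) h2)
    exact mul_inv_eq_iff_eq_mul.1 (mul_inv_eq_one.1 h3)
  · refine (hRmem r).2 ⟨hrc, mem_centralizer_iff.2 fun y _ => ?_,
      hQP (mem_sup_right (mem_zpowers r)), hrc⟩
    obtain ⟨z, rfl⟩ := QuotientGroup.mk'_surjective _ y
    show bar r z * bar r ⟨r, hrc⟩ = bar r ⟨r, hrc⟩ * bar r z
    rw [← map_mul, ← map_mul]
    exact congrArg _ (Subtype.ext (mem_centralizer_singleton_iff.1 z.2))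

end Data

end CfsgLib.Goldschmidt.RankTwo
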