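import Cfsg.Agent.Lib.Goldschmidt.RankTwo.Interface
import Cfsg.Agent.Lib.GoldEven74.Embedded
import Cfsg.Agent.Lib.BinaryUnitary.Main
import Cfsg.Agent.Lib.InvChar.HermNoSymThree
import Cfsg.Agent.Lib.RankOneRecog.Class
import Cfsg.Agent.Lib.BenderQ.Bender
import Cfsg.Agent.Lib.SuzukiGroup.Group
import Cfsg.Agent.S0486
import Cfsg.Agent.S0516
import Cfsg.Agent.S0815

/-!
# Goldschmidt, rank two: the models

In `PSU₃(4)` an automorphism of odd order fixing an involution `d` and moving `C(d)` only by its core is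
trivial.  A simple group in which the four-group `A` contains all the involutions centralising it has abelian
Sylow 2-subgroups or a strongly embedded subgroup.
-/

set_option autoImplicit false
set_option linter.unusedSectionVars false
set_option linter.style.haveILetI false

namespace CfsgLib.Goldschmidt.RankTwo

open Subgroup CfsgLib.Walter.RankFour

universe u

local instance : Fact (Nat.Prime 2) := ⟨Nat.prime_two⟩

section Unitary

open CfsgLib.BinaryUnitary CfsgLib.ClassicalGroups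

variable {F : Type} [Field F] [Fintype F] [CharP F 2]

local notation "𝔾" => Cfsg.PSU 3 F 4

/-- An element centralising a Sylow 2-subgroup of `PSU₃(4)` lies in it. -/
theorem psu_four_centralizer_le (hF : Fintype.card F = 4 ^ 2) (P : Sylow 2 𝔾) :
    centralizer ((P : Subgroup 𝔾) : Set 𝔾) ≤ (P : Subgroup 𝔾) := by
  classical
  intro g hg
  obtain ⟨c, hc, hcen, hP⟩ := sylow_center hF P
  obtain ⟨T, hT⟩ := exists_isT hF hc
  obtain ⟨A, rfl⟩ := pr_surjective g
  have hTP : pr T ∈ (P : Subgroup 𝔾) := by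
    have h1 := mem_zc hF hc hT
    rw [← hcen] at h1
    exact map_subtype_le _ h1
  have hTT : T * T = 1 := by rw [← pow_two, ← IsT.orderOf hF hT, pow_orderOf_eq_one]
  have hconj : A * T * A⁻¹ = T := eq_of_pr_eq hF
    (by rw [show A * T * A⁻¹ * (A * T * A⁻¹) = A * (T * T) * A⁻¹ by group, hTT]; group) hTT
    (by rw [map_mul, map_mul, map_inv, ← mem_centralizer_iff.1 hg _ hTP, mul_inv_cancel_right])
  obtain ⟨m, hm⟩ := dep_of_orth hF hc (hc.map A).2 (hT.h_eq_zero_of_isT hF (hconj ▸ hT.map A))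
  obtain ⟨p, d, h⟩ := exists_frame hF hc
  obtain ⟨a, n, b, k, m', hp, -, hm', hn, -, -, hdet⟩ := h.upper hF hm
  -- an element of the Sylow subgroup with non-trivial square
  obtain ⟨x, hx, hx2⟩ : ∃ x ∈ (P : Subgroup 𝔾), x * x ≠ 1 := by
    by_contra hno
    push Not at hno
    have he : Even 4 := ⟨2, rfl⟩
    let _ := InvCharThree.hermGroup hF he
    obtain ⟨f⟩ := InvCharThree.herm_equiv_sylow_psu hF he (n := 2) (by norm_num) P
    have hH : InvCharSixtyFour.HermLike ↥(P : Subgroup 𝔾) 4 :=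
      InvCharSixtyFour.hermLike_of_equiv f (InvCharSixtyFour.hermLike_herm hF he)
    have hab : center ↥(P : Subgroup 𝔾) = ⊤ :=
      eq_top_iff.2 fun y _ => hH.sq_one y (Subtype.ext (hno y y.2))
    have h1 := hH.card_center
    rw [hab, card_top, hH.card] at h1
    norm_num at h1
  rw [hP] at hx
  obtain ⟨B, hB, rfl⟩ := hx
  obtain ⟨r, s, hBp, hBd⟩ := qc_coeff hF h hB
  have hr : r ≠ 0 := by
    intro hr0
    apply hx2
    rw [← map_mul, ← map_one (pr (F := F) (q := 4))]
    congr 1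
    refine h.ap_ext hF ?_ ?_ ?_ <;> rw [ap_one, ap_mul]
    · rw [hB.1, hB.1]
    · rw [hBp, hr0, zero_smul, zero_add, hBp, hr0, zero_smul, zero_add]
    · rw [hr0, conj_zero hF, zero_smul, add_zero] at hBd
      rw [hBd, ap_add, ap_smul, hB.1, hBd, ← add_assoc, ← add_smul, CharTwo.add_self_eq_zero, zero_smul,
        zero_add]
  -- commuting with it
  have hcomm : ap A (ap B p) = ap B (ap A p) := by
    have hBP : pr B ∈ (P : Subgroup 𝔾) := hP ▸ ⟨B, hB, rfl⟩
    have h1 : pr B * pr A = pr A * pr B := mem_centralizer_iff.1 hg _ hBP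
    rw [← map_mul, ← map_mul] at h1
    obtain ⟨j, -, hjx⟩ := exists_scalar hF (pr_eq_iff.1 h1)
    have e1 : ap (A * B) c = ap (B * A) c := by rw [ap_mul, ap_mul, hB.1, hm, ap_smul, hB.1]
    have e2 : ∀ v, ap (A * B) v = j • ap (B * A) v := fun v => by
      rw [← ap_smul, ← hjx, ← ap_mul, mul_inv_cancel_left]
    have hj : j = 1 := smul_left_injective F (ap_ne_zero (B * A) hc.1) (by
      show j • ap (B * A) c = (1 : F) • ap (B * A) c
      rw [← e2, e1, one_smul])
    rw [← ap_mul, ← ap_mul, e2, hj, one_smul]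
  rw [hBp, ap_add, ap_smul, hm, hp, ap_add, ap_smul, ap_smul, hB.1, hBp] at hcomm
  have hmn : r * m = r * n := by
    have h1 := congrArg (fun v => Cfsg.hermForm 3 F 4 v d) hcomm
    simp only [hermForm_add_left, hermForm_smul_left, h.cd, h.pd] at h1
    linear_combination h1
  obtain rfl : m = n := mul_left_cancel₀ hr hmn
  have hm5 : m ^ 5 = 1 := by linear_combination hn
  have hm'm : m' = m := by linear_combination m * hm' - m' * hn
  rw [hm'm] at hdet
  have hm1 : m = 1 := by linear_combination (m ^ 3 + 1) * hdet - m * hm5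
  subst hm1
  rw [hP]
  refine ⟨A, ⟨by rw [hm, one_smul], fun v hv => ⟨Cfsg.hermForm 3 F 4 v p * a, ?_⟩⟩, rfl⟩
  have hdec := h.decomp hF v
  rw [hv, zero_smul, add_zero] at hdec
  conv_lhs => rw [hdec, ap_add, ap_smul, ap_smul, hm, hp]
  conv_rhs => arg 1; rw [hdec]
  module

/-- An involution of `PSU₃(4)` is central in a Sylow 2-subgroup normalised by its centralizer. -/
theorem psu_four_invol (hF : Fintype.card F = 4 ^ 2) {x : 𝔾} (hx : orderOf x = 2) :
    ∃ P : Sylow 2 𝔾, (P : Subgroup 𝔾) ≤ centralizer {x} ∧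
      centralizer ({x} : Set 𝔾) ≤ normalizer ((P : Subgroup 𝔾) : Set 𝔾) := by
  obtain ⟨T, c₀, hT₀, rfl⟩ := exists_isT_lift hF hx
  obtain ⟨P, hP₀⟩ := exists_sylow_zc hF hT₀.1
  obtain ⟨c, hc, hcen, hP⟩ := sylow_center hF P
  have hmem : pr T ∈ (center ↥(P : Subgroup 𝔾)).map (P : Subgroup 𝔾).subtype :=
    hP₀ ▸ mem_zc hF hT₀.1 hT₀
  refine ⟨P, fun y hy => ?_, ?_⟩
  · obtain ⟨z, hz, hzT⟩ := hmem
    refine mem_centralizer_singleton_iff.2 ?_
    rw [← hzT]
    exact congrArg Subtype.val (mem_center_iff.1 hz ⟨y, hy⟩)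
  rw [hcen] at hmem
  obtain ⟨U, hU, hUT⟩ := (eq_one_or_isT hF hc hmem).resolve_left (IsT.pr_ne_one hF hT₀)
  have hUU : U * U = 1 := by rw [← pow_two, ← IsT.orderOf hF hU, pow_orderOf_eq_one]
  have key : ∀ y : 𝔾, y * pr T = pr T * y → ∀ w ∈ (P : Subgroup 𝔾), y * w * y⁻¹ ∈ (P : Subgroup 𝔾) := by
    intro y hy w hw
    obtain ⟨A, rfl⟩ := pr_surjective y
    have hconj : A * U * A⁻¹ = U := eq_of_pr_eq hF
      (by rw [show A * U * A⁻¹ * (A * U * A⁻¹) = A * (U * U) * A⁻¹ by group, hUU]; group) hUU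
      (by rw [map_mul, map_mul, map_inv, hUT, hy, mul_inv_cancel_right])
    obtain ⟨m, hm⟩ := dep_of_orth hF hc (hc.map A).2 (hU.h_eq_zero_of_isT hF (hconj ▸ hU.map A))
    have hm0 : m ≠ 0 := fun e => ap_ne_zero A hc.1 (by rw [hm, e, zero_smul])
    rw [hP] at hw ⊢
    obtain ⟨B, hB, rfl⟩ := hw
    refine ⟨A * B * A⁻¹, ⟨?_, fun v hv => ?_⟩, by rw [map_mul, map_mul, map_inv]⟩
    · rw [ap_mul, ap_mul, show ap A⁻¹ c = m⁻¹ • c by
        conv_lhs => rw [← one_smul F c, ← inv_mul_cancel₀ hm0, mul_smul, ← hm, ap_smul, ap_inv_ap],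
        ap_smul, hB.1, ap_smul, hm, smul_smul, inv_mul_cancel₀ hm0, one_smul]
    · have hv' : Cfsg.hermForm 3 F 4 (ap A⁻¹ v) c = 0 := by
        have h1 := ap_h A (ap A⁻¹ v) c
        rw [ap_ap_inv, hm, hermForm_smul_right, hv, mul_zero] at h1
        exact h1.symm
      obtain ⟨a, ha⟩ := hB.2 _ hv'
      exact ⟨a * m, by rw [ap_mul, ap_mul, ha, ap_add, ap_ap_inv, ap_smul, hm, smul_smul]⟩
  intro y hy
  have hy' := mem_centralizer_singleton_iff.1 hy
  refine mem_normalizer_iff.2 fun w => ⟨key y hy' w, fun hw => ?_⟩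
  have h2 := key y⁻¹ (by
    rw [eq_mul_inv_iff_mul_eq, mul_assoc, ← hy', inv_mul_cancel_left]) _ hw
  simpa [mul_assoc] using h2

end Unitary

/-- `UniRigid` for a group isomorphic to `PSU₃(4)`. -/
theorem uniRigid_of_psu {X : Type u} [Group X] [Finite X] [IsSimpleGroup X] (hX : ¬ IsMulCommutative X)
    {F : Type} [Field F] [Fintype F] (hF : Fintype.card F = 4 ^ 2) (e : X ≃* Cfsg.PSU 3 F 4) :
    UniRigid X := by
  classical
  haveI : CharP F 2 := charP_of_card_eq_prime_pow (f := 4) (by rw [hF]; norm_num)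
  intro d hd φ hφ _ hmove
  have hd' : orderOf (e d) = 2 := by rw [MulEquiv.orderOf_eq, hd]
  obtain ⟨P₀, hPc, hPn⟩ := psu_four_invol hF hd'
  set P : Subgroup X := (P₀ : Subgroup (Cfsg.PSU 3 F 4)).comap e.toMonoidHom with hP
  have hPC : centralizer (P : Set X) ≤ P := fun x hx => psu_four_centralizer_le hF P₀
    (mem_centralizer_iff.2 fun w hw => by
      have h1 := mem_centralizer_iff.1 hx (e.symm w) (show e (e.symm w) ∈ P₀ by rwa [e.apply_symm_apply])
      simpa using congrArg e h1)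
  have hPcd : P ≤ centralizer {d} := fun x hx => mem_centralizer_singleton_iff.2 (e.injective (by
    simpa using mem_centralizer_singleton_iff.1 (hPc hx)))
  have hPnd : centralizer ({d} : Set X) ≤ normalizer (P : Set X) := fun x hx =>
    mem_normalizer_iff.2 fun w => by
      have h1 := mem_normalizer_iff.1 (hPn (mem_centralizer_singleton_iff.2
        (show e x * e d = e d * e x by rw [← map_mul, mem_centralizer_singleton_iff.1 hx, map_mul]))) (e w)
      show e w ∈ P₀ ↔ e (x * w * x⁻¹) ∈ P₀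
      rwa [map_mul, map_mul, map_inv]
  have hp : IsPGroup 2 ↥P := P₀.isPGroup'.comap_of_injective _ e.injective
  have hcore : Cfsg.centralizerPPrimeCore 2 d = ⊥ := by
    refine eq_bot_iff.2 fun o ho => ?_
    have hoC : o ∈ centralizer ({d} : Set X) := map_subtype_le _ ho
    obtain ⟨⟨o', ho'⟩, hoO, rfl⟩ := ho
    have hodd : ¬ 2 ∣ orderOf o' := fun h => by
      have h1 := CfsgLib.PCore.not_dvd_card_pPrimeCore (p := 2) (G := ↥(centralizer ({d} : Set X)))
      apply h1
      refine h.trans ?_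
      have h2 : orderOf o' = orderOf (⟨⟨o', ho'⟩, hoO⟩ : ↥(Cfsg.pPrimeCore 2 ↥(centralizer ({d} : Set X)))) := by
        rw [← Subgroup.orderOf_coe, ← Subgroup.orderOf_coe]
      exact h2 ▸ orderOf_dvd_natCard _
    have hcen : o' ∈ centralizer (P : Set X) := by
      refine mem_centralizer_iff.2 fun w hw => ?_
      have h1 : o' * w * o'⁻¹ * w⁻¹ ∈ P :=
        mul_mem ((mem_normalizer_iff.1 (hPnd ho') w).1 hw) (inv_mem hw)
      have h2 : o' * w * o'⁻¹ * w⁻¹ ∈ Cfsg.centralizerPPrimeCore 2 d := by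
        rw [show o' * w * o'⁻¹ * w⁻¹ = o' * (w * o'⁻¹ * w⁻¹) by group]
        refine Subgroup.mul_mem _ (mem_map.2 ⟨_, hoO, rfl⟩) (mem_map.2
          ⟨(⟨w, hPcd hw⟩ : ↥(centralizer ({d} : Set X))) * ⟨o', ho'⟩⁻¹ * ⟨w, hPcd hw⟩⁻¹, ?_, rfl⟩)
        exact (inferInstance : (Cfsg.pPrimeCore 2 ↥(centralizer ({d} : Set X))).Normal).conj_mem _
          (inv_mem hoO) _
      obtain ⟨k, hk⟩ := hp ⟨_, h1⟩
      obtain ⟨⟨y, hy⟩, hyO, hye⟩ := h2
      have hy1 : orderOf (o' * w * o'⁻¹ * w⁻¹) = 1 := by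
        refine Nat.eq_one_of_dvd_coprimes ((Nat.Prime.coprime_iff_not_dvd Nat.prime_two).2
          (CfsgLib.PCore.not_dvd_card_pPrimeCore (p := 2) (G := ↥(centralizer ({d} : Set X))))|>.pow_left k)
          (orderOf_dvd_of_pow_eq_one (congrArg Subtype.val hk)) ?_
        rw [← hye, Subgroup.coe_subtype]
        have h3 := _root_.orderOf_dvd_natCard
          (⟨(⟨y, hy⟩ : ↥(centralizer ({d} : Set X))), hyO⟩ :
            ↥(Cfsg.pPrimeCore 2 ↥(centralizer ({d} : Set X))))
        rwa [← Subgroup.orderOf_coe, ← Subgroup.orderOf_coe] at h3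
      rw [orderOf_eq_one_iff, mul_inv_eq_one, mul_inv_eq_iff_eq_mul] at hy1
      exact hy1.symm
    obtain ⟨k, hk⟩ := hp ⟨o', hPC hcen⟩
    obtain ⟨j, -, hj⟩ := (Nat.dvd_prime_pow Nat.prime_two).1
      (orderOf_dvd_of_pow_eq_one (congrArg Subtype.val hk : o' ^ 2 ^ k = 1))
    rcases Nat.eq_zero_or_pos j with rfl | hj0
    · exact mem_bot.2 (orderOf_eq_one_iff.1 (by simpa using hj))
    · exact absurd (hj ▸ dvd_pow_self 2 (by omega)) hodd
  have hfixP : ∀ w ∈ P, φ w = w := fun w hw => by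
    have h1 := hmove w (mem_centralizer_singleton_iff.1 (hPcd hw))
    rwa [hcore, mem_bot, mul_inv_eq_one] at h1
  -- `φ` is inner
  have hZ : center X = ⊥ := (inferInstance : (center X).Normal).eq_bot_or_eq_top.resolve_right fun h =>
    hX ⟨⟨fun a b => mem_center_iff.1 (h ▸ mem_top b) a⟩⟩
  have hinj : Function.Injective (MulAut.conj : X →* MulAut X) := fun a b hab => by
    have : a⁻¹ * b ∈ center X := mem_center_iff.2 fun g => by
      have h1 : a * g * a⁻¹ = b * g * b⁻¹ := DFunLike.congr_fun hab g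
      calc g * (a⁻¹ * b) = a⁻¹ * (a * g * a⁻¹) * b := by group
        _ = a⁻¹ * (b * g * b⁻¹) * b := by rw [h1]
        _ = _ := by group
    rw [hZ, mem_bot] at this
    exact inv_mul_eq_one.1 this
  haveI hN : (MulAut.conj : X →* MulAut X).range.Normal := by
    refine ⟨?_⟩
    rintro _ ⟨x, rfl⟩ ψ
    refine ⟨ψ x, MulEquiv.ext fun y => ?_⟩
    simp [MulAut.mul_apply]
  have hidx : (MulAut.conj : X →* MulAut X).range.index = 4 := by
    have hr : Nat.card (MulAut.conj : X →* MulAut X).range = Nat.card X :=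
      (Nat.card_congr (MonoidHom.ofInjective hinj).toEquiv).symm
    have h1 := (MulAut.conj : X →* MulAut X).range.card_mul_index
    have h2 := Cfsg.Agent.S0815.result (F := F) 2 2 (by norm_num) (q := 4) rfl hF 3 le_rfl (by norm_num)
    rw [hr, Nat.card_congr (MulAut.congr e).toEquiv, h2, Nat.card_congr e.toEquiv] at h1
    have hpos : 0 < Nat.card (Cfsg.PSU 3 F 4) := Nat.card_pos
    refine Nat.eq_of_mul_eq_mul_left hpos (h1.trans ?_)
    rw [show Nat.gcd 3 (4 + 1) = 1 from rfl]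
    ring
  obtain ⟨g, hg⟩ : φ ∈ (MulAut.conj : X →* MulAut X).range := by
    rw [← QuotientGroup.eq_one_iff, ← orderOf_eq_one_iff]
    refine Nat.eq_one_of_dvd_coprimes ((Nat.coprime_two_right.2 hφ).pow_right 2)
      (orderOf_map_dvd (QuotientGroup.mk' _) φ) ?_
    refine (_root_.orderOf_dvd_natCard _).trans ?_
    rw [← Subgroup.index_eq_card, hidx]
  rw [← hg, orderOf_injective _ hinj] at hφ
  have hgP : g ∈ centralizer (P : Set X) := mem_centralizer_iff.2 fun w hw => by
    have h1 := hfixP w hw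
    rw [← hg, MulAut.conj_apply, mul_inv_eq_iff_eq_mul] at h1
    exact h1.symm
  obtain ⟨k, hk⟩ := hp ⟨g, hPC hgP⟩
  have : g = 1 := orderOf_eq_one_iff.1 (Nat.eq_one_of_dvd_coprimes
    ((Nat.coprime_two_left.2 hφ).pow_left k) (orderOf_dvd_of_pow_eq_one (congrArg Subtype.val hk)) dvd_rfl)
  rw [← hg, this, map_one]

/-- Only `PSU₃(4)` occurs with a non-abelian Sylow 2-subgroup with three involutions. -/
theorem uniGoal : UniGoal.{u} := by
  classical
  intro X _ _ _ hX hC T h4 hT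
  have hna : ∃ a b : X, a * b ≠ b * a := by
    by_contra h
    push Not at h
    exact hX ⟨⟨h⟩⟩
  rcases hC with ⟨S, hS⟩ | ⟨H, hH⟩
  · exact absurd ⟨⟨fun a b => (T.equiv S).injective (by rw [map_mul, map_mul]; exact hS.is_comm.comm _ _)⟩⟩ hT
  rcases BenderQ.simple_isBenderType BenderQ.benderKernel RankOneRecog.rankOneClass hna hH with
    ⟨F, i1, i2, ⟨n, hn, hF⟩, ⟨f⟩⟩ | h | ⟨F, i1, i2, n, hn, hF, ⟨f⟩⟩
  · refine absurd ⟨⟨fun a b => ?_⟩⟩ hT
    have hel : ∀ u : ↥(T : Subgroup X), u⁻¹ = u := fun u => inv_eq_of_mul_eq_one_right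
      (Subtype.ext (by
        have h1 := (Walter.RankFour.good_of_psl hX hn hF f).elementary T u u.2
        rw [pow_two] at h1
        exact h1))
    rw [← hel (a * b), mul_inv_rev, hel, hel]
  · exfalso
    obtain ⟨F, i1, i2, m, hm, hF, ⟨f⟩⟩ := h
    obtain ⟨hc, ⟨P⟩⟩ := SuzukiGroup.exists_params hF
    let T' := T.mapSurjective (f := f.toMonoidHom) f.surjective
    let e : ↥(T : Subgroup X) ≃* ↥(SuzukiGroup.sylowTwo P : Subgroup ↥(Cfsg.Lie.Sz F (2 ^ (m + 1)))) :=
      (f.subgroupMap (T : Subgroup X)).trans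
        ((MulEquiv.subgroupCongr (T.coe_mapSurjective f.surjective).symm).trans
          (T'.equiv (SuzukiGroup.sylowTwo P)))
    have hu : ∀ b : F, SuzukiGroup.uEl P 0 b ^ 2 = 1 := fun b => by
      rw [sq, SuzukiGroup.uEl_mul, zero_mul, add_zero, add_zero, CharTwo.add_self_eq_zero]
      exact SuzukiGroup.uEl_zero P
    let inj : F → ↥(involSet (T : Subgroup X)) := fun b =>
      ⟨(e.symm ⟨SuzukiGroup.uEl P 0 b, 0, b, rfl⟩ : ↥(T : Subgroup X)), Subtype.prop _, by
        rw [← SubgroupClass.coe_pow, ← map_pow]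
        exact congrArg Subtype.val ((congrArg e.symm (Subtype.ext (hu b))).trans (map_one e.symm))⟩
    have hinj : Function.Injective inj := fun a b hab => by
      have h0 : ((e.symm ⟨SuzukiGroup.uEl P 0 a, 0, a, rfl⟩ : ↥(T : Subgroup X)) : X) =
          (e.symm ⟨SuzukiGroup.uEl P 0 b, 0, b, rfl⟩ : ↥(T : Subgroup X)) := congrArg (fun t : ↥(involSet (T : Subgroup X)) => (t : X)) hab
      have h1 := congrArg Subtype.val (e.symm.injective (Subtype.ext h0))
      exact (SuzukiGroup.uEl_inj P h1).2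
    have hle := Nat.card_le_card_of_injective inj hinj
    rw [Nat.card_coe_set_eq, h4, Nat.card_eq_fintype_card, hF] at hle
    have : 2 ^ 3 ≤ 2 ^ (2 * m + 1) := Nat.pow_le_pow_right two_pos (by omega)
    omega
  · have he : Even (2 ^ n) := (even_two).pow_of_ne_zero (by omega)
    let _ := InvCharThree.hermGroup hF he
    let T' := T.mapSurjective (f := f.toMonoidHom) f.surjective
    obtain ⟨g⟩ := InvCharThree.herm_equiv_sylow_psu hF he (n := n) rfl T'
    have hH' : InvCharSixtyFour.HermLike ↥(T : Subgroup X) (2 ^ n) :=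
      InvCharSixtyFour.hermLike_of_equiv
        ((g.trans (MulEquiv.subgroupCongr (T.coe_mapSurjective f.surjective))).trans
          (f.subgroupMap (T : Subgroup X)).symm)
        (InvCharSixtyFour.hermLike_herm hF he)
    have h2n : 2 ^ n = 4 := by
      rw [← hH'.card_center, ← h4, ← Nat.card_coe_set_eq]
      exact Nat.card_congr
        { toFun := fun x => ⟨(x.1 : X), x.1.2, by rw [sq]; exact congrArg Subtype.val (hH'.center_sq _ x.2)⟩
          invFun := fun x => ⟨⟨x.1, x.2.1⟩, hH'.sq_one _ (Subtype.ext (by rw [← sq] at *; exact x.2.2))⟩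
          left_inv := fun _ => rfl
          right_inv := fun _ => rfl }
    obtain rfl : n = 2 := Nat.pow_right_injective le_rfl (h2n.trans (by norm_num : (4 : ℕ) = 2 ^ 2))
    exact uniRigid_of_psu hX (by rw [hF]; norm_num) f

/-- Without outer involutions the Sylow 2-subgroups are abelian or of `PSU₃(4)` type. -/
theorem noOuterGoal : NoOuterGoal.{u} := by
  intro G _ _ _ D hno
  classical
  have hcen := D.sylow_S_le
  have hinv : ∀ x ∈ (D.E.S : Subgroup G), x * x = 1 → x ∈ D.A := by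
    intro x hx hx2
    rcases eq_or_ne x 1 with rfl | hx1
    · exact one_mem _
    by_contra hxA
    exact hno x ⟨orderOf_eq_prime (by rwa [pow_two]) hx1, hcen hx, hxA⟩
  have hcomm : ∀ x ∈ (D.E.S : Subgroup G), x * x = 1 → ∀ y ∈ (D.E.S : Subgroup G), x * y = y * x :=
    fun x hx hx2 y hy => mem_centralizer_iff.1 (hcen hy) x (hinv x hx hx2)
  have h2 : Cfsg.PRankLE 2 2 G := by
    intro B _ hB2
    have hBp : IsPGroup 2 ↥B := fun b => ⟨1, Subtype.ext (by simpa using hB2 b b.2)⟩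
    obtain ⟨Q, hQ⟩ := hBp.exists_le_sylow
    obtain ⟨g, hg⟩ := MulAction.exists_smul_eq G Q D.E.S
    calc Nat.card ↥B ≤ Nat.card ↥D.A := by
          refine Nat.card_le_card_of_injective (fun b : ↥B => (⟨g * b * g⁻¹, hinv _ ?_ ?_⟩ : ↥D.A)) ?_
          · rw [← hg, Sylow.coe_subgroup_smul]
            exact Subgroup.smul_mem_pointwise_smul _ (MulAut.conj g) _ (hQ b.2)
          · rw [show g * (b : G) * g⁻¹ * (g * b * g⁻¹) = g * ((b : G) * b) * g⁻¹ by group, ← pow_two,
              hB2 b b.2, mul_one, mul_inv_cancel]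
          · intro a b hab
            exact Subtype.ext (mul_left_cancel (mul_right_cancel (congrArg Subtype.val hab)))
      _ = 2 ^ 2 := D.four
  letI : Fintype (GaloisField 2 4) := Fintype.ofFinite _
  have hF16 : Fintype.card (GaloisField 2 4) = 16 := by
    rw [← Nat.card_eq_fintype_card, GaloisField.card 2 4 (by norm_num)]
    norm_num
  obtain ⟨P⟩ : Nonempty (Sylow 2 (Cfsg.PSU 3 (GaloisField 2 4) 4)) := inferInstance
  have hsq : ∀ u : ↥(D.E.S : Subgroup G), u * u = 1 → ∀ w, u * w = w * u := fun u hu w =>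
    Subtype.ext (hcomm u u.2 (congrArg Subtype.val hu) w w.2)
  rcases Cfsg.Agent.S0516.result D.nc h2 D.E.S hF16 P with ⟨n, hn, ⟨f⟩⟩ | ⟨n, hn, -, x, y, hx, hy, hyx⟩ |
    ⟨n, hn, -, x, y, z, hx, -, hxy, hz, hzx⟩ | hP
  · refine Or.inl ⟨D.E.S, ?_⟩
    obtain rfl : n = 2 := by
      by_contra hn2
      have h1 := congrArg f (hsq (f.symm (DihedralGroup.sr 0))
        (f.injective (by rw [map_mul, f.apply_symm_apply, map_one]; exact DihedralGroup.sr_mul_self 0))
        (f.symm (DihedralGroup.sr 1)))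
      rw [map_mul, map_mul, f.apply_symm_apply, f.apply_symm_apply, DihedralGroup.sr_mul_sr,
        DihedralGroup.sr_mul_sr] at h1
      have h2' : ((2 : ℕ) : ZMod n) = 0 := by
        have := DihedralGroup.r.inj h1
        push_cast
        linear_combination this
      rw [ZMod.natCast_eq_zero_iff] at h2'
      exact hn2 (le_antisymm (Nat.le_of_dvd two_pos h2') hn)
    refine ⟨⟨fun a b => f.injective ?_⟩⟩
    rw [map_mul, map_mul]
    generalize f a = u, f b = v
    revert u v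
    decide
  · exfalso
    have hy2 : y * y = 1 := by rw [← pow_two]; exact orderOf_dvd_iff_pow_eq_one.1 hy.dvd
    rw [hsq y hy2 x, mul_inv_cancel_right] at hyx
    have h1 : 2 ^ n ∣ 2 ^ (n - 1) - 2 := by
      rw [← hx]
      refine orderOf_dvd_of_pow_eq_one (mul_right_cancel (b := x) ?_)
      rw [← pow_succ, show 2 ^ (n - 1) - 2 + 1 = 2 ^ (n - 1) - 1 by
        have : 2 ^ 2 ≤ 2 ^ (n - 1) := Nat.pow_le_pow_right two_pos (by omega)
        omega, ← hyx, one_mul]
    have h3 : 2 ^ 2 ≤ 2 ^ (n - 1) := Nat.pow_le_pow_right two_pos (by omega)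
    have h4 : 2 ^ (n - 1) < 2 ^ n := Nat.pow_lt_pow_right one_lt_two (by omega)
    have := Nat.le_of_dvd (by omega) h1
    omega
  · exfalso
    have hz2 : z * z = 1 := by rw [← pow_two]; exact orderOf_dvd_iff_pow_eq_one.1 hz.dvd
    rw [hsq z hz2 x, mul_inv_cancel_right] at hzx
    subst hzx
    rw [inf_idem, zpowers_eq_bot] at hxy
    rw [hxy, orderOf_one] at hx
    have : 2 ^ 2 ≤ 2 ^ n := Nat.pow_le_pow_right two_pos hn
    omega
  · obtain ⟨e⟩ := Cfsg.Agent.S0486.result hF16 D.E.S P hP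
    exact Or.inr (CfsgLib.GoldEven74.exists_se_psu (n := 2) le_rfl (by rw [hF16]; norm_num) D.nc e)

end CfsgLib.Goldschmidt.RankTwo
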