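import Cfsg.Agent.Lib.Goldschmidt.RankTwo.Interface
import Cfsg.Agent.Lib.Goldschmidt.RankTwoHand.Count
import Cfsg.Agent.Lib.Walter.RankFour.Assembly

/-!
# Goldschmidt, rank two: pairs in the class of an involution of `A` inside `C(r)`

At a `FourAt` involution `r` the conjugates of `e ∈ A#` centralising `r` lie over the involutions of a normal
component of `C(r)/O(C(r))` with four-groups as Sylow 2-subgroups, with uniform fibres and the same parity
of the orders of products; such a component is `PSL₂(q)`.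
-/

set_option autoImplicit false
set_option linter.unusedSectionVars false
set_option linter.style.haveILetI false

namespace CfsgLib.Goldschmidt.RankTwo

open Subgroup CfsgLib.Walter.RankFour

universe u

local instance : Fact (Nat.Prime 2) := ⟨Nat.prime_two⟩

/-- Pairs with a property, counted through the fibres over their first entry. -/
private theorem pairs_ncard_eq {α : Type*} [Fintype α] [DecidableEq α] (p : α → α → Prop)
    [DecidableRel p] (I : Finset α) :
    {q : α × α | q.1 ∈ I ∧ q.2 ∈ I ∧ p q.1 q.2}.ncard = ∑ x ∈ I, (I.filter (p x)).card := by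
  have h : ({q : α × α | q.1 ∈ I ∧ q.2 ∈ I ∧ p q.1 q.2} : Set (α × α)) =
      ↑((I ×ˢ I).filter fun q => p q.1 q.2) := by
    ext q; simp [and_assoc]
  rw [h, Set.ncard_coe_finset, Finset.card_filter, Finset.sum_product]
  exact Finset.sum_congr rfl fun x _ => (Finset.card_filter _ _).symm

/-- Simple groups with four-groups as Sylow 2-subgroups. -/
theorem fracGoal : FracGoal.{u} := by
  intro X _ _ _ hX hS
  classical
  haveI : Fintype X := Fintype.ofFinite X
  let S : Sylow 2 X := default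
  have hScomm : ∀ x ∈ (S : Subgroup X), ∀ y ∈ (S : Subgroup X), x * y = y * x := by
    intro x hx y hy
    have h4 : Nat.card ↥(S : Subgroup X) = 2 ^ 2 := by rw [hS S]; norm_num
    exact (congrArg Subtype.val
      ((IsPGroup.isMulCommutative_of_card_eq_prime_sq h4).is_comm.comm ⟨x, hx⟩ ⟨y, hy⟩) :)
  obtain ⟨F, iF, iFt, hq8, ⟨f⟩⟩ := exists_psl_of_rank_two hX S hScomm
    (fun A _ _ => (card_le_card_group A).trans (le_of_eq (hS S)))
  have hodd : Odd (Fintype.card F) := Nat.odd_iff.2 (by omega)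
  have hcard : 2 * Nat.card X = (Fintype.card F + 1) * (Fintype.card F * (Fintype.card F - 1)) := by
    have h := PSL2.card_psl (F := F)
    rwa [PSL2.gcd_eq_two hodd, ← Nat.card_congr f.toEquiv] at h
  have h5 : 5 ≤ Fintype.card F := by
    by_contra hlt
    have hq3 : Fintype.card F = 3 := by omega
    rw [hq3] at hcard
    have hidx : (S : Subgroup X).index = 3 := by
      have h := (S : Subgroup X).card_mul_index
      rw [hS S] at h
      omega
    have hker : (MulAction.toPermHom X (X ⧸ (S : Subgroup X))).ker = ⊥ := by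
      refine (MonoidHom.normal_ker _).eq_bot_or_eq_top.resolve_right fun ht => ?_
      have htop : (S : Subgroup X) = ⊤ := eq_top_iff.2 fun x _ => by
        have h1 := DFunLike.congr_fun (MonoidHom.mem_ker.1 (show x ∈ (MulAction.toPermHom X
          (X ⧸ (S : Subgroup X))).ker by rw [ht]; trivial)) (QuotientGroup.mk (1 : X))
        simpa [QuotientGroup.eq] using h1
      rw [htop, index_top] at hidx
      omega
    have hle := Nat.card_le_card_of_injective _ ((MonoidHom.ker_eq_bot_iff _).1 hker)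
    rw [Nat.card_perm, ← Subgroup.index, hidx, show Nat.factorial 3 = 6 from rfl] at hle
    omega
  set I : Finset X := Finset.univ.filter fun x => orderOf x = 2 with hI
  have hIset : {x : X | orderOf x = 2} = ↑I := by ext x; simp [hI]
  have hne : I.Nonempty := by
    obtain ⟨x, hx⟩ := exists_prime_orderOf_dvd_card' (G := X) 2 (by
      have h := card_subgroup_dvd_card (S : Subgroup X)
      rw [hS S] at h
      exact dvd_trans (by norm_num) h)
    exact ⟨x, Finset.mem_filter.2 ⟨Finset.mem_univ _, hx⟩⟩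
  have key : ∀ x ∈ I, I.card < 3 * (I.filter fun y => Odd (orderOf (x * y))).card := by
    intro x hx
    have h := RankTwoHand.psl_ncard_involutions_lt_three_mul_odd (F := F) hodd h5 (x := f x)
      ((f.orderOf_eq x).trans (Finset.mem_filter.1 hx).2)
    have h1 : {y | orderOf y = 2} = f '' ↑I := by
      ext y
      obtain ⟨z, rfl⟩ := f.surjective y
      simp [hI, f.orderOf_eq]
    have h2 : {y | orderOf y = 2 ∧ Odd (orderOf (f x * y))} =
        f '' ↑(I.filter fun y => Odd (orderOf (x * y))) := by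
      ext y
      obtain ⟨z, rfl⟩ := f.surjective y
      simp [hI, ← map_mul, f.orderOf_eq]
    rwa [h1, h2, Set.ncard_image_of_injective _ f.injective, Set.ncard_image_of_injective _ f.injective,
      Set.ncard_coe_finset, Set.ncard_coe_finset] at h
  have hpairs : {p : X × X | orderOf p.1 = 2 ∧ orderOf p.2 = 2 ∧ Odd (orderOf (p.1 * p.2))} =
      {q : X × X | q.1 ∈ I ∧ q.2 ∈ I ∧ Odd (orderOf (q.1 * q.2))} := by
    ext q; simp [hI]
  rw [hIset, Set.ncard_coe_finset, hpairs, pairs_ncard_eq (fun x y => Odd (orderOf (x * y))) I,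
    Finset.mul_sum, sq, ← smul_eq_mul, ← Finset.sum_const]
  exact Finset.sum_lt_sum_of_nonempty hne key

namespace Data

variable {G : Type u} [Group G] [Finite G] (D : Data G) [IsSimpleGroup G]

/-- Every conjugate of `e ∈ A#` centralising `r` is a conjugate inside `C(r)`. -/
theorem mem_classIn_iff {r : G} (L : D.Loc r) {e : G} (he : e ∈ D.A) (he1 : e ≠ 1) {d : G} :
    d ∈ classIn e r ↔ ∃ c ∈ cen r, c * e * c⁻¹ = d := by
  have hec : e ∈ cen r := L.le_cen (L.le_A he)
  constructor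
  swap
  · rintro ⟨c, hc, rfl⟩
    exact ⟨isConj_iff.2 ⟨c, rfl⟩, mul_mem (mul_mem hc hec) (inv_mem hc)⟩
  rintro ⟨hconj, hd⟩
  obtain ⟨g, hg⟩ := isConj_iff.1 hconj
  obtain ⟨Q, hQ⟩ := (L.two.comap_of_injective (cen r).subtype (subtype_injective _)).exists_le_sylow
  have hQT : (Q : Subgroup ↥(cen r)).map (cen r).subtype = L.T :=
    L.maximal _ (Q.2.map _) (map_subtype_le _) fun t ht => ⟨⟨t, L.le_cen ht⟩, hQ ht, rfl⟩
  have hd2 : orderOf (⟨d, hd⟩ : ↥(cen r)) = 2 := by
    rw [Subgroup.orderOf_mk, ← hg, ← MulAut.conj_apply, MulEquiv.orderOf_eq]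
    exact D.orderOf_eq he he1
  obtain ⟨R, hR⟩ := (IsPGroup.of_card (p := 2) (n := 1) (G := ↥(zpowers (⟨d, hd⟩ : ↥(cen r))))
    (by rw [Nat.card_zpowers, hd2, pow_one])).exists_le_sylow
  obtain ⟨c, hc⟩ := MulAction.exists_smul_eq ↥(cen r) R Q
  have hcd : (c : G) * d * (c : G)⁻¹ ∈ L.T := by
    rw [← hQT]
    refine ⟨c * ⟨d, hd⟩ * c⁻¹, ?_, rfl⟩
    rw [← hc, Sylow.coe_subgroup_smul]
    exact Subgroup.smul_mem_pointwise_smul _ (MulAut.conj c) _ (hR (mem_zpowers _))
  obtain ⟨S', hS'⟩ := L.two.exists_le_sylow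
  have hsc := Cfsg.Agent.S1249.result D.E.S S' D.A (L.le_A.trans hS') D.E.sc
  have hge : (c : G) * d * (c : G)⁻¹ = (c * g) * e * (c * g : G)⁻¹ := by rw [← hg]; group
  have hA : (c : G) * d * (c : G)⁻¹ ∈ D.A := by
    rw [hge]
    exact hsc.2 e he _ (hge ▸ hS' hcd)
  have hA1 : (c : G) * d * (c : G)⁻¹ ≠ 1 := fun h => by
    rw [hge, conj_eq_one_iff] at h
    exact he1 h
  obtain ⟨i, hi⟩ := D.rot_trans L.rot he he1 hA hA1
  refine ⟨(c : G)⁻¹ * L.n ^ i, mul_mem (inv_mem c.2) (pow_mem L.n_cen i), ?_⟩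
  rw [show (c : G)⁻¹ * L.n ^ i * e * ((c : G)⁻¹ * L.n ^ i)⁻¹ =
    (c : G)⁻¹ * (L.n ^ i * e * (L.n ^ i)⁻¹) * c by group, hi]
  group

/-- The component seen by a `FourAt` involution is simple, normal, and its Sylow 2-subgroup is the image
of `A`. -/
theorem fourAt_component {r : G} (hAr : D.A ≤ cen r) {K : Subgroup (CenBar r)}
    (hK : Cfsg.IsComponent K) (hle : img r D.A ≤ K)
    (hdis : img r D.A ⊓ centralizer (K : Set (CenBar r)) = ⊥)
    (hfour : ∀ Q : Sylow 2 ↥K, Nat.card ↥(Q : Subgroup ↥K) = 4) :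
    IsSimpleGroup ↥K ∧ ¬ IsMulCommutative ↥K ∧ K.Normal ∧
      ∃ Q : Sylow 2 ↥K, (Q : Subgroup ↥K) = (img r D.A).subgroupOf K := by
  obtain ⟨P, T, hAP, hT, hsc⟩ := D.E.exists_local hAr
  have hBcard := D.img_card hAr
  have hBp : IsPGroup 2 ↥((img r D.A).subgroupOf K) :=
    IsPGroup.of_card (n := 2) (by rw [Nat.card_congr (subgroupOfEquivOfLe hle).toEquiv, hBcard]; norm_num)
  obtain ⟨Q, hQ⟩ := hBp.exists_le_sylow
  have hQeq : (Q : Subgroup ↥K) = (img r D.A).subgroupOf K := (eq_of_le_of_card_ge hQ (by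
    rw [hfour Q, Nat.card_congr (subgroupOfEquivOfLe hle).toEquiv, hBcard])).symm
  have hZ2 : IsPGroup 2 ↥(center ↥K) :=
    (T.2.comap_of_injective K.subtype (subtype_injective _)).to_le fun x hx =>
      component_center_le_sylow (cenBar_core r) T hK
        ⟨x.2, mem_centralizer_iff.2 fun y hy => congrArg Subtype.val (mem_center_iff.1 hx ⟨y, hy⟩)⟩
  have hZ : center ↥K = ⊥ := by
    refine eq_bot_iff.2 fun x hx => ?_
    have hxQ : x ∈ (Q : Subgroup ↥K) := by
      rw [← Q.3 (Q.2.to_sup_of_normal_right hZ2) le_sup_left]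
      exact mem_sup_right hx
    rw [hQeq, mem_subgroupOf] at hxQ
    have : (x : CenBar r) ∈ img r D.A ⊓ centralizer (K : Set (CenBar r)) :=
      ⟨hxQ, mem_centralizer_iff.2 fun y hy => congrArg Subtype.val (mem_center_iff.1 hx ⟨y, hy⟩)⟩
    rw [hdis, mem_bot] at this
    exact mem_bot.2 (Subtype.ext this)
  haveI := hK.2.2
  have e : ↥K ≃* ↥K ⧸ center ↥K :=
    QuotientGroup.quotientBot.symm.trans (QuotientGroup.quotientMulEquivOfEq hZ.symm)
  refine ⟨e.isSimpleGroup, fun h => CfsgLib.Components.quasisimple_center_ne_top hK.2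
    (center_eq_top_iff.2 h), ⟨fun x hx c => ?_⟩, Q, hQeq⟩
  set K' := K.map (MulAut.conj c).toMonoidHom with hK'
  suffices hKK : K' = K by rw [← hKK]; exact ⟨x, hx, rfl⟩
  by_contra hne
  have hcomm := commutator_eq_bot_iff_le_centralizer.1
    (CfsgLib.Components.commutator_components_eq_bot (CfsgLib.Components.isComponent_conj c hK) hK hne)
  have hB' : (img r D.A).map (MulAut.conj c).toMonoidHom ≤ centralizer (img r D.A : Set (CenBar r)) :=
    ((map_mono hle).trans hcomm).trans (centralizer_le (show (img r D.A : Set (CenBar r)) ⊆ K from hle))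
  obtain ⟨T', hT'⟩ := ((IsPGroup.of_card (n := 2) (by rw [hBcard]; norm_num) :
      IsPGroup 2 ↥(img r D.A)).to_sup_of_normal_left'
    ((IsPGroup.of_card (n := 2) (by rw [hBcard]; norm_num) : IsPGroup 2 ↥(img r D.A)).map
      (MulAut.conj c).toMonoidHom) (hB'.trans (centralizer_le_normalizer _))).exists_le_sylow
  have hsc' := Cfsg.Agent.S1249.result T T' (img r D.A) (le_sup_left.trans hT') hsc
  refine hne (D.comp_unique hAr hK (CfsgLib.Components.isComponent_conj c hK) hdis ?_)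
  have hcB : (img r D.A).map (MulAut.conj c).toMonoidHom = img r D.A := by
    refine eq_of_le_of_card_ge ?_ (le_of_eq (card_map_of_injective (MulAut.conj c).injective).symm)
    rintro _ ⟨b, hb, rfl⟩
    exact hsc'.2 b hb c (hT' (mem_sup_right ⟨b, hb, rfl⟩))
  exact hcB.ge.trans (map_mono hle)

/-- The pairs in `classIn e r`. -/
theorem pairsBound : D.PairsBound := by
  intro r _ hfour L e he he1
  classical
  haveI : Fintype G := Fintype.ofFinite G
  obtain ⟨K, hK, hle, hdis, hQ4⟩ := hfour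
  have hAr : D.A ≤ cen r := L.le_A.trans L.le_cen
  obtain ⟨hsimp, hnc, hKn, Q, hQ⟩ := D.fourAt_component hAr hK hle hdis hQ4
  haveI := hsimp
  haveI : Fintype (CenBar r) := Fintype.ofFinite _
  let φ : G → CenBar r := fun d => if h : d ∈ cen r then bar r ⟨d, h⟩ else 1
  have hφ : ∀ {d : G} (h : d ∈ cen r), φ d = bar r ⟨d, h⟩ := fun h => dif_pos h
  set C : Finset G := Finset.univ.filter fun d => d ∈ classIn e r with hC
  set J : Finset (CenBar r) := Finset.univ.filter fun y => y ∈ K ∧ orderOf y = 2 with hJ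
  have hmemC : ∀ {d : G}, d ∈ C ↔ ∃ c ∈ cen r, c * e * c⁻¹ = d := fun {d} => by
    rw [hC, Finset.mem_filter, ← D.mem_classIn_iff L he he1]
    exact and_iff_right (Finset.mem_univ _)
  have hCcen : ∀ {d : G}, d ∈ C → d ∈ cen r := fun hd => (Finset.mem_filter.1 hd).2.2
  have hφconj : ∀ {c d : G} (hc : c ∈ cen r) (hd : d ∈ cen r),
      φ (c * d * c⁻¹) = bar r ⟨c, hc⟩ * φ d * (bar r ⟨c, hc⟩)⁻¹ := fun {c d} hc hd => by
    rw [hφ (mul_mem (mul_mem hc hd) (inv_mem hc)), hφ hd, ← map_inv, ← map_mul, ← map_mul]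
    rfl
  have hec : e ∈ cen r := hAr he
  have hbe : orderOf (φ e) = 2 := by
    rw [hφ hec]
    have h2 : (⟨e, hec⟩ : ↥(cen r)) ^ 2 = 1 := Subtype.ext (D.E.pow_two_A he)
    refine orderOf_eq_prime (by rw [← map_pow, h2, map_one]) fun h => he1 ?_
    exact congrArg Subtype.val (eq_one_of_bar_eq D.E.isPGroup_A (a := ⟨e, hec⟩) he h)
  have hmaps : ∀ d ∈ C, φ d ∈ J := by
    intro d hd
    obtain ⟨c, hc, rfl⟩ := hmemC.1 hd
    rw [hφconj hc hec, hJ, Finset.mem_filter]
    refine ⟨Finset.mem_univ _, hKn.conj_mem _ (hle ?_) _, ?_⟩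
    · rw [hφ hec]; exact bar_mem_img he hec
    · rw [← MulAut.conj_apply, MulEquiv.orderOf_eq, hbe]
  have honto : ∀ y ∈ J, ∃ d ∈ C, φ d = y := by
    intro y hy
    rw [hJ, Finset.mem_filter] at hy
    obtain ⟨-, hyK, hy2⟩ := hy
    obtain ⟨Ry, hRy⟩ := (IsPGroup.of_card (p := 2) (n := 1) (G := ↥(zpowers (⟨y, hyK⟩ : ↥K)))
      (by rw [Nat.card_zpowers, Subgroup.orderOf_mk, hy2, pow_one])).exists_le_sylow
    obtain ⟨l, hl⟩ := MulAction.exists_smul_eq ↥K Ry Q
    have hly : l * ⟨y, hyK⟩ * l⁻¹ ∈ (img r D.A).subgroupOf K := by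
      rw [← hQ, ← hl, Sylow.coe_subgroup_smul]
      exact Subgroup.smul_mem_pointwise_smul _ (MulAut.conj l) _ (hRy (mem_zpowers _))
    obtain ⟨a, ha, hac, hay⟩ := mem_img.1 (mem_subgroupOf.1 hly)
    have ha1 : a ≠ 1 := by
      rintro rfl
      rw [show (⟨1, hac⟩ : ↥(cen r)) = 1 from rfl, map_one, eq_comm] at hay
      rw [conj_eq_one_iff.1 (show (l : CenBar r) * y * (l : CenBar r)⁻¹ = 1 by simpa using hay), orderOf_one] at hy2
      omega
    obtain ⟨i, hi⟩ := D.rot_trans L.rot he he1 ha ha1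
    obtain ⟨⟨c, hc⟩, hcl⟩ := QuotientGroup.mk'_surjective (Cfsg.pPrimeCore 2 ↥(cen r)) (l : CenBar r)
    have hni : L.n ^ i ∈ cen r := pow_mem L.n_cen i
    refine ⟨c⁻¹ * a * c, hmemC.2 ⟨c⁻¹ * L.n ^ i, mul_mem (inv_mem hc) hni, ?_⟩, ?_⟩
    · rw [← hi]; group
    · have h1 := hφconj (inv_mem hc) hac
      rw [inv_inv, hφ hac, hay] at h1
      rw [h1, show bar r ⟨c⁻¹, inv_mem hc⟩ = (l : CenBar r)⁻¹ by rw [← hcl, ← map_inv]; rfl]
      push_cast
      group
  set k := (C.filter fun d => φ d = φ e).card with hk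
  have hk0 : 0 < k := Finset.card_pos.2 ⟨e, Finset.mem_filter.2 ⟨hmemC.2 ⟨1, one_mem _, by group⟩, rfl⟩⟩
  have hfib : ∀ y ∈ J, (C.filter fun d => φ d = y).card = k := by
    intro y hy
    obtain ⟨d, hd, rfl⟩ := honto y hy
    obtain ⟨c, hc, rfl⟩ := hmemC.1 hd
    refine (Finset.card_equiv (MulAut.conj c).toEquiv fun x => ?_).symm
    rw [Finset.mem_filter (s := C), Finset.mem_filter (s := C), MulEquiv.toEquiv_eq_coe, EquivLike.coe_coe, MulAut.conj_apply]
    have hx : c * x * c⁻¹ ∈ C ↔ x ∈ C := by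
      rw [hmemC, hmemC]
      constructor
      · rintro ⟨c', hc', h⟩
        refine ⟨c⁻¹ * c', mul_mem (inv_mem hc) hc', ?_⟩
        rw [show c⁻¹ * c' * e * (c⁻¹ * c')⁻¹ = c⁻¹ * (c' * e * c'⁻¹) * c by group, h]
        group
      · rintro ⟨c', hc', h⟩
        refine ⟨c * c', mul_mem hc hc', ?_⟩
        rw [← h]; group
    rw [hx]
    constructor
    · rintro ⟨h1, h2⟩
      exact ⟨h1, by rw [hφconj hc (hCcen h1), hφconj hc hec, h2]⟩
    · rintro ⟨h1, h2⟩
      rw [hφconj hc (hCcen h1), hφconj hc hec] at h2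
      exact ⟨h1, mul_left_cancel (mul_right_cancel h2)⟩
  have hCcard : C.card = J.card * k := by
    rw [Finset.card_eq_sum_card_fiberwise (f := φ) (t := J) hmaps, Finset.sum_congr rfl hfib,
      Finset.sum_const, smul_eq_mul]
  have hpar : ∀ x ∈ C, ∀ y ∈ C, (Odd (orderOf (x * y)) ↔ Odd (orderOf (φ x * φ y))) := by
    intro x hx y hy
    rw [hφ (hCcen hx), hφ (hCcen hy), ← map_mul]
    set z : ↥(cen r) := ⟨x, hCcen hx⟩ * ⟨y, hCcen hy⟩ with hz
    rw [show orderOf (x * y) = orderOf z from Subgroup.orderOf_coe z]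
    constructor
    · exact fun h => h.of_dvd_nat (orderOf_map_dvd (bar r) z)
    · intro h
      have hodd : Odd (Nat.card ↥(Cfsg.pPrimeCore 2 ↥(cen r))) :=
        Nat.coprime_two_right.1 CfsgLib.PCore.pPrimeCore_coprime
      have hm : z ^ orderOf (bar r z) ∈ Cfsg.pPrimeCore 2 ↥(cen r) := by
        rw [← QuotientGroup.eq_one_iff, ← QuotientGroup.mk'_apply, map_pow]
        exact pow_orderOf_eq_one _
      refine (h.mul hodd).of_dvd_nat (orderOf_dvd_of_pow_eq_one ?_)
      rw [pow_mul]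
      exact congrArg Subtype.val (pow_card_eq_one' (G := ↥(Cfsg.pPrimeCore 2 ↥(cen r))) (x := ⟨_, hm⟩))
  set PJ : Finset (CenBar r × CenBar r) := (J ×ˢ J).filter fun q => Odd (orderOf (q.1 * q.2)) with hPJ
  set PC : Finset (G × G) := (C ×ˢ C).filter fun q => Odd (orderOf (q.1 * q.2)) with hPC
  have hPcard : PC.card = PJ.card * (k * k) := by
    rw [Finset.card_eq_sum_card_fiberwise (f := Prod.map φ φ) (s := PC) (t := PJ) ?_,
      Finset.sum_congr rfl (g := fun _ => k * k) ?_, Finset.sum_const, smul_eq_mul]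
    · rintro ⟨y₁, y₂⟩ hy
      simp only [hPJ, Finset.mem_filter, Finset.mem_product] at hy
      rw [show PC.filter (fun q => Prod.map φ φ q = (y₁, y₂)) =
          (C.filter fun d => φ d = y₁) ×ˢ (C.filter fun d => φ d = y₂) from ?_, Finset.card_product,
        hfib _ hy.1.1, hfib _ hy.1.2]
      ext ⟨x₁, x₂⟩
      simp only [hPC, Finset.mem_filter, Finset.mem_product, Prod.map_apply, Prod.mk.injEq]
      constructor
      · rintro ⟨⟨⟨h1, h2⟩, -⟩, h3, h4⟩
        exact ⟨⟨h1, h3⟩, h2, h4⟩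
      · rintro ⟨⟨h1, h3⟩, h2, h4⟩
        exact ⟨⟨⟨h1, h2⟩, (hpar _ h1 _ h2).2 (by rw [h3, h4]; exact hy.2)⟩, h3, h4⟩
    · rintro ⟨x₁, x₂⟩ hx
      simp only [hPC, Finset.mem_coe, Finset.mem_filter, Finset.mem_product] at hx
      simp only [hPJ, Finset.mem_coe, Finset.mem_filter, Finset.mem_product, Prod.map_apply]
      exact ⟨⟨hmaps _ hx.1.1, hmaps _ hx.1.2⟩, (hpar _ hx.1.1 _ hx.1.2).1 hx.2⟩
  have hfrac := fracGoal ↥K hnc hQ4
  have e1 : {y : CenBar r | y ∈ K ∧ orderOf y = 2} = Subtype.val '' {x : ↥K | orderOf x = 2} := by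
    ext y
    constructor
    · exact fun h => ⟨⟨y, h.1⟩, by rw [Set.mem_ofPred_eq, Subgroup.orderOf_mk]; exact h.2, rfl⟩
    · rintro ⟨x, hx, rfl⟩
      exact ⟨x.2, (Subgroup.orderOf_coe x).trans hx⟩
  have e2 : (↑PJ : Set (CenBar r × CenBar r)) = Prod.map Subtype.val Subtype.val ''
      {p : ↥K × ↥K | orderOf p.1 = 2 ∧ orderOf p.2 = 2 ∧ Odd (orderOf (p.1 * p.2))} := by
    ext ⟨y₁, y₂⟩
    simp only [hPJ, hJ, Finset.coe_filter, Finset.mem_product, Finset.mem_filter, Finset.mem_univ, true_and,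
      Set.mem_ofPred_eq, Set.mem_image, Prod.exists, Prod.map_apply, Prod.mk.injEq]
    constructor
    · rintro ⟨⟨⟨h1, h1'⟩, h2, h2'⟩, h3⟩
      refine ⟨⟨y₁, h1⟩, ⟨y₂, h2⟩, ⟨?_, ?_, ?_⟩, rfl, rfl⟩
      · rw [Subgroup.orderOf_mk]; exact h1'
      · rw [Subgroup.orderOf_mk]; exact h2'
      · rw [← Subgroup.orderOf_coe]; exact h3
    · rintro ⟨x₁, x₂, ⟨h1, h2, h3⟩, rfl, rfl⟩
      rw [← Subgroup.coe_mul, Subgroup.orderOf_coe, Subgroup.orderOf_coe, Subgroup.orderOf_coe]
      exact ⟨⟨⟨x₁.2, h1⟩, x₂.2, h2⟩, h3⟩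
  have hJs : (↑J : Set (CenBar r)) = {y : CenBar r | y ∈ K ∧ orderOf y = 2} := by
    ext y; simp [hJ]
  have hCs : classIn e r = ↑C := by ext y; simp [hC]
  have hPs : {p : G × G | p.1 ∈ classIn e r ∧ p.2 ∈ classIn e r ∧ Odd (orderOf (p.1 * p.2))} = ↑PC := by
    ext p; simp [hPC, hC, and_assoc]
  rw [hPs, hCs, Set.ncard_coe_finset, Set.ncard_coe_finset, hCcard, hPcard]
  have h2 : J.card = {x : ↥K | orderOf x = 2}.ncard := by
    rw [← Set.ncard_coe_finset, hJs, e1, Set.ncard_image_of_injective _ Subtype.val_injective]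
  have h3 : PJ.card = {p : ↥K × ↥K | orderOf p.1 = 2 ∧ orderOf p.2 = 2 ∧ Odd (orderOf (p.1 * p.2))}.ncard := by
    rw [← Set.ncard_coe_finset, e2,
      Set.ncard_image_of_injective _ (Subtype.val_injective.prodMap Subtype.val_injective)]
  rw [← h2, ← h3] at hfrac
  calc (J.card * k) ^ 2 = J.card ^ 2 * (k * k) := by ring
    _ < 3 * PJ.card * (k * k) := Nat.mul_lt_mul_of_pos_right hfrac (Nat.mul_pos hk0 hk0)
    _ = 3 * (PJ.card * (k * k)) := by ring

end Data

end CfsgLib.Goldschmidt.RankTwo
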