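import Cfsg.Agent.Lib.Goldschmidt.RankTwo.Basic
import Cfsg.Agent.Lib.Goldschmidt.LocalSplit
import Cfsg.Agent.Lib.Walter.RankFour.Good
import Cfsg.Agent.Lib.Schur.Basic

/-!
# Goldschmidt, rank two: the components seen by `A`

At an involution `z` centralising `A` a component of `C(z)/O(C(z))` is centralised by the image of `A` or
contains it.  In the second case it is simple with a four-group as Sylow 2-subgroup, or its quotient by the
centre has a non-abelian Sylow 2-subgroup with exactly three involutions.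
-/

set_option autoImplicit false
set_option linter.unusedSectionVars false
set_option linter.style.haveILetI false

namespace CfsgLib.Goldschmidt.RankTwo

open Subgroup CfsgLib.Walter.RankFour

universe u v

local instance : Fact (Nat.Prime 2) := ⟨Nat.prime_two⟩

/-- `AGood` passes along isomorphisms. -/
theorem agood_congr {X : Type u} {Y : Type v} [Group X] [Group Y] [Finite X] (e : X ≃* Y) (h : AGood X) :
    AGood Y := by
  haveI : Finite Y := Finite.of_equiv X e.toEquiv
  have key : ∀ T : Sylow 2 Y, ∃ T' : Sylow 2 X, (∀ x : X, x ∈ (T' : Subgroup X) ↔ e x ∈ (T : Subgroup Y)) ∧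
      ∀ x : X, x ∈ involSet (T' : Subgroup X) ↔ e x ∈ involSet (T : Subgroup Y) := by
    intro T
    have hmem : ∀ x : X, x ∈ ((T.mapSurjective (f := e.symm.toMonoidHom) e.symm.surjective :
        Sylow 2 X) : Subgroup X) ↔ e x ∈ (T : Subgroup Y) := fun x => by
      exact (Subgroup.mem_map_equiv (f := e.symm) (K := (T : Subgroup Y))).trans (by simp)
    refine ⟨T.mapSurjective (f := e.symm.toMonoidHom) e.symm.surjective, fun x => ?_, fun x => ?_⟩
    · exact hmem x
    · show _ ∧ _ ↔ _ ∧ _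
      rw [hmem, ← map_pow, map_eq_one_iff e e.injective]
  have hnc : ∀ T : Sylow 2 Y, ∀ T' : Sylow 2 X,
      (∀ x : X, x ∈ involSet (T' : Subgroup X) ↔ e x ∈ involSet (T : Subgroup Y)) →
      (involSet (T : Subgroup Y)) = e '' involSet (T' : Subgroup X) := by
    intro T T' hT
    ext y
    constructor
    · exact fun hy => ⟨e.symm y, (hT _).2 (by simpa using hy), by simp⟩
    · rintro ⟨x, hx, rfl⟩
      exact (hT x).1 hx
  constructor
  · intro T x hx y hy
    obtain ⟨T', h1, h2⟩ := key T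
    have := h.central T' (e.symm x) ((h2 _).2 (by simpa using hx)) (e.symm y) ((h1 _).2 (by simpa using hy))
    simpa using congrArg e this
  · intro T
    obtain ⟨T', h1, h2⟩ := key T
    rw [hnc T T' h2, Set.ncard_image_of_injective _ e.injective]
    exact h.four_le T'
  · intro T B hsc hc hne
    obtain ⟨T', h1, h2⟩ := key T
    have hB : ∀ x : X, x ∈ B.comap e.toMonoidHom ↔ e x ∈ B := fun x => Iff.rfl
    have := h.sc_eq T' (B.comap e.toMonoidHom) ⟨fun x hx => (h1 x).2 (hsc.1 hx), fun x hx g hg => by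
        have h' := (h1 _).1 hg
        rw [map_mul, map_mul, map_inv] at h'
        show e (g * x * g⁻¹) ∈ B
        rw [map_mul, map_mul, map_inv]
        exact hsc.2 _ hx _ h'⟩
      ⟨⟨fun a b => Subtype.ext (e.injective (by
        show e ((a : X) * b) = e ((b : X) * a)
        rw [map_mul, map_mul]
        exact congrArg Subtype.val (hc.is_comm.comm (⟨e a, a.2⟩ : B) ⟨e b, b.2⟩)))⟩⟩
      (fun hbot => hne (eq_bot_iff.2 fun y hy => by
        have : e.symm y ∈ B.comap e.toMonoidHom := by simpa [hB] using hy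
        rw [hbot, mem_bot] at this
        simpa using congrArg e this))
    rw [hnc T T' h2, ← this]
    ext y
    exact ⟨fun hy => ⟨e.symm y, by simpa [hB] using hy, by simp⟩, by rintro ⟨x, hx, rfl⟩; exact hx⟩
  · intro T
    obtain ⟨T', h1, h2⟩ := key T
    obtain ⟨g, hg, hodd, htr, hφ⟩ := h.exists_cycle T'
    refine ⟨e g, ?_, ?_, fun x hx hx1 y hy hy1 => ?_, fun φ hφT => ?_⟩
    · rw [mem_normalizer_iff]
      intro y
      obtain ⟨x, rfl⟩ := e.surjective y
      rw [← h1, ← map_mul, ← map_inv, ← map_mul, ← h1]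
      exact mem_normalizer_iff.1 hg x
    · rwa [MulEquiv.orderOf_eq]
    · obtain ⟨i, hi⟩ := htr (e.symm x) ((h2 _).2 (by simpa using hx)) (by simpa using hx1) (e.symm y)
        ((h2 _).2 (by simpa using hy)) (by simpa using hy1)
      exact ⟨i, by simpa using congrArg e hi⟩
    · obtain ⟨i, hi⟩ := hφ ((e.trans φ).trans e.symm) fun t ht => (h1 _).2 (by
        simpa using hφT _ ((h1 t).1 ht))
      refine ⟨i, fun x hx => ?_⟩
      simpa using congrArg e (hi (e.symm x) ((h2 _).2 (by simpa using hx)))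
  · intro T φ hk hfix hmove
    obtain ⟨T', h1, h2⟩ := key T
    set ψ : MulAut X := (e.trans φ).trans e.symm with hψ
    have hpow : ∀ m : ℕ, ∀ x : X, (ψ ^ m) x = e.symm ((φ ^ m) (e x)) := by
      intro m
      induction m with
      | zero => simp
      | succ m ih =>
        intro x
        rw [pow_succ, pow_succ, MulAut.mul_apply, MulAut.mul_apply, ih]
        simp [hψ]
    obtain ⟨k, hk⟩ := hk
    obtain ⟨z, hz, hzφ⟩ := h.inner T' ψ ⟨k, MulEquiv.ext fun x => by simp [hpow, hk]⟩
      (fun x hx => by simp [hψ, hfix _ ((h2 x).1 hx)])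
      (fun t ht => (h2 _).2 (by simpa [hψ] using hmove _ ((h1 t).1 ht)))
    refine ⟨e z, (h1 z).1 hz, MulEquiv.ext fun y => ?_⟩
    have := congrArg e (DFunLike.congr_fun hzφ (e.symm y))
    simpa [hψ] using this
  · intro T h8 d hd hd1
    obtain ⟨T', h1, h2⟩ := key T
    rw [hnc T T' h2, Set.ncard_image_of_injective _ e.injective] at h8
    have h0 := h.coreFree T' h8 (e.symm d) ((h2 _).2 (by simpa using hd)) (by simpa using hd1)
    rw [Cfsg.centralizerPPrimeCore, Subgroup.map_eq_bot_iff_of_injective _ (subtype_injective _)] at h0 ⊢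
    let c : ↥(centralizer ({e.symm d} : Set X)) ≃* ↥(centralizer ({d} : Set Y)) :=
      ((centralizer ({e.symm d} : Set X)).equivMapOfInjective e.toMonoidHom e.injective).trans
        (MulEquiv.subgroupCongr (by
          ext y
          obtain ⟨x, rfl⟩ := e.surjective y
          rw [Subgroup.mem_map_equiv, e.symm_apply_apply, mem_centralizer_singleton_iff,
            mem_centralizer_singleton_iff, ← e.injective.eq_iff, map_mul, map_mul, e.apply_symm_apply]))
    rw [← CfsgLib.PCore.map_pPrimeCore_equiv c, h0, Subgroup.map_bot]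
  · intro T Dg hDg h8 φ hodd hfix
    obtain ⟨T', h1, h2⟩ := key T
    set ψ : MulAut X := (e.trans φ).trans e.symm with hψ
    have hpow : ∀ m : ℕ, ∀ x : X, (ψ ^ m) x = e.symm ((φ ^ m) (e x)) := by
      intro m
      induction m with
      | zero => simp
      | succ m ih =>
        intro x
        rw [pow_succ, pow_succ, MulAut.mul_apply, MulAut.mul_apply, ih]
        simp [hψ]
    have hψ1 := h.rigid T' (Dg.comap e.toMonoidHom) (fun x hx => (h2 x).2 (hDg hx))
      (by rwa [Nat.card_congr (Dg.comap e.toMonoidHom |>.equivMapOfInjective e.toMonoidHom e.injective).toEquiv,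
        Subgroup.map_comap_eq_self_of_surjective e.surjective])
      ψ (hodd.of_dvd_nat (orderOf_dvd_of_pow_eq_one (MulEquiv.ext fun x => by
        simp [hpow, pow_orderOf_eq_one])))
      fun d hd hd1 x hx => by
        have := hfix (e d) hd (by simpa using hd1) (e x) (by rw [← map_mul, hx, map_mul])
        simp [hψ, this]
    refine MulEquiv.ext fun y => ?_
    simpa [hψ] using congrArg e (DFunLike.congr_fun hψ1 (e.symm y))

variable {G : Type u} [Group G] [Finite G]

/-- A component containing `img z A` with a four-group as Sylow 2-subgroup. -/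
def FourAt (A : Subgroup G) (z : G) : Prop :=
  ∃ L : Subgroup (CenBar z), Cfsg.IsComponent L ∧ img z A ≤ L ∧
    img z A ⊓ centralizer (L : Set (CenBar z)) = ⊥ ∧
    ∀ Q : Sylow 2 ↥L, Nat.card ↥(Q : Subgroup ↥L) = 4

/-- A component containing `img z A` with non-abelian Sylow 2-subgroups modulo its centre. -/
def UniAt (A : Subgroup G) (z : G) : Prop :=
  ∃ L : Subgroup (CenBar z), Cfsg.IsComponent L ∧ img z A ≤ L ∧
    img z A ⊓ centralizer (L : Set (CenBar z)) = ⊥ ∧
    ∀ Q : Sylow 2 (↥L ⧸ center ↥L), ¬ IsMulCommutative ↥(Q : Subgroup (↥L ⧸ center ↥L))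

namespace Data

variable (D : Data G) [IsSimpleGroup G]

theorem img_card {z : G} (hzA : D.A ≤ cen z) : Nat.card ↥(img z D.A) = 4 :=
  (card_img D.E.isPGroup_A hzA).trans D.four

theorem img_ne_bot {z : G} (hzA : D.A ≤ cen z) : img z D.A ≠ ⊥ := fun h => by
  have := D.img_card hzA
  rw [h, card_bot] at this
  omega

theorem goodComps {z : G} (hz : orderOf z = 2) (hzA : D.A ≤ cen z) : GoodComps (img z D.A) := by
  have hzz : IsPGroup 2 ↥(zpowers z) :=
    IsPGroup.of_card (n := 1) (by rw [Nat.card_zpowers, hz, pow_one])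
  have hzC : z ∈ centralizer (D.A : Set G) :=
    mem_centralizer_iff.2 fun a ha => mem_centralizer_singleton_iff.1 (hzA ha)
  obtain ⟨P, hP⟩ := (D.E.isPGroup_A.to_sup_of_normal_left' hzz
    (zpowers_le.2 (centralizer_le_normalizer _ hzC))).exists_le_sylow
  have hsc := Cfsg.Agent.S1249.result D.E.S P D.A (le_sup_left.trans hP) D.E.sc
  have hPN := sc_le_normalizer hsc
  obtain ⟨⟨k, hkN⟩, hk⟩ := MulAction.exists_smul_eq ↥(normalizer (D.A : Set G)) (P.subtype hPN)
    (D.E.S.subtype D.E.S_le_normalizer)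
  have hzS : k * z * k⁻¹ ∈ (D.E.S : Subgroup G) := by
    have h1 : MulAut.conj (⟨k, hkN⟩ : ↥(normalizer (D.A : Set G)))
        ⟨z, hPN (hP (mem_sup_right (mem_zpowers z)))⟩ ∈
        ((D.E.S.subtype D.E.S_le_normalizer : Sylow 2 _) : Subgroup ↥(normalizer (D.A : Set G))) := by
      rw [← hk]
      exact Subgroup.smul_mem_pointwise_smul _
        (MulAut.conj (⟨k, hkN⟩ : ↥(normalizer (D.A : Set G)))) _
        (show (⟨z, hPN (hP (mem_sup_right (mem_zpowers z)))⟩ : ↥(normalizer (D.A : Set G))) ∈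
          (P.subtype hPN : Subgroup _) from hP (mem_sup_right (mem_zpowers z)))
    simpa [Sylow.coe_subtype, Subgroup.mem_subgroupOf] using h1
  have hgood := D.E.good _ (by rw [← MulAut.conj_apply, MulEquiv.orderOf_eq, hz]) hzS
    (mem_centralizer_iff.2 fun a ha => by
      have ha' : k⁻¹ * a * k ∈ D.A := by simpa using D.conjA (inv_mem hkN) ha
      calc a * (k * z * k⁻¹) = k * (k⁻¹ * a * k * z) * k⁻¹ := by group
        _ = k * (z * (k⁻¹ * a * k)) * k⁻¹ := by rw [mem_centralizer_iff.1 hzC _ ha']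
        _ = _ := by group)
  intro L hL
  have h := hgood _ (IsAComp.map_conj rfl hkN hL)
  let φ := L.equivMapOfInjective (cenBarConj (n := k) (w := z) rfl).toMonoidHom
    (cenBarConj (n := k) (w := z) rfl).injective
  refine agood_congr (QuotientGroup.congr _ _ φ.symm ?_) h
  refine le_antisymm ?_ fun x hx => ?_
  · rintro _ ⟨y, hy, rfl⟩
    refine mem_center_iff.2 fun w => φ.injective ?_
    show φ (w * φ.symm y) = φ (φ.symm y * w)
    rw [map_mul, map_mul, φ.apply_symm_apply, mem_center_iff.1 hy]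
  · refine ⟨φ x, mem_center_iff.2 fun y => ?_, φ.symm_apply_apply x⟩
    obtain ⟨w, rfl⟩ := φ.surjective y
    rw [← map_mul, ← map_mul, mem_center_iff.1 hx w]

theorem exists_localFacts {z : G} (hz : orderOf z = 2) (hzA : D.A ≤ cen z) :
    ∃ (P : Sylow 2 G) (T : Sylow 2 (CenBar z)), D.A ≤ (P : Subgroup G) ∧
      (T : Subgroup (CenBar z)) = img z (P : Subgroup G) ∧
      Cfsg.IsStronglyClosed (img z D.A) (T : Subgroup (CenBar z)) ∧
      LocalFacts (T : Subgroup (CenBar z)) (img z D.A) := by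
  obtain ⟨P, T, hP, hT, hsc⟩ := D.E.exists_local hzA
  exact ⟨P, T, hP.1, hT, hsc,
    localFacts (cenBar_core z) T (img_isMulCommutative D.E.comm_A) hsc (D.goodComps hz hzA)⟩

/-- A component is centralised by the image of `A` or contains it. -/
theorem comp_cases {z : G} (hz : orderOf z = 2) (hzA : D.A ≤ cen z) {L : Subgroup (CenBar z)}
    (hL : Cfsg.IsComponent L) :
    img z D.A ≤ centralizer (L : Set (CenBar z)) ∨
      (img z D.A ≤ L ∧ img z D.A ⊓ centralizer (L : Set (CenBar z)) = ⊥) := by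
  by_cases h : img z D.A ≤ centralizer (L : Set (CenBar z))
  · exact Or.inl h
  obtain ⟨P, T, -, -, -, hloc⟩ := D.exists_localFacts hz hzA
  obtain ⟨W, g, hc⟩ := hloc.exists_cycle L ⟨hL, h⟩
  have hW : W = img z D.A := eq_of_le_of_card_ge hc.cycle.le (by rw [D.img_card hzA]; exact hc.cycle.four_le)
  rw [hW] at hc
  exact Or.inr ⟨hc.le, hc.inf_eq⟩

theorem comp_unique {z : G} {L L' : Subgroup (CenBar z)} (hzA : D.A ≤ cen z) (hL : Cfsg.IsComponent L)
    (hL' : Cfsg.IsComponent L') (hdis : img z D.A ⊓ centralizer (L : Set (CenBar z)) = ⊥)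
    (h' : img z D.A ≤ L') : L' = L := by
  by_contra hne
  exact D.img_ne_bot hzA (by rwa [inf_of_le_left (h'.trans
    (commutator_eq_bot_iff_le_centralizer.1 (CfsgLib.Components.commutator_components_eq_bot hL' hL hne)))]
      at hdis)

/-- A component containing the image of `A`, modulo its centre: the image of `A` is the strongly closed
four-group of the involutions of a Sylow 2-subgroup. -/
theorem comp_quot {z : G} (hz : orderOf z = 2) (hzA : D.A ≤ cen z) {L : Subgroup (CenBar z)}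
    (hL : Cfsg.IsComponent L) (hle : img z D.A ≤ L)
    (hdis : img z D.A ⊓ centralizer (L : Set (CenBar z)) = ⊥) :
    ∃ (T : Sylow 2 (CenBar z)) (Q : Sylow 2 ↥L) (Tb : Sylow 2 (↥L ⧸ center ↥L))
      (Bb : Subgroup (↥L ⧸ center ↥L)),
      Cfsg.IsStronglyClosed (img z D.A) (T : Subgroup (CenBar z)) ∧
      (Q : Subgroup ↥L) = (T : Subgroup (CenBar z)).subgroupOf L ∧
      (Tb : Subgroup (↥L ⧸ center ↥L)) = (Q : Subgroup ↥L).map (QuotientGroup.mk' (center ↥L)) ∧
      Bb = ((img z D.A).subgroupOf L).map (QuotientGroup.mk' (center ↥L)) ∧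
      Cfsg.IsStronglyClosed Bb (Tb : Subgroup (↥L ⧸ center ↥L)) ∧ IsMulCommutative ↥Bb ∧
      Nat.card ↥Bb = 4 ∧ involSet (Tb : Subgroup (↥L ⧸ center ↥L)) = (Bb : Set (↥L ⧸ center ↥L)) := by
  classical
  set B := img z D.A with hBdef
  have hA : IsAComp B L := ⟨hL, fun h => D.img_ne_bot hzA (by rwa [inf_of_le_left h] at hdis)⟩
  have hgood := D.goodComps hz hzA L hA
  obtain ⟨P, T, hAP, hT, hsc, hloc⟩ := D.exists_localFacts hz hzA
  haveI := hL.2.2
  set q := QuotientGroup.mk' (center ↥L) with hq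
  obtain ⟨Q, hQ⟩ := CfsgLib.SubJoin.exists_sylow_subnormal T hL.1
  set Tb : Sylow 2 (↥L ⧸ center ↥L) := Q.mapSurjective (QuotientGroup.mk'_surjective _) with hTb
  have hTmem : ∀ a : ↥L, q a ∈ (Tb : Subgroup (↥L ⧸ center ↥L)) → (a : CenBar z) ∈ (T : Subgroup (CenBar z)) := by
    intro a ha
    rw [hTb, Sylow.coe_mapSurjective, hQ] at ha
    obtain ⟨t, ht, hta⟩ := ha
    have hz' : t⁻¹ * a ∈ center ↥L := QuotientGroup.eq.1 hta
    have hzT : ((t⁻¹ * a : ↥L) : CenBar z) ∈ (T : Subgroup (CenBar z)) := component_center_le_sylow (cenBar_core z) T hL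
      ⟨(t⁻¹ * a).2, mem_centralizer_iff.2 fun x hx => congrArg Subtype.val (mem_center_iff.1 hz' ⟨x, hx⟩)⟩
    simpa using mul_mem (mem_subgroupOf.1 ht) hzT
  set Bb := (B.subgroupOf L).map q with hBb
  have hscb : Cfsg.IsStronglyClosed Bb (Tb : Subgroup (↥L ⧸ center ↥L)) := by
    refine ⟨?_, ?_⟩
    · rw [hTb, Sylow.coe_mapSurjective, hQ]
      exact Subgroup.map_mono fun b hb => hsc.1 hb
    · rintro _ ⟨b, hb, rfl⟩ g hg
      obtain ⟨y, rfl⟩ := QuotientGroup.mk'_surjective _ g
      rw [← map_inv, ← map_mul, ← map_mul] at hg ⊢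
      exact ⟨_, hsc.2 _ hb (y : CenBar z) (by simpa using hTmem _ hg), rfl⟩
  haveI hBc : IsMulCommutative ↥B := img_isMulCommutative D.E.comm_A
  have hBbc : IsMulCommutative ↥Bb := ⟨⟨fun a b => by
    obtain ⟨_, a, ha, rfl⟩ := a
    obtain ⟨_, b, hb, rfl⟩ := b
    refine Subtype.ext ?_
    show q a * q b = q b * q a
    rw [← map_mul, ← map_mul]
    exact congrArg q (Subtype.ext ((congrArg Subtype.val (mul_comm' (⟨_, ha⟩ : B) ⟨_, hb⟩)) :))⟩⟩
  have hinj : Nat.card ↥Bb = 4 := by
    rw [hBb, ← D.img_card hzA, ← hBdef, ← Nat.card_congr (subgroupOfEquivOfLe hle).toEquiv]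
    refine (Nat.card_congr (Equiv.ofBijective (fun b : B.subgroupOf L => (⟨q b, b, b.2, rfl⟩ :
      ↥((B.subgroupOf L).map q))) ⟨fun a b hab => ?_, fun ⟨_, b, hb, hbe⟩ =>
        ⟨⟨b, hb⟩, Subtype.ext hbe⟩⟩)).symm
    have h1 : (a : ↥L)⁻¹ * b ∈ center ↥L := QuotientGroup.eq.1 (congrArg Subtype.val hab)
    have h2 : (((a : ↥L)⁻¹ * b : ↥L) : CenBar z) ∈ B ⊓ centralizer (L : Set (CenBar z)) :=
      ⟨mem_subgroupOf.1 (mul_mem (inv_mem a.2) b.2 : (a : ↥L)⁻¹ * b ∈ B.subgroupOf L), mem_centralizer_iff.2 fun x hx =>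
        congrArg Subtype.val (mem_center_iff.1 h1 ⟨x, hx⟩)⟩
    rw [hdis, mem_bot] at h2
    exact Subtype.ext (inv_mul_eq_one.1 (Subtype.ext h2))
  have hinv : involSet (Tb : Subgroup (↥L ⧸ center ↥L)) = (Bb : Set (↥L ⧸ center ↥L)) :=
    (hgood.sc_eq Tb Bb hscb hBbc (fun h => by rw [h, card_bot] at hinj; omega)).symm
  exact ⟨T, Q, Tb, Bb, hsc, hQ, Sylow.coe_mapSurjective _ _, rfl, hscb, hBbc, hinj, hinv⟩

/-- The types of a component containing the image of `A`. -/
theorem four_or_uni {z : G} (hz : orderOf z = 2) (hzA : D.A ≤ cen z) {L : Subgroup (CenBar z)}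
    (hL : Cfsg.IsComponent L) (hle : img z D.A ≤ L)
    (hdis : img z D.A ⊓ centralizer (L : Set (CenBar z)) = ⊥) :
    FourAt D.A z ∨ UniAt D.A z := by
  classical
  set B := img z D.A with hBdef
  obtain ⟨T, Q, Tb, Bb, hsc, hQ, hTb, hBb, hscb, hBbc, hinj, hinv⟩ := D.comp_quot hz hzA hL hle hdis
  set q := QuotientGroup.mk' (center ↥L) with hq
  haveI := hL.2.2
  haveI hBc : IsMulCommutative ↥B := img_isMulCommutative D.E.comm_A
  by_cases hab : IsMulCommutative ↥(Tb : Subgroup (↥L ⧸ center ↥L))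
  swap
  · refine Or.inr ⟨L, hL, hle, hdis, fun R hR => hab ⟨⟨fun a b => ?_⟩⟩⟩
    exact (Tb.equiv R).injective (by rw [map_mul, map_mul]; exact hR.is_comm.comm _ _)
  refine Or.inl ⟨L, hL, hle, hdis, ?_⟩
  have hrank : Cfsg.PRankLE 2 2 ↥(Tb : Subgroup (↥L ⧸ center ↥L)) := by
    intro R _ hR
    calc Nat.card R ≤ Nat.card ↥Bb := Nat.card_le_card_of_injective
          (fun r : R => (⟨((r : ↥(Tb : Subgroup (↥L ⧸ center ↥L))) : ↥L ⧸ center ↥L), by
            rw [← SetLike.mem_coe, ← hinv]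
            exact ⟨r.1.2, congrArg Subtype.val (hR r r.2)⟩⟩ : ↥Bb))
          (fun a b hab => Subtype.ext (Subtype.ext (congrArg Subtype.val hab :)))
      _ = 2 ^ 2 := hinj
  have hnq : ¬ IsMulCommutative (↥L ⧸ center ↥L) := fun h => by
    refine CfsgLib.Components.quasisimple_center_ne_top hL.2 (top_le_iff.1 ?_)
    rw [← CfsgLib.Components.quasisimple_commutator_eq_top hL.2, _root_.commutator_def, commutator_le]
    intro a _ b _
    rw [← QuotientGroup.eq_one_iff, ← QuotientGroup.mk'_apply, map_commutatorElement,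
      commutatorElement_eq_one_iff_mul_comm]
    exact h.is_comm.comm _ _
  obtain ⟨h4, hel⟩ := card_four_of_rankLE hnq Tb
    (fun x hx y hy => congrArg Subtype.val (hab.is_comm.comm ⟨x, hx⟩ ⟨y, hy⟩)) hrank
  -- the centre is trivial
  have hQB : ∀ t ∈ (Q : Subgroup ↥L), ∃ b : ↥L, (b : CenBar z) ∈ B ∧ b⁻¹ * t ∈ center ↥L := by
    intro t ht
    have h1 : q t ∈ involSet (Tb : Subgroup (↥L ⧸ center ↥L)) := by
      have : q t ∈ (Tb : Subgroup (↥L ⧸ center ↥L)) := by
        rw [hTb]; exact ⟨t, ht, rfl⟩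
      exact ⟨this, hel _ this⟩
    rw [hinv, hBb] at h1
    obtain ⟨b, hb, hbt⟩ := h1
    exact ⟨b, hb, QuotientGroup.eq.1 hbt⟩
  have hQab : ⁅(Q : Subgroup ↥L), (Q : Subgroup ↥L)⁆ = ⊥ := by
    rw [commutator_eq_bot_iff_le_centralizer]
    intro s hs
    refine mem_centralizer_iff.2 fun t ht => ?_
    obtain ⟨b, hb, hbs⟩ := hQB s hs
    obtain ⟨c, hc, hct⟩ := hQB t ht
    have hbc : b * c = c * b :=
      Subtype.ext ((congrArg Subtype.val (mul_comm' (⟨_, hb⟩ : B) ⟨_, hc⟩) :))
    have e1 : s = b * (b⁻¹ * s) := by group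
    have e2 : t = c * (c⁻¹ * t) := by group
    rw [e1, e2]
    exact (((show Commute c b from hbc.symm).mul_right (mem_center_iff.1 hbs c)).mul_left
      ((show Commute (c⁻¹ * t) b from (mem_center_iff.1 hct b).symm).mul_right
        (mem_center_iff.1 hbs (c⁻¹ * t)))).eq
  have hZQ : center ↥L ≤ (Q : Subgroup ↥L) := fun x hx => by
    rw [hQ, mem_subgroupOf]
    exact component_center_le_sylow (cenBar_core z) T hL
      ⟨x.2, mem_centralizer_iff.2 fun y hy => congrArg Subtype.val (mem_center_iff.1 hx ⟨y, hy⟩)⟩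
  have hZ : center ↥L = ⊥ := eq_bot_iff.2 fun x hx => by
    have := CfsgLib.Schur.center_commutator_sylow Q hx
      (by rw [CfsgLib.Components.quasisimple_commutator_eq_top hL.2]; trivial) (hZQ hx)
    rwa [hQab] at this
  intro R
  rw [Nat.card_congr (R.equiv Q).toEquiv, ← h4, hTb]
  refine Nat.card_congr ((Subgroup.equivMapOfInjective _ _ ?_).toEquiv)
  rw [← MonoidHom.ker_eq_bot_iff, QuotientGroup.ker_mk', hZ]

end Data

end CfsgLib.Goldschmidt.RankTwo
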